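import Cfsg.Agent.Lib.U43Type.Count

/-!
Groups of `U₄(3)` type: the conclusion.
-/

set_option autoImplicit false

namespace CfsgLib.U43Type

universe u

variable {G : Type u} [Group G] [Finite G]

theorem order_and_class (D : Hyp G) :
    Nat.card G = 2 ^ 7 * 3 ^ 6 * 5 * 7 ∧ ∀ x y : G, orderOf x = 2 → orderOf y = 2 → IsConj x y := by
  obtain ⟨F, -⟩ := D.exists_frame
  obtain ⟨B⟩ := F.exists_eBase
  constructor
  · rw [← Subgroup.card_top, ← B.H0_eq_top, B.card_H0]
    norm_num
  · intro x y hx hy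
    have h : ∀ {a : G}, orderOf a = 2 → IsConj F.D.z a := fun {a} ha => by
      refine F.one_class ?_ (fun h => by rw [h, orderOf_one] at ha; omega)
      rw [← pow_two, ← ha, pow_orderOf_eq_one]
    exact (h hx).symm.trans (h hy)

theorem iso_psu (D : Hyp G) (K : Type) [Field K] [Fintype K] (hK : Fintype.card K = 9) :
    Nonempty (G ≃* Cfsg.PSU 4 K 3) := by
  obtain ⟨F, -⟩ := D.exists_frame
  obtain ⟨B⟩ := F.exists_eBase
  obtain ⟨e⟩ := B.exists_iso K hK
  exact ⟨(e.trans ((MulEquiv.subgroupCongr B.H0_eq_top).trans Subgroup.topEquiv)).symm⟩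

end CfsgLib.U43Type
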