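import Cfsg.Agent.Lib.U43Type.SpanSub

/-!
Groups of `U₄(3)` type: the 280 points and their two-point stabilisers.
-/

set_option autoImplicit false
set_option linter.style.haveILetI false

namespace CfsgLib.U43Type

open Subgroup

universe u

namespace Frame

variable {G : Type u} [Group G] {F : Frame G}

namespace EBase

variable (B : F.EBase) [Finite G]

/-- The action on 280 points. -/
noncomputable def ψ : B.H0 →* Equiv.Perm (Fin 280) := B.exists_action.choose

theorem ψ_inj : Function.Injective B.ψ := B.exists_action.choose_spec.1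

/-- An element given by a word. -/
noncomputable def wH (l : List ℕ) : B.H0 := ⟨wordVal B.lett l, B.word_mem l⟩

theorem ψ_word (l : List ℕ) : B.ψ (B.wH l) = wordVal PermRep.perm l := by
  induction l with
  | nil => rw [show B.wH [] = 1 from Subtype.ext rfl, map_one]; rfl
  | cons x l ih =>
    rw [show B.wH (x :: l) = ⟨B.lett x, B.lett_mem x⟩ * B.wH l from Subtype.ext (by simp [wH, wordVal]),
      map_mul, ih, show B.ψ ⟨B.lett x, B.lett_mem x⟩ = PermRep.perm x from B.exists_action.choose_spec.2 x _]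
    simp [wordVal]

theorem keyMid_lt : ∀ x < 16, ∀ y ∈ keyMid x, y < 15 := by decide +kernel

theorem ψ_key {x : ℕ} (hx : x < 16) (k : Fin 280) :
    ((B.ψ (B.wH (keyMid x)) k : Fin 280) : ℕ) = PermRep.act (keyMid x) k := by
  rw [B.ψ_word, PermRep.word_val (keyMid_lt x hx)]

theorem transitive (k : Fin 280) : ∃ h : B.H0, B.ψ h 0 = k := by
  obtain ⟨k, hk⟩ := k
  induction k using Nat.strong_induction_on with
  | _ k ih =>
  rcases PermRep.trans_check k hk with rfl | ⟨x, hx, hlt⟩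
  · exact ⟨1, by rw [map_one]; rfl⟩
  · obtain ⟨h, hh⟩ := ih _ hlt (lt_trans hlt hk)
    refine ⟨(B.wH [x])⁻¹ * h, ?_⟩
    rw [map_mul, Equiv.Perm.mul_apply, hh, map_inv, Equiv.Perm.inv_def, Equiv.symm_apply_eq]
    refine Fin.ext ?_
    rw [B.ψ_word, PermRep.word_val (by simp; omega)]
    rfl

/-- The stabiliser of a point. -/
noncomputable def stab (k : Fin 280) : Subgroup B.H0 where
  carrier := {h | B.ψ h k = k}
  one_mem' := by show B.ψ 1 k = k; rw [map_one]; rfl
  mul_mem' := fun {a b} ha hb => by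
    show B.ψ (a * b) k = k
    rw [map_mul, Equiv.Perm.mul_apply, show B.ψ b k = k from hb]; exact ha
  inv_mem' := fun {a} ha => by
    show B.ψ a⁻¹ k = k
    rw [map_inv, Equiv.Perm.inv_def, Equiv.symm_apply_eq]; exact (show B.ψ a k = k from ha).symm

theorem mem_stab {h : B.H0} {k : Fin 280} : h ∈ B.stab k ↔ B.ψ h k = k := Iff.rfl

/-- Orbit and stabiliser inside a subgroup. -/
theorem card_orbit (K : Subgroup B.H0) (k : Fin 280) :
    Nat.card {l : Fin 280 // ∃ h ∈ K, B.ψ h k = l} * Nat.card ↥(K ⊓ B.stab k) = Nat.card K := by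
  letI : MulAction K (Fin 280) := MulAction.compHom _ (B.ψ.comp K.subtype)
  have h : Nat.card (MulAction.orbit K k) * Nat.card (MulAction.stabilizer K k) = Nat.card K := by
    rw [Nat.card_congr (MulAction.orbitEquivQuotientStabilizer K k)]
    exact (Subgroup.card_eq_card_quotient_mul_card_subgroup _).symm
  have e1 : Nat.card {l : Fin 280 // ∃ h ∈ K, B.ψ h k = l} = Nat.card (MulAction.orbit K k) :=
    Nat.card_congr (Equiv.subtypeEquivRight fun l => ⟨fun ⟨h, hh, e⟩ => ⟨⟨h, hh⟩, e⟩, fun ⟨h, e⟩ => ⟨h, h.2, e⟩⟩)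
  have e2 : Nat.card ↥(K ⊓ B.stab k) = Nat.card (MulAction.stabilizer K k) :=
    Nat.card_congr
      { toFun := fun h => ⟨⟨h, h.2.1⟩, h.2.2⟩
        invFun := fun h => ⟨h.1, h.1.2, h.2⟩
        left_inv := fun _ => rfl
        right_inv := fun _ => rfl }
  rw [e1, e2]
  exact h

theorem card_stab (k : Fin 280) : Nat.card (B.stab k) = 11664 := by
  obtain ⟨h₀, hh₀⟩ := B.transitive k
  have h := B.card_orbit ⊤ k
  rw [top_inf_eq, Subgroup.card_top, B.card_H0] at h
  have e : Nat.card {l : Fin 280 // ∃ h ∈ (⊤ : Subgroup B.H0), B.ψ h k = l} = 280 := by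
    have hall : ∀ l : Fin 280, ∃ h ∈ (⊤ : Subgroup B.H0), B.ψ h k = l := fun l => by
      obtain ⟨h₁, hh₁⟩ := B.transitive l
      refine ⟨h₁ * h₀⁻¹, mem_top _, ?_⟩
      rw [map_mul, Equiv.Perm.mul_apply, map_inv, ← hh₀, Equiv.Perm.inv_def, Equiv.symm_apply_apply, hh₁]
    rw [Nat.card_congr (Equiv.subtypeUnivEquiv hall), Nat.card_fin]
  rw [e] at h
  omega

/-- The stabiliser of the first point is generated by the tabulated words. -/
theorem stab_zero : B.stab 0 = Subgroup.closure ((fun x => B.wH (keyMid x)) '' Set.Iio 16) := by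
  set K := Subgroup.closure ((fun x => B.wH (keyMid x)) '' Set.Iio 16) with hK
  have hle : K ≤ B.stab 0 := by
    rw [hK, Subgroup.closure_le]
    rintro _ ⟨x, hx, rfl⟩
    refine Fin.ext ?_
    rw [B.ψ_key hx]
    rcases Nat.lt_or_ge x 14 with h | h
    · exact PermRep.fix_check x h
    · have : x = 14 ∨ x = 15 := by
        simp only [Set.mem_Iio] at hx
        omega
      rcases this with rfl | rfl <;> rfl
  have hmap : CfsgLib.U43Type.span (fun x => wordVal B.lett (keyMid x)) = K.map B.H0.subtype := by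
    rw [hK, MonoidHom.map_closure, ← Set.image_comp]; rfl
  obtain ⟨-, h⟩ := (covers_top B.isSys_lett).card_le
  rw [hmap, Subgroup.card_map_of_injective B.H0.subtype_injective,
    show CfsgLib.U43Type.span B.lett = B.H0 from rfl, B.card_H0] at h
  exact (Subgroup.eq_of_le_of_card_ge hle (by rw [B.card_stab]; omega)).symm

theorem keyMid_inv : ∀ x < 16, ∃ y < 16, (keyMid x = [] ∧ keyMid y = []) ∨
    (keyMid x ≠ [] ∧ keyMid y = ((keyMid x).map (CfsgLib.CosetEnum.linv Top.ip)).reverse) := by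
  decide +kernel

theorem lab_stab {h : B.H0} (hh : h ∈ B.stab 0) (k : Fin 280) : PermRep.lab (B.ψ h k) = PermRep.lab k := by
  rw [B.stab_zero] at hh
  induction hh using Subgroup.closure_induction generalizing k with
  | mem x hx =>
    obtain ⟨i, hi, rfl⟩ := hx
    simp only [Set.mem_Iio] at hi
    rw [B.ψ_key hi]
    rcases Nat.lt_or_ge i 14 with h | h
    · exact PermRep.lab_check i h k k.2
    · have : i = 14 ∨ i = 15 := by omega
      rcases this with rfl | rfl <;> rfl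
  | one => rw [map_one]; rfl
  | mul x y _ _ hx hy => rw [map_mul, Equiv.Perm.mul_apply, hx, hy]
  | inv x _ hx =>
    have := hx (B.ψ x⁻¹ k)
    rw [map_inv, Equiv.Perm.inv_def, Equiv.apply_symm_apply] at this
    rw [map_inv, Equiv.Perm.inv_def]
    exact this.symm

theorem orbit_root (k : Fin 280) : ∃ r : Fin 280, (r = 0 ∨ r = 1 ∨ r = 3) ∧ ∃ h ∈ B.stab 0, B.ψ h r = k := by
  suffices hs : ∀ n, ∀ k : Fin 280, PermRep.rank k < n →
      ∃ r : Fin 280, (r = 0 ∨ r = 1 ∨ r = 3) ∧ ∃ h ∈ B.stab 0, B.ψ h r = k from hs _ k (Nat.lt_succ_self _)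
  intro n
  induction n with
  | zero => intro k hk; omega
  | succ n ih =>
    intro k hk
    rcases PermRep.rank_check k k.2 with h | h | h | ⟨x, hx, hlt⟩
    · exact ⟨k, Or.inl (Fin.ext h), 1, one_mem _, by rw [map_one]; rfl⟩
    · exact ⟨k, Or.inr (Or.inl (Fin.ext h)), 1, one_mem _, by rw [map_one]; rfl⟩
    · exact ⟨k, Or.inr (Or.inr (Fin.ext h)), 1, one_mem _, by rw [map_one]; rfl⟩
    · obtain ⟨r, hr, h, hh, hrk⟩ := ih (B.ψ (B.wH (keyMid x)) k) (by rw [B.ψ_key (by omega)]; omega)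
      have hm : B.wH (keyMid x) ∈ B.stab 0 := by
        rw [B.stab_zero]; exact Subgroup.subset_closure ⟨x, Set.mem_Iio.2 (by omega), rfl⟩
      refine ⟨r, hr, (B.wH (keyMid x))⁻¹ * h, mul_mem (inv_mem hm) hh, ?_⟩
      rw [map_mul, Equiv.Perm.mul_apply, hrk, map_inv, Equiv.Perm.inv_def, Equiv.symm_apply_apply]

theorem lab_roots : PermRep.lab ((1 : Fin 280) : ℕ) = 1 ∧ PermRep.lab ((3 : Fin 280) : ℕ) = 2 :=
  ⟨PermRep.lab_count.2.2.2.1, PermRep.lab_count.2.2.2.2⟩

theorem class_root {k : Fin 280} (hk : k ≠ 0) :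
    (PermRep.lab k = 1 ∧ ∃ h ∈ B.stab 0, B.ψ h 1 = k) ∨ (PermRep.lab k = 2 ∧ ∃ h ∈ B.stab 0, B.ψ h 3 = k) := by
  obtain ⟨r, hr, h, hh, hrk⟩ := B.orbit_root k
  rcases hr with rfl | rfl | rfl
  · exact absurd (hrk.symm.trans (B.mem_stab.1 hh)) hk
  · exact Or.inl ⟨by rw [← hrk, B.lab_stab hh]; exact lab_roots.1, h, hh, hrk⟩
  · exact Or.inr ⟨by rw [← hrk, B.lab_stab hh]; exact lab_roots.2, h, hh, hrk⟩

/-- The orders of the two-point stabilisers. -/
theorem two_point {k : Fin 280} (hk : k ≠ 0) :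
    Nat.card ↥(B.stab 0 ⊓ B.stab k) = 48 ∨
      (Nat.card ↥(B.stab 0 ⊓ B.stab k) = 324 ∧ ∃ h ∈ B.stab 0, B.ψ h 3 = k) := by
  have h := B.card_orbit (B.stab 0) k
  rw [B.card_stab] at h
  have horb : ∀ l : Fin 280, (∃ g ∈ B.stab 0, B.ψ g k = l) ↔ PermRep.lab l = PermRep.lab k := by
    intro l
    refine ⟨fun ⟨g, hg, e⟩ => e ▸ B.lab_stab hg k, fun hl => ?_⟩
    have hl0 : l ≠ 0 := by
      rintro rfl
      rcases B.class_root hk with ⟨e, -⟩ | ⟨e, -⟩ <;> rw [e] at hl <;>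
        exact absurd hl (by decide +kernel)
    rcases B.class_root hk with ⟨e, g, hg, hgk⟩ | ⟨e, g, hg, hgk⟩ <;>
      rcases B.class_root hl0 with ⟨e', g', hg', hgl⟩ | ⟨e', g', hg', hgl⟩ <;>
      first
      | (exfalso; omega)
      | exact ⟨g' * g⁻¹, mul_mem hg' (inv_mem hg), by
          rw [map_mul, Equiv.Perm.mul_apply, map_inv, ← hgk, Equiv.Perm.inv_def, Equiv.symm_apply_apply, hgl]⟩
  have hcnt : ∀ c : ℕ, Nat.card {l : Fin 280 // PermRep.lab l = c} =
      ((List.range 280).filter fun k => Nat.beq (PermRep.lab k) c).length := by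
    intro c
    classical
    rw [Nat.card_eq_fintype_card, Fintype.card_subtype]
    rw [← List.toFinset_card_of_nodup (List.Nodup.filter _ (List.nodup_range)),
      ← Finset.card_map Fin.valEmbedding]
    congr 1
    ext n
    simp only [Finset.mem_map, Finset.mem_filter, Finset.mem_univ, true_and, Fin.valEmbedding_apply,
      List.mem_toFinset, List.mem_filter, List.mem_range, Nat.beq_eq]
    exact ⟨fun ⟨a, ha, e⟩ => ⟨e ▸ a.2, e ▸ ha⟩, fun ⟨h1, h2⟩ => ⟨⟨n, h1⟩, h2, rfl⟩⟩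
  rw [Nat.card_congr (Equiv.subtypeEquivRight horb), hcnt] at h
  rcases B.class_root hk with ⟨e, -⟩ | ⟨e, h3⟩
  · rw [e, PermRep.lab_count.2.1] at h; exact Or.inl (by omega)
  · rw [e, PermRep.lab_count.1] at h; exact Or.inr ⟨by omega, h3⟩

/-- The group of order 81 fixes two collinear points. -/
theorem exists_e81 : ∃ E : Subgroup B.H0, E ≤ B.stab 0 ⊓ B.stab 3 ∧ Nat.card E = 81 ∧
    (⟨F.xa, B.lett_mem 0⟩ : B.H0) ∈ E := by
  obtain ⟨E, hE, -⟩ := F.exists_E
  have hgen : ∀ l ∈ [[0], [6, 0, 6], [7], [9]], ∀ k : Fin 280,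
      ((B.ψ (B.wH l) k : Fin 280) : ℕ) = PermRep.act l k := fun l hl k => by
    rw [B.ψ_word, PermRep.word_val ((show ∀ l ∈ [[0], [6, 0, 6], [7], [9]], ∀ x ∈ l, x < 15 by decide) l hl)]
  have hfix : ∀ l ∈ [[0], [6, 0, 6], [7], [9]], B.wH l ∈ B.stab 0 ⊓ B.stab 3 := by
    intro l hl
    have h0 : PermRep.act l 0 = 0 :=
      (show ∀ l ∈ [[0], [6, 0, 6], [7], [9]], PermRep.act l 0 = 0 by decide +kernel) l hl
    have h3 : PermRep.act l 3 = 3 :=
      (show ∀ l ∈ [[0], [6, 0, 6], [7], [9]], PermRep.act l 3 = 3 by decide +kernel) l hl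
    exact ⟨Fin.ext ((hgen l hl 0).trans h0), Fin.ext ((hgen l hl 3).trans h3)⟩
  have hc : wordVal B.lett [6, 0, 6] = F.xb := by
    have h := F.s_xa.1
    rw [F.s_inv] at h
    simp only [wordVal, List.map_cons, List.map_nil, List.prod_cons, List.prod_nil, mul_one, lett, letters]
    rw [← mul_assoc, h]
  have hel : ∀ i j k l : Fin 3, ∃ y : B.H0, y ∈ B.stab 0 ⊓ B.stab 3 ∧ (y : G) = B.el i j k l := by
    intro i j k l
    refine ⟨B.wH [0] ^ (i : ℕ) * B.wH [6, 0, 6] ^ (j : ℕ) * (B.wH [7] ^ (k : ℕ) * B.wH [9] ^ (l : ℕ)),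
      mul_mem (mul_mem (pow_mem (hfix _ (by simp)) _) (pow_mem (hfix _ (by simp)) _))
        (mul_mem (pow_mem (hfix _ (by simp)) _) (pow_mem (hfix _ (by simp)) _)), ?_⟩
    rw [B.el_form, ← hc]
    simp [wH, wordVal, lett, letters]
  refine ⟨E.subgroupOf B.H0, ?_, ?_, mem_subgroupOf.2 ((hE _).2 (F.isE_XX F.xa_mem))⟩
  · intro x hx
    obtain ⟨i, j, k, l, he⟩ := B.all_E ((hE _).1 (mem_subgroupOf.1 hx))
    obtain ⟨y, hy, hye⟩ := hel i j k l
    rwa [show x = y from Subtype.ext (he.trans hye.symm)]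
  · let φ : Fin 3 × Fin 3 × Fin 3 × Fin 3 → E.subgroupOf B.H0 := fun v =>
      ⟨(hel v.1 v.2.1 v.2.2.1 v.2.2.2).choose, mem_subgroupOf.2 (by
        rw [(hel _ _ _ _).choose_spec.2]; exact (hE _).2 (B.isE_el _ _ _ _))⟩
    have hbij : Function.Bijective φ := by
      refine ⟨fun a b hab => ?_, fun x => ?_⟩
      · have h := congrArg (fun y : E.subgroupOf B.H0 => ((y : B.H0) : G)) hab
        simp only [φ, (hel _ _ _ _).choose_spec.2] at h
        obtain ⟨e1, e2, e3, e4⟩ := B.el_inj h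
        exact Prod.ext e1 (Prod.ext e2 (Prod.ext e3 e4))
      · obtain ⟨i, j, k, l, he⟩ := B.all_E ((hE _).1 (mem_subgroupOf.1 x.2))
        exact ⟨(i, j, k, l), Subtype.ext (Subtype.ext ((hel i j k l).choose_spec.2.trans he.symm))⟩
    rw [← Nat.card_congr (Equiv.ofBijective φ hbij)]
    simp

end EBase

end Frame

end CfsgLib.U43Type
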