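import Cfsg.Agent.Lib.U43Type.Small
import Cfsg.Agent.Lib.Components.GenFitting
import Cfsg.Agent.Lib.Solvable.Core
import Cfsg.Prelude.Def_Solvable

/-!
Groups of `U₄(3)` type: the data carried by the centralizer of the involution.
-/

set_option autoImplicit false
set_option linter.style.haveILetI false

namespace CfsgLib.U43Type

open Subgroup

/-- Pairs of elements of `SL(2, 3)`. -/
abbrev Pr : Type := SL23 × SL23

theorem SL23.four_inv : ∀ a : SL23, a ^ 4 = 1 → (a⁻¹) ^ 4 = 1 := fun a h => by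
  rw [inv_pow, h, inv_one]

/-- The pairs of elements of the quaternion group. -/
def Qs : Subgroup Pr where
  carrier := {p | p.1 ^ 4 = 1 ∧ p.2 ^ 4 = 1}
  mul_mem' := fun {p q} hp hq => ⟨SL23.four_mul _ _ hp.1 hq.1, SL23.four_mul _ _ hp.2 hq.2⟩
  one_mem' := ⟨one_pow 4, one_pow 4⟩
  inv_mem' := fun {p} hp => ⟨SL23.four_inv _ hp.1, SL23.four_inv _ hp.2⟩

theorem mem_Qs {p : Pr} : p ∈ Qs ↔ p.1 ^ 4 = 1 ∧ p.2 ^ 4 = 1 := Iff.rfl

theorem card_Qs : Nat.card Qs = 64 := by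
  let e : Qs ≃ {a : SL23 // a ^ 4 = 1} × {a : SL23 // a ^ 4 = 1} :=
    { toFun := fun p => (⟨p.1.1, p.2.1⟩, ⟨p.1.2, p.2.2⟩)
      invFun := fun p => ⟨(p.1.1, p.2.1), p.1.2, p.2.2⟩
      left_inv := fun _ => rfl
      right_inv := fun _ => rfl }
  rw [Nat.card_congr e, Nat.card_prod, Nat.card_eq_fintype_card, SL23.four_card]

theorem SL23.word4 : ∀ a : SL23, ∃ e : Fin 3 × Fin 3 × Fin 3 × Fin 3,
    a = SL23.xx ^ (e.1 : ℕ) * SL23.yy ^ (e.2.1 : ℕ) * SL23.xx ^ (e.2.2.1 : ℕ) * SL23.yy ^ (e.2.2.2 : ℕ) := by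
  decide +kernel

theorem SL23.two_element : ∀ a : SL23, a ^ 24 = 1 ∧ (a ^ 8 = 1 → a ^ 4 = 1) := by decide +kernel

theorem SL23.four_conj_mem : ∀ a b : SL23, a ^ 4 = 1 → (b * a * b⁻¹) ^ 4 = 1 := fun a b h => by
  rw [conj_pow, h, mul_one, mul_inv_cancel]

/-- An element of `SL(2, 3)` of 2-power order lies in the quaternion group. -/
theorem SL23.four_of_pow {a : SL23} {m : ℕ} (h : a ^ 2 ^ m = 1) : a ^ 4 = 1 := by
  refine (SL23.two_element a).2 ?_
  have h1 := orderOf_dvd_of_pow_eq_one h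
  have h2 := orderOf_dvd_of_pow_eq_one (SL23.two_element a).1
  obtain ⟨k, -, hk⟩ := (Nat.dvd_prime_pow Nat.prime_two).1 h1
  rw [hk] at h2
  have hk3 : k ≤ 3 := by
    by_contra hc
    have : 2 ^ 4 ∣ 24 := (Nat.pow_dvd_pow 2 (by omega : 4 ≤ k)).trans h2
    norm_num at this
  exact orderOf_dvd_iff_pow_eq_one.1 (hk ▸ (Nat.pow_dvd_pow 2 hk3 : 2 ^ k ∣ 2 ^ 3))

/-- What the hypothesis on a group of `U₄(3)` type gives. -/
structure Hyp (G : Type*) [Group G] where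
  z : G
  f : Pr →* G
  z_ne : z ≠ 1
  z_sq : z * z = 1
  ker : ∀ p, f p = 1 ↔ p = 1 ∨ p = (SL23.neg, SL23.neg)
  f_neg : f (SL23.neg, 1) = z
  f_comm : ∀ p, Commute (f p) z
  card_C : Nat.card (centralizer ({z} : Set G)) = 1152
  normal : ∀ c, Commute c z → ∀ p, ∃ p', f p' = c * f p * c⁻¹
  odd_mem : ∀ c, Commute c z → Odd (orderOf c) → ∃ p, f p = c
  cent : ∀ c, Commute c z → (∀ p ∈ Qs, Commute c (f p)) → ∃ p ∈ Qs, f p = c
  nwc : ∃ g : G, ∃ p ∈ Qs, f p = g * z * g⁻¹ ∧ g * z * g⁻¹ ≠ z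
  inter : ∀ g : G, g * z * g⁻¹ ∈ Qs.map f → g * z * g⁻¹ ≠ z →
    Nat.card ↥(Qs.map f ⊓ (Qs.map f).map (MulAut.conj g).toMonoidHom) = 4

universe u

variable {G : Type u} [Group G]

/-- A homomorphism from `SL(2, 3)` into a group of exponent two is trivial. -/
theorem SL23.hom_sq {M : Type*} [Monoid M] (ψ : SL23 →* M) (h : ∀ a, ψ a * ψ a = 1) (a : SL23) : ψ a = 1 := by
  have hgen : ∀ b : SL23, b ^ 3 = 1 → ψ b = 1 := fun b hb => by
    calc ψ b = ψ b * (ψ b * ψ b) := by rw [h, mul_one]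
      _ = 1 := by rw [← map_mul, ← map_mul, ← map_one ψ, ← hb, pow_succ', pow_two]
  obtain ⟨e, he⟩ := SL23.word4 a
  rw [he, map_mul, map_mul, map_mul, map_pow, map_pow, map_pow, map_pow,
    hgen _ (by decide +kernel), hgen _ (by decide +kernel)]
  simp

/-- The hypothesis in the shape of the statements gives the data. -/
theorem exists_hyp [Finite G] (z : G) (hz : orderOf z = 2)
    (H₁ H₂ : Subgroup (centralizer ({z} : Set G)))
    (hK : H₁ ⊔ H₂ = Subgroup.closure {x : centralizer ({z} : Set G) | Odd (orderOf x)})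
    (hn₁ : (H₁.subgroupOf (H₁ ⊔ H₂)).Normal) (hn₂ : (H₂.subgroupOf (H₁ ⊔ H₂)).Normal)
    (e₁ : H₁ ≃* SL23) (e₂ : H₂ ≃* SL23)
    (hmeet : (H₁ ⊓ H₂).map (Subgroup.subtype (centralizer ({z} : Set G))) = Subgroup.zpowers z)
    (Q : Subgroup (centralizer ({z} : Set G))) [Q.Normal]
    (hQ : Q = (Cfsg.pCore 2 ↥(H₁ ⊔ H₂)).map (Subgroup.subtype (H₁ ⊔ H₂)))
    (hF : Cfsg.generalizedFittingSubgroup (centralizer ({z} : Set G)) = Q)
    (hnwc : ∃ g : G, (∃ hq : g * z * g⁻¹ ∈ centralizer ({z} : Set G),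
      (⟨g * z * g⁻¹, hq⟩ : centralizer ({z} : Set G)) ∈ Q) ∧ g * z * g⁻¹ ≠ z)
    (hH : Nat.card ↥(centralizer ({z} : Set G)) = 2 ^ 7 * 3 ^ 2)
    (hQQg : ∀ g : G, g * z * g⁻¹ ∈ Q.map (Subgroup.subtype (centralizer ({z} : Set G))) → g * z * g⁻¹ ≠ z →
      Nat.card ↥((Q.map (Subgroup.subtype (centralizer ({z} : Set G)))) ⊓
        (Q.map (Subgroup.subtype (centralizer ({z} : Set G)))).map (MulAut.conj g).toMonoidHom) = 4) :
    ∃ D : Hyp G, D.z = z := by
  haveI : Fact (Nat.Prime 2) := ⟨Nat.prime_two⟩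
  have hz1 : z ≠ 1 := fun h => by rw [h, orderOf_one] at hz; omega
  have hz2 : z * z = 1 := by
    have := pow_orderOf_eq_one z
    rwa [hz, pow_two] at this
  have hzC : z ∈ (centralizer ({z} : Set G)) := mem_centralizer_singleton_iff.2 rfl
  have hcen : ∀ c : (centralizer ({z} : Set G)), c * ⟨z, hzC⟩ = ⟨z, hzC⟩ * c := fun c =>
    Subtype.ext (mem_centralizer_singleton_iff.1 c.2)
  have hmem : ∀ c : (centralizer ({z} : Set G)), c ∈ H₁ ⊓ H₂ ↔ (c : G) = 1 ∨ (c : G) = z := by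
    intro c
    constructor
    · intro hc
      have : (c : G) ∈ zpowers z := hmeet ▸ ⟨c, hc, rfl⟩
      obtain ⟨k, hk⟩ := mem_zpowers_iff.1 this
      rcases Int.even_or_odd k with ⟨m, rfl⟩ | ⟨m, rfl⟩
      · left; rw [← hk, zpow_add, ← (Commute.refl z).mul_zpow, hz2, one_zpow]
      · right; rw [← hk, zpow_add_one, zpow_mul, show z ^ (2 : ℤ) = 1 by rw [zpow_ofNat, pow_two, hz2],
          one_zpow, one_mul]
    · intro h
      have : (c : G) ∈ zpowers z := by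
        rcases h with h | h <;> rw [h]
        · exact one_mem _
        · exact mem_zpowers z
      rw [← hmeet] at this
      obtain ⟨d, hd, hdc⟩ := this
      rwa [show c = d from Subtype.ext hdc.symm]
  -- the factors commute
  have hsub : ∀ a ∈ H₁, ∀ b ∈ H₂, a * b * a⁻¹ * b⁻¹ ∈ H₁ ⊓ H₂ := by
    intro a ha b hb
    have hbK : b ∈ H₁ ⊔ H₂ := le_sup_right (a := H₁) hb
    have haK : a ∈ H₁ ⊔ H₂ := le_sup_left (b := H₂) ha
    refine ⟨?_, ?_⟩
    · have h1 : (⟨b, hbK⟩ * ⟨a, haK⟩⁻¹ * ⟨b, hbK⟩⁻¹ : ↥(H₁ ⊔ H₂)) ∈ H₁.subgroupOf (H₁ ⊔ H₂) :=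
        hn₁.conj_mem _ (inv_mem (mem_subgroupOf.2 ha)) _
      have h2 : b * a⁻¹ * b⁻¹ ∈ H₁ := mem_subgroupOf.1 h1
      have := mul_mem ha h2
      rwa [show a * b * a⁻¹ * b⁻¹ = a * (b * a⁻¹ * b⁻¹) by group]
    · have h1 : (⟨a, haK⟩ * ⟨b, hbK⟩ * ⟨a, haK⟩⁻¹ : ↥(H₁ ⊔ H₂)) ∈ H₂.subgroupOf (H₁ ⊔ H₂) :=
        hn₂.conj_mem _ (mem_subgroupOf.2 hb) _
      exact H₂.mul_mem (mem_subgroupOf.1 h1) (H₂.inv_mem hb)
  let ι₁ : SL23 →* G := (centralizer ({z} : Set G)).subtype.comp (H₁.subtype.comp e₁.symm.toMonoidHom)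
  let ι₂ : SL23 →* G := (centralizer ({z} : Set G)).subtype.comp (H₂.subtype.comp e₂.symm.toMonoidHom)
  have hκ : ∀ a b : SL23, ι₁ a * ι₂ b * (ι₁ a)⁻¹ * (ι₂ b)⁻¹ = 1 ∨ ι₁ a * ι₂ b * (ι₁ a)⁻¹ * (ι₂ b)⁻¹ = z := by
    intro a b
    exact (hmem _).1 (hsub _ (e₁.symm a).2 _ (e₂.symm b).2)
  have hzι : ∀ a, Commute (ι₁ a) z ∧ Commute (ι₂ a) z := fun a =>
    ⟨mem_centralizer_singleton_iff.1 (e₁.symm a : (centralizer ({z} : Set G))).2, mem_centralizer_singleton_iff.1 (e₂.symm a : (centralizer ({z} : Set G))).2⟩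
  have hcomm : ∀ a b, Commute (ι₁ a) (ι₂ b) := by
    intro a b
    let ψ : SL23 →* G :=
      { toFun := fun x => ι₁ x * ι₂ b * (ι₁ x)⁻¹ * (ι₂ b)⁻¹
        map_one' := by simp
        map_mul' := fun x y => by
          have hy : Commute (ι₁ x) (ι₁ y * ι₂ b * (ι₁ y)⁻¹ * (ι₂ b)⁻¹) := by
            rcases hκ y b with h | h <;> rw [h]
            · exact Commute.one_right _
            · exact (hzι x).1
          have hx : Commute (ι₁ x * ι₂ b * (ι₁ x)⁻¹ * (ι₂ b)⁻¹) (ι₁ y * ι₂ b * (ι₁ y)⁻¹ * (ι₂ b)⁻¹) := by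
            rcases hκ x b with h | h <;> rw [h]
            · exact Commute.one_left _
            · rcases hκ y b with h' | h' <;> rw [h']
              · exact Commute.one_right _
          calc ι₁ (x * y) * ι₂ b * (ι₁ (x * y))⁻¹ * (ι₂ b)⁻¹
              = ι₁ x * (ι₁ y * ι₂ b * (ι₁ y)⁻¹ * (ι₂ b)⁻¹) * (ι₂ b * (ι₁ x)⁻¹ * (ι₂ b)⁻¹) := by
                rw [map_mul]; group
            _ = (ι₁ y * ι₂ b * (ι₁ y)⁻¹ * (ι₂ b)⁻¹) * (ι₁ x * ι₂ b * (ι₁ x)⁻¹ * (ι₂ b)⁻¹) := by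
                rw [hy.eq]; group
            _ = _ := hx.eq.symm }
    have h := SL23.hom_sq ψ (fun x => by
      rcases hκ x b with h | h
      · show ι₁ x * ι₂ b * (ι₁ x)⁻¹ * (ι₂ b)⁻¹ * (ι₁ x * ι₂ b * (ι₁ x)⁻¹ * (ι₂ b)⁻¹) = 1
        rw [h, one_mul]
      · show ι₁ x * ι₂ b * (ι₁ x)⁻¹ * (ι₂ b)⁻¹ * (ι₁ x * ι₂ b * (ι₁ x)⁻¹ * (ι₂ b)⁻¹) = 1
        rw [h, hz2]) a
    have h' : ι₁ a * ι₂ b * (ι₁ a)⁻¹ * (ι₂ b)⁻¹ = 1 := h
    rw [mul_inv_eq_one, mul_inv_eq_iff_eq_mul] at h'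
    exact h'
  let f : Pr →* G := ι₁.noncommCoprod ι₂ hcomm
  have hf : ∀ p : Pr, f p = ι₁ p.1 * ι₂ p.2 := fun p => rfl
  have hinj : ∀ (i : SL23 →* G), (i = ι₁ ∨ i = ι₂) → Function.Injective i := by
    rintro i (rfl | rfl)
    · exact Subtype.val_injective.comp (Subtype.val_injective.comp e₁.symm.injective)
    · exact Subtype.val_injective.comp (Subtype.val_injective.comp e₂.symm.injective)
  have hzH : (⟨z, hzC⟩ : (centralizer ({z} : Set G))) ∈ H₁ ⊓ H₂ := (hmem _).2 (Or.inr rfl)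
  have hnegz : ι₁ SL23.neg = z ∧ ι₂ SL23.neg = z := by
    have key : ∀ (H : Subgroup (centralizer ({z} : Set G))) (e : H ≃* SL23) (hh : (⟨z, hzC⟩ : (centralizer ({z} : Set G))) ∈ H),
        ((e.symm SL23.neg : H) : (centralizer ({z} : Set G))) = ⟨z, hzC⟩ := by
      intro H e hh
      have h2 : e ⟨_, hh⟩ * e ⟨_, hh⟩ = 1 := by
        rw [← map_mul, show (⟨_, hh⟩ * ⟨_, hh⟩ : H) = 1 from Subtype.ext (Subtype.ext hz2), map_one]
      rcases SL23.unique_invol _ h2 with h | h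
      · exact absurd (congrArg (fun c : H => ((c : (centralizer ({z} : Set G))) : G))
          (e.injective (h.trans (map_one e).symm))) hz1
      · rw [← h, MulEquiv.symm_apply_apply]
    exact ⟨congrArg Subtype.val (key H₁ e₁ hzH.1), congrArg Subtype.val (key H₂ e₂ hzH.2)⟩
  have hker : ∀ p, f p = 1 ↔ p = 1 ∨ p = (SL23.neg, SL23.neg) := by
    intro p
    constructor
    · intro h
      rw [hf, mul_eq_one_iff_eq_inv] at h
      have hm : ((e₁.symm p.1 : H₁) : (centralizer ({z} : Set G))) ∈ H₁ ⊓ H₂ := ⟨(e₁.symm p.1).2, by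
        rw [show ((e₁.symm p.1 : H₁) : (centralizer ({z} : Set G))) = ((e₂.symm p.2 : H₂) : (centralizer ({z} : Set G)))⁻¹ from Subtype.ext h]
        exact H₂.inv_mem (e₂.symm p.2).2⟩
      rcases (hmem _).1 hm with h1 | h1
      · left
        have h1' : ι₁ p.1 = 1 := h1
        have h2 : ι₂ p.2 = 1 := by rwa [h1', eq_comm, inv_eq_one] at h
        exact Prod.ext (hinj _ (Or.inl rfl) (h1'.trans (map_one _).symm))
          (hinj _ (Or.inr rfl) (h2.trans (map_one _).symm))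
      · right
        have h1' : ι₁ p.1 = z := h1
        have h2 : ι₂ p.2 = z := by
          rw [h1', eq_inv_iff_mul_eq_one] at h
          exact ((inv_eq_of_mul_eq_one_right h).symm.trans (inv_eq_of_mul_eq_one_right hz2))
        exact Prod.ext (hinj _ (Or.inl rfl) (h1'.trans hnegz.1.symm))
          (hinj _ (Or.inr rfl) (h2.trans hnegz.2.symm))
    · rintro (rfl | rfl)
      · exact map_one f
      · rw [hf, hnegz.1, hnegz.2, hz2]
  have hrange : f.range = (H₁ ⊔ H₂).map (centralizer ({z} : Set G)).subtype := by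
    rw [show f = ι₁.noncommCoprod ι₂ hcomm from rfl, MonoidHom.noncommCoprod_range, Subgroup.map_sup]
    congr 1
    · rw [MonoidHom.range_comp, MonoidHom.range_comp, MonoidHom.range_eq_top.2 e₁.symm.surjective,
        ← MonoidHom.range_eq_map, range_subtype]
    · rw [MonoidHom.range_comp, MonoidHom.range_comp, MonoidHom.range_eq_top.2 e₂.symm.surjective,
        ← MonoidHom.range_eq_map, range_subtype]
  have hKn : (H₁ ⊔ H₂).Normal := by
    refine ⟨fun x hx g => ?_⟩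
    rw [hK] at hx ⊢
    induction hx using Subgroup.closure_induction with
    | mem x hx =>
      refine Subgroup.subset_closure ?_
      show Odd (orderOf _)
      rwa [show g * x * g⁻¹ = MulAut.conj g x from rfl, MulEquiv.orderOf_eq]
    | one => simp
    | mul a b _ _ ha hb =>
      rw [show g * (a * b) * g⁻¹ = g * a * g⁻¹ * (g * b * g⁻¹) by group]; exact mul_mem ha hb
    | inv a _ ha =>
      rw [show g * a⁻¹ * g⁻¹ = (g * a * g⁻¹)⁻¹ by group]; exact inv_mem ha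
  -- Q
  have hQeq : Qs.map f = Q.map (centralizer ({z} : Set G)).subtype := by
    apply le_antisymm
    · rintro - ⟨p, hp, rfl⟩
      obtain ⟨c, hc, hcp⟩ := hrange ▸ (MonoidHom.mem_range.2 ⟨p, rfl⟩ : f p ∈ f.range)
      refine ⟨c, ?_, hcp⟩
      let N : Subgroup ↥(H₁ ⊔ H₂) := (Qs.map f).comap ((centralizer ({z} : Set G)).subtype.comp (H₁ ⊔ H₂).subtype)
      have hN : N.Normal := by
        refine ⟨fun x hx g => ?_⟩
        obtain ⟨q, hq, hqx⟩ := hx
        obtain ⟨r, hr⟩ := MonoidHom.mem_range.1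
          (hrange.symm ▸ mem_map_of_mem (centralizer ({z} : Set G)).subtype g.2 : ((g : (centralizer ({z} : Set G))) : G) ∈ f.range)
        exact ⟨r * q * r⁻¹, ⟨SL23.four_conj_mem _ _ hq.1, SL23.four_conj_mem _ _ hq.2⟩, by
          rw [map_mul, map_mul, map_inv, hr, hqx]; rfl⟩
      have hNp : IsPGroup 2 N := by
        refine IsPGroup.of_injective ((IsPGroup.of_card (n := 6) card_Qs).map f)
          (((centralizer ({z} : Set G)).subtype.comp (H₁ ⊔ H₂).subtype).subgroupComap (Qs.map f)) ?_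
        intro a b hab
        exact Subtype.ext (Subtype.ext (Subtype.ext (congrArg (fun q : ↥(Qs.map f) => (q : G)) hab)))
      rw [hQ]
      refine ⟨⟨c, hc⟩, CfsgLib.Solvable.le_pCore hN hNp ?_, rfl⟩
      show (centralizer ({z} : Set G)).subtype c ∈ Qs.map f
      exact ⟨p, hp, hcp.symm⟩
    · rintro - ⟨c, hc, rfl⟩
      rw [hQ] at hc
      obtain ⟨d, hd, rfl⟩ := hc
      obtain ⟨p, hp⟩ := MonoidHom.mem_range.1
        (hrange.symm ▸ mem_map_of_mem (centralizer ({z} : Set G)).subtype d.2 : ((d : (centralizer ({z} : Set G))) : G) ∈ f.range)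
      obtain ⟨m, hm⟩ := CfsgLib.Solvable.pCore_isPGroup (p := 2) _ ⟨d, hd⟩
      have hpm : f (p ^ 2 ^ m) = 1 := by
        rw [map_pow, hp]
        exact congrArg (fun e : Cfsg.pCore 2 ↥(H₁ ⊔ H₂) => (((e : ↥(H₁ ⊔ H₂)) : (centralizer ({z} : Set G))) : G)) hm
      have hpm' : p ^ 2 ^ (m + 1) = 1 := by
        rw [pow_succ, pow_mul]
        rcases (hker _).1 hpm with h | h <;> rw [h]
        · exact one_pow _
        · decide +kernel
      exact ⟨p, ⟨SL23.four_of_pow (congrArg Prod.fst hpm'), SL23.four_of_pow (congrArg Prod.snd hpm')⟩, hp⟩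
  have hcentQ : centralizer (Q : Set (centralizer ({z} : Set G))) ≤ Q := by
    have h := CfsgLib.Components.centralizer_genFitting_le (G := ↥(centralizer ({z} : Set G)))
    rwa [hF] at h
  refine ⟨{ z := z, f := f, z_ne := hz1, z_sq := hz2, ker := hker,
            f_neg := by rw [hf, hnegz.1, map_one, mul_one]
            f_comm := fun p => (hzι p.1).1.mul_left (hzι p.2).2
            card_C := by rw [hH]; norm_num
            normal := ?_, odd_mem := ?_, cent := ?_, nwc := ?_, inter := ?_ }, rfl⟩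
  · intro c hc p
    have hp : f p ∈ f.range := ⟨p, rfl⟩
    rw [hrange] at hp
    obtain ⟨k, hk, hkp⟩ := hp
    let c' : (centralizer ({z} : Set G)) := ⟨c, mem_centralizer_singleton_iff.2 hc⟩
    have h1 : c * f p * c⁻¹ ∈ f.range := by
      rw [hrange]
      exact ⟨c' * k * c'⁻¹, hKn.conj_mem k hk c', by rw [← hkp]; rfl⟩
    exact h1
  · intro c hc ho
    have h1 : c ∈ f.range := by
      rw [hrange]
      refine ⟨⟨c, mem_centralizer_singleton_iff.2 hc⟩, ?_, rfl⟩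
      rw [hK]
      refine Subgroup.subset_closure ?_
      show Odd (orderOf _)
      rwa [← Subgroup.orderOf_coe]
    exact h1
  · intro c hc hcQ
    let c' : (centralizer ({z} : Set G)) := ⟨c, mem_centralizer_singleton_iff.2 hc⟩
    have h : c' ∈ centralizer (Q : Set (centralizer ({z} : Set G))) := by
      intro q hq
      obtain ⟨p, hp, hpq⟩ := hQeq.symm ▸ mem_map_of_mem (centralizer ({z} : Set G)).subtype hq
      apply Subtype.ext
      show (q : G) * c = c * q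
      rw [show (q : G) = f p from hpq.symm]
      exact (hcQ p hp).eq.symm
    obtain ⟨p, hp, hpc⟩ := hQeq.symm ▸ mem_map_of_mem (centralizer ({z} : Set G)).subtype (hcentQ h)
    exact ⟨p, hp, hpc⟩
  · obtain ⟨g, ⟨hq, hgQ⟩, hne⟩ := hnwc
    obtain ⟨p, hp, hpq⟩ := hQeq.symm ▸ mem_map_of_mem (centralizer ({z} : Set G)).subtype hgQ
    exact ⟨g, p, hp, hpq, hne⟩
  · intro g hg hne
    rw [hQeq] at hg ⊢
    exact hQQg g hg hne

end CfsgLib.U43Type
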