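import Cfsg.Agent.Lib.U43Type.Final
import Cfsg.Agent.Lib.TwoCover.UnitaryBasic

/-!
An element of order seven of a group of `U₄(3)` type generates its own centralizer.
-/

set_option autoImplicit false

namespace CfsgLib.U43Type

open Subgroup

namespace SevenCent

open Module

variable {K : Type*} [Field K] [Fintype K]

/-- Counting the fixed vectors of a linear map of prime order. -/
theorem fix_count {W : Type*} [AddCommGroup W] [Module K W] [Finite W] (p : ℕ) [Fact p.Prime]
    (f : Module.End K W) (hf : f ^ p = 1) :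
    Nat.card K ^ finrank K W ≡ Nat.card K ^ finrank K (LinearMap.ker (f - 1)) [MOD p] := by
  classical
  letI := Fintype.ofFinite W
  have hp := (Fact.out : p.Prime)
  let σ : Function.End W := (f : W → W)
  have hcoe : ∀ k : ℕ, (σ ^ k : Function.End W) = ((f ^ k : Module.End K W) : W → W) := by
    intro k
    induction k with
    | zero => rfl
    | succ k ih =>
      funext x
      rw [pow_succ, pow_succ, Module.End.mul_apply]
      exact congrFun ih (f x)
  have hσ : σ ^ p ^ 1 = 1 := by
    rw [pow_one, hcoe, hf]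
    rfl
  have h := Equiv.Perm.card_fixedPoints_modEq (p := p) (n := 1) hσ
  rw [← Module.natCard_eq_pow_finrank, ← Module.natCard_eq_pow_finrank, Nat.card_eq_fintype_card,
    Nat.card_eq_fintype_card]
  refine h.trans (Nat.ModEq.symm ?_)
  rw [← Fintype.card_congr (Equiv.subtypeEquivRight (fun x => ?_) :
    {x // x ∈ LinearMap.ker (f - 1)} ≃ Function.fixedPoints σ)]
  simp [Function.IsFixedPt, σ, sub_eq_zero]

/-- The kernel of a composite. -/
theorem ker_comp_le {V : Type*} [AddCommGroup V] [Module K V] [FiniteDimensional K V]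
    (M N : Module.End K V) :
    finrank K (LinearMap.ker (M * N)) ≤ finrank K (LinearMap.ker M) + finrank K (LinearMap.ker N) := by
  set W := LinearMap.ker (M * N) with hW
  have h := (N.domRestrict W).finrank_range_add_finrank_ker
  have h1 : finrank K (LinearMap.range (N.domRestrict W)) ≤ finrank K (LinearMap.ker M) := by
    refine Submodule.finrank_mono ?_
    rintro y ⟨⟨x, hx⟩, rfl⟩
    exact hx
  have h2 : finrank K (LinearMap.ker (N.domRestrict W)) ≤ finrank K (LinearMap.ker N) := by
    rw [LinearMap.ker_domRestrict]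
    exact (Submodule.equivMapOfInjective W.subtype W.injective_subtype _).finrank_eq.trans_le
      (Submodule.finrank_mono (Submodule.map_comap_le _ _))
  omega

/-- No map of order three or five of a four dimensional space over nine elements commutes with one of
order seven. -/
theorem commuting_eq_one [CharP K 3] (hK : Fintype.card K = 9) (B G : Module.End K (Fin 4 → K))
    (hB : B ^ 7 = 1) (hB1 : B ≠ 1) (q : ℕ) (hq : q = 3 ∨ q = 5) (hG : G ^ q = 1)
    (hBG : Commute B G) : G = 1 := by
  haveI : Fact (Nat.Prime 7) := ⟨by norm_num⟩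
  have hcard : Nat.card K = 9 := by rw [Nat.card_eq_fintype_card, hK]
  by_contra hG1
  have htop : ∀ f : Module.End K (Fin 4 → K), finrank K (LinearMap.ker (f - 1)) = 4 → f = 1 := by
    intro f hf
    have := Submodule.eq_top_of_finrank_eq (hf.trans (Module.finrank_fin_fun K).symm)
    exact sub_eq_zero.1 (LinearMap.ker_eq_top.1 this)
  set F := LinearMap.ker (B - 1) with hF
  set E := LinearMap.ker (G - 1) with hE
  have hFle : finrank K F ≤ 4 := (Submodule.finrank_le _).trans (Module.finrank_fin_fun K).le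
  have hEle : finrank K E ≤ 4 := (Submodule.finrank_le _).trans (Module.finrank_fin_fun K).le
  have hF1 : finrank K F = 1 := by
    have h := fix_count 7 B hB
    rw [hcard, Module.finrank_fin_fun] at h
    have h4 : finrank K F ≠ 4 := fun e => hB1 (htop B e)
    rw [← hF] at h
    interval_cases h' : finrank K F <;> first | omega | exact absurd h (by decide)
  -- the fixed line of `B` is fixed by `G`
  have hFE : F ≤ E := by
    obtain ⟨v, hv0, hv⟩ := finrank_eq_one_iff'.1 hF1
    intro w hw
    obtain ⟨c, hc⟩ := hv ⟨G v.1, by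
      have hvv : B v.1 = v.1 := sub_eq_zero.1 (LinearMap.mem_ker.1 v.2)
      refine LinearMap.mem_ker.2 ?_
      rw [LinearMap.sub_apply, Module.End.one_apply,
        ← Module.End.mul_apply, hBG.eq, Module.End.mul_apply, hvv, sub_self]⟩
    have hcv : G v.1 = c • v.1 := (congrArg Subtype.val hc).symm
    have hpow : ∀ k : ℕ, (G ^ k) v.1 = c ^ k • v.1 := by
      intro k
      induction k with
      | zero => simp
      | succ k ih => rw [pow_succ', Module.End.mul_apply, ih, map_smul, hcv, smul_smul, pow_succ]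
    have hv1 : v.1 ≠ 0 := fun e => hv0 (Subtype.ext e)
    have hcq : c ^ q = 1 := by
      have h := hpow q
      rw [hG, Module.End.one_apply] at h
      exact (smul_left_injective K hv1 (show (1 : K) • v.1 = c ^ q • v.1 by rw [one_smul, ← h])).symm
    have hc0 : c ≠ 0 := fun e => by
      rw [e, zero_pow (by omega)] at hcq; exact zero_ne_one hcq
    have hc8 : c ^ 8 = 1 := by
      have := FiniteField.pow_card_sub_one_eq_one c hc0
      rwa [hK] at this
    have hc1 : c = 1 := by
      have h := pow_gcd_eq_one.2 ⟨hcq, hc8⟩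
      rcases hq with rfl | rfl <;> simpa using h
    obtain ⟨d, hd⟩ := hv ⟨w, hw⟩
    have hwd : w = d • v.1 := (congrArg Subtype.val hd).symm
    rw [hE, LinearMap.mem_ker, LinearMap.sub_apply, Module.End.one_apply, hwd, map_smul, hcv, hc1, one_smul,
      sub_self]
  have hinv : ∀ x ∈ E, B x ∈ E := by
    intro x hx
    have hxx : G x = x := sub_eq_zero.1 (LinearMap.mem_ker.1 hx)
    rw [hE, LinearMap.mem_ker, LinearMap.sub_apply, Module.End.one_apply, ← Module.End.mul_apply, ← hBG.eq,
      Module.End.mul_apply, hxx, sub_self]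
  have hE1 : finrank K E = 1 := by
    set f : Module.End K E := B.restrict hinv with hf
    have hfix : LinearMap.ker (f - 1) = F.comap E.subtype := by
      ext x
      simp [hF, hf, sub_eq_zero, Subtype.ext_iff]
    have hpow : f ^ 7 = 1 := by
      refine LinearMap.ext fun x => Subtype.ext ?_
      rw [hf, Module.End.pow_restrict 7 (h := hinv), LinearMap.restrict_coe_apply, hB]
      rfl
    have h := fix_count 7 f hpow
    rw [hfix, (Submodule.comapSubtypeEquivOfLe hFE).finrank_eq, hF1, hcard] at h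
    have h4 : finrank K E ≠ 4 := fun e => hG1 (htop G e)
    interval_cases h' : finrank K E <;> first | omega | exact absurd h (by decide)
  rcases hq with rfl | rfl
  · -- a unipotent map with a line of fixed vectors
    set N := G - 1 with hN
    have hN3 : N ^ 3 = 0 := by
      haveI : CharP (Module.End K (Fin 4 → K)) 3 := charP_of_injective_algebraMap' K 3
      haveI : Fact (Nat.Prime 3) := ⟨Nat.prime_three⟩
      rw [hN, sub_pow_char_of_commute (p := 3) (Commute.one_right G), hG, one_pow, sub_self]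
    have h1 := ker_comp_le N (N * N)
    have h2 := ker_comp_le N N
    have h3 : finrank K (LinearMap.ker (N * (N * N))) = 4 := by
      rw [← mul_assoc, ← pow_two, ← pow_succ, hN3, LinearMap.ker_zero, finrank_top, Module.finrank_fin_fun]
    have h4 : finrank K (LinearMap.ker N) = 1 := hE1
    omega
  · haveI : Fact (Nat.Prime 5) := ⟨Nat.prime_five⟩
    have h := fix_count 5 G hG
    rw [← hE, hE1, hcard, Module.finrank_fin_fun] at h
    exact absurd h (by decide)

/-- No element of order three or five of `PSU₄(3)` commutes with one of order seven. -/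
theorem psu_eq_one {F : Type} [Field F] [Fintype F] (hF : Fintype.card F = 9) {b g : Cfsg.PSU 4 F 3}
    (hb : orderOf b = 7) (q : ℕ) (hq : q = 3 ∨ q = 5) (hg : g ^ q = 1) (hbg : Commute b g) : g = 1 := by
  haveI : Fact (Nat.Prime 3) := ⟨Nat.prime_three⟩
  haveI : CharP F 3 := charP_of_card_eq_prime_pow (f := 2) (by rw [hF]; norm_num)
  obtain ⟨φ, D⟩ := TwoCover.Unitary.exists_FD (q := 3) (F := F) (by rw [hF]; norm_num)
  have hZ : ∀ z ∈ center (Cfsg.SU 4 F 3), z ^ 4 = 1 := by
    intro z hz
    obtain ⟨c, hc0, hc⟩ := TwoCover.Unitary.center_scalar D (by norm_num) hz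
    have hzc : z.1.1 = Matrix.scalar (Fin 4) c := Matrix.ext_iff_mulVec.2 fun v => by
      rw [hc v, Matrix.scalar_apply, ← Matrix.smul_one_eq_diagonal, Matrix.smul_mulVec, Matrix.one_mulVec]
    have hd : c ^ 4 = 1 := by
      have h : z.1.1.det = 1 := z.1.2
      simpa [hzc] using h
    refine Subtype.ext (Subtype.ext ?_)
    show (z ^ 4).1.1 = 1
    rw [SubmonoidClass.coe_pow, Matrix.SpecialLinearGroup.coe_pow, hzc, ← map_pow, hd, map_one]
  let π : Cfsg.SU 4 F 3 →* Cfsg.PSU 4 F 3 := QuotientGroup.mk' _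
  have hlift : ∀ (x : Cfsg.PSU 4 F 3) (r : ℕ), x ^ r = 1 → ∃ X : Cfsg.SU 4 F 3, X ^ r = 1 ∧ π X = x ^ 4 := by
    intro x r hx
    obtain ⟨X, hX⟩ := QuotientGroup.mk'_surjective (center (Cfsg.SU 4 F 3)) x
    refine ⟨X ^ 4, ?_, by rw [map_pow, ← hX]⟩
    rw [← pow_mul, mul_comm, pow_mul]
    refine hZ _ ((QuotientGroup.eq_one_iff _).1 ?_)
    show π (X ^ r) = 1
    rw [map_pow, show π X = x from hX, hx]
  obtain ⟨B, hB, hBb⟩ := hlift b 7 (by rw [← hb]; exact pow_orderOf_eq_one b)
  obtain ⟨G, hG, hGg⟩ := hlift g q hg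
  have hz : B * G * B⁻¹ * G⁻¹ ∈ center (Cfsg.SU 4 F 3) := by
    refine (QuotientGroup.eq_one_iff _).1 ?_
    show π (B * G * B⁻¹ * G⁻¹) = 1
    rw [map_mul, map_mul, map_mul, map_inv, map_inv, hBb, hGg, (hbg.pow_pow 4 4).eq]
    group
  set z := B * G * B⁻¹ * G⁻¹ with hzdef
  have hconj : ∀ k : ℕ, B ^ k * G * (B ^ k)⁻¹ = z ^ k * G := by
    intro k
    induction k with
    | zero => simp
    | succ k ih =>
      have hcz : ∀ y, y * z ^ k = z ^ k * y := fun y => Subgroup.mem_center_iff.1 (pow_mem hz k) y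
      calc B ^ (k + 1) * G * (B ^ (k + 1))⁻¹ = B * (B ^ k * G * (B ^ k)⁻¹) * B⁻¹ := by
            rw [pow_succ']; group
        _ = z ^ k * (B * G * B⁻¹) := by rw [ih, ← mul_assoc B, hcz B]; group
        _ = z ^ (k + 1) * G := by rw [pow_succ, hzdef]; group
  have hz1 : z = 1 := by
    have h7 : z ^ 7 = 1 := by
      have h := hconj 7
      rw [hB, inv_one, mul_one, one_mul] at h
      exact mul_eq_right.1 h.symm
    simpa using pow_gcd_eq_one.2 ⟨h7, hZ z hz⟩
  have hBG : Commute B G := by
    have h := hz1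
    rw [hzdef, mul_inv_eq_one, mul_inv_eq_iff_eq_mul] at h
    exact h
  let ρ : Cfsg.SU 4 F 3 →* Module.End F (Fin 4 → F) :=
    (Matrix.toLinAlgEquiv' : Matrix (Fin 4) (Fin 4) F ≃ₐ[F] _).toMonoidHom.comp
      ((Cfsg.slToMat 4 F).comp (Cfsg.SU 4 F 3).subtype)
  have hρ : Function.Injective ρ := fun x y h =>
    Subtype.ext (Subtype.ext ((Matrix.toLinAlgEquiv' : Matrix (Fin 4) (Fin 4) F ≃ₐ[F] _).injective h))
  have hB1 : ρ B ≠ 1 := fun h => by
    have hBe : B = 1 := hρ (by rw [h, map_one])
    rw [hBe, map_one] at hBb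
    have := orderOf_dvd_of_pow_eq_one hBb.symm
    rw [hb] at this
    omega
  have hG1 : G = 1 := hρ ((commuting_eq_one hF (ρ B) (ρ G) (by rw [← map_pow, hB, map_one]) hB1 q hq
    (by rw [← map_pow, hG, map_one]) (hBG.map ρ)).trans (map_one ρ).symm)
  rw [hG1, map_one] at hGg
  have h := pow_gcd_eq_one.2 ⟨hg, hGg.symm⟩
  rcases hq with rfl | rfl <;> simpa using h

/-- The same in an isomorphic group. -/
theorem eq_one_of_iso {X : Type*} [Group X] {F : Type} [Field F] [Fintype F] (hF : Fintype.card F = 9)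
    (e : X ≃* Cfsg.PSU 4 F 3) {b t : X} (hb : orderOf b = 7) (q : ℕ) (hq : q = 3 ∨ q = 5)
    (ht : orderOf t = q) (htb : Commute t b) : False := by
  have h := psu_eq_one hF (b := e b) (g := e t) ((e.orderOf_eq b).trans hb) q hq
    (by rw [← map_pow, ← ht, pow_orderOf_eq_one, map_one]) (htb.symm.map e)
  rw [e.map_eq_one_iff] at h
  rw [h, orderOf_one] at ht
  omega

end SevenCent

universe u

/-- An element of order seven is self-centralizing. -/
theorem cent_seven {X : Type u} [Group X] [Finite X] (D : Hyp X) {b g : X} (hb : orderOf b = 7)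
    (hg : Commute g b) : g ∈ zpowers b := by
  obtain ⟨hcard, hclass⟩ := order_and_class D
  obtain ⟨e⟩ := iso_psu D CfsgLib.Leech.Triangle.K9 CfsgLib.Leech.Triangle.K9.card_K9
  set C := centralizer ({b} : Set X) with hC
  have hmem : ∀ x ∈ C, Commute x b := fun x hx => (mem_centralizer_singleton_iff.1 hx : x * b = b * x)
  have hprime : ∀ q : ℕ, q.Prime → q ∣ Nat.card C → q = 7 := by
    intro q hq hqC
    haveI := Fact.mk hq
    obtain ⟨⟨t, htC⟩, ht⟩ := exists_prime_orderOf_dvd_card' q hqC
    rw [Subgroup.orderOf_mk] at ht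
    have htb := hmem t htC
    have hcases : q = 2 ∨ q = 3 ∨ q = 5 ∨ q = 7 := by
      have h := hqC.trans (Subgroup.card_subgroup_dvd_card C)
      rw [hcard] at h
      rcases hq.dvd_mul.1 h with h | h
      · rcases hq.dvd_mul.1 h with h | h
        · rcases hq.dvd_mul.1 h with h | h
          · exact Or.inl ((Nat.prime_dvd_prime_iff_eq hq Nat.prime_two).1 (hq.dvd_of_dvd_pow h))
          · exact Or.inr (Or.inl ((Nat.prime_dvd_prime_iff_eq hq Nat.prime_three).1 (hq.dvd_of_dvd_pow h)))
        · exact Or.inr (Or.inr (Or.inl ((Nat.prime_dvd_prime_iff_eq hq Nat.prime_five).1 h)))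
      · exact Or.inr (Or.inr (Or.inr ((Nat.prime_dvd_prime_iff_eq hq (by norm_num)).1 h)))
    rcases hcases with rfl | h35
    · exfalso
      have hz : orderOf D.z = 2 := orderOf_eq_prime (by rw [pow_two]; exact D.z_sq) D.z_ne
      obtain ⟨c, hc⟩ := isConj_iff.1 (hclass t D.z ht hz)
      have hm : c * b * c⁻¹ ∈ centralizer ({D.z} : Set X) := by
        rw [mem_centralizer_singleton_iff, ← hc]
        calc c * b * c⁻¹ * (c * t * c⁻¹) = c * (b * t) * c⁻¹ := by group
          _ = c * (t * b) * c⁻¹ := by rw [htb.eq]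
          _ = c * t * c⁻¹ * (c * b * c⁻¹) := by group
      have h := Subgroup.orderOf_dvd_natCard _ hm
      rw [← MulAut.conj_apply, MulEquiv.orderOf_eq, hb, D.card_C] at h
      · norm_num at h
    · rcases h35 with rfl | rfl | rfl
      · exact absurd (SevenCent.eq_one_of_iso CfsgLib.Leech.Triangle.K9.card_K9 e hb 3 (Or.inl rfl) ht htb) id
      · exact absurd (SevenCent.eq_one_of_iso CfsgLib.Leech.Triangle.K9.card_K9 e hb 5 (Or.inr rfl) ht htb) id
      · rfl
  have hle : zpowers b ≤ C := (zpowers_le.2 (mem_centralizer_singleton_iff.2 rfl))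
  obtain ⟨k, hk⟩ : ∃ k, Nat.card C = 7 ^ k :=
    ⟨_, Nat.eq_prime_pow_of_unique_prime_dvd Nat.card_pos.ne' fun {d} hd hdC => hprime d hd hdC⟩
  have hk1 : k ≤ 1 := by
    by_contra hk1
    have h49 : 7 ^ 2 ∣ Nat.card X :=
      ((pow_dvd_pow 7 (by omega : 2 ≤ k)).trans hk.symm.dvd).trans (Subgroup.card_subgroup_dvd_card C)
    rw [hcard] at h49
    norm_num at h49
  have heq : zpowers b = C := Subgroup.eq_of_le_of_card_ge hle (by
    rw [Nat.card_zpowers, hb, hk]
    calc 7 ^ k ≤ 7 ^ 1 := Nat.pow_le_pow_right (by norm_num) hk1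
      _ = 7 := pow_one 7)
  rw [heq]
  exact mem_centralizer_singleton_iff.2 hg

end CfsgLib.U43Type
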