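import Cfsg.Agent.Lib.U43Type.Setup

/-!
Groups of `U₄(3)` type: first properties of the centralizer.
-/

set_option autoImplicit false
set_option linter.style.haveILetI false

namespace CfsgLib.U43Type

open Subgroup

/-- The kernel of the parametrisation. -/
def kerB (p : Pr) : Bool := decide (p = 1 ∨ p = (SL23.neg, SL23.neg))

/-- Two pairs with the same image. -/
def Equ (p q : Pr) : Prop := p = q ∨ p = q * (SL23.neg, SL23.neg)

instance (p q : Pr) : Decidable (Equ p q) := by unfold Equ; infer_instance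

namespace SL23

theorem six_cases : ∀ a : SL23, a * a = neg →
    ∃ x : Fin 3, a = ![qi, qj, qk] x ∨ a = ![qi, qj, qk] x * neg := by decide +kernel

theorem six_inj : ∀ x y : Fin 3, (![qi, qj, qk] x = ![qi, qj, qk] y ∨ ![qi, qj, qk] x = ![qi, qj, qk] y * neg) →
    x = y := by decide +kernel

theorem six_four : ∀ a : SL23, a * a = neg → a ^ 4 = 1 := by decide +kernel

theorem four_cases : ∀ a : SL23, a ^ 4 = 1 → a = 1 ∨ a = neg ∨ a * a = neg := by decide +kernel

theorem gen_centre : ∀ a : SL23, a * qi = qi * a → a * qj = qj * a → a = 1 ∨ a = neg := cent_four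

end SL23

universe u

namespace Hyp

variable {G : Type u} [Group G] (D : Hyp G)

theorem eq_iff {p q : Pr} : D.f p = D.f q ↔ Equ p q := by
  rw [← inv_mul_eq_one, ← map_inv, ← map_mul, D.ker]
  unfold Equ
  constructor
  · rintro (h | h)
    · exact Or.inl (inv_mul_eq_one.1 h)
    · right
      rw [inv_mul_eq_iff_eq_mul] at h
      rw [h, mul_assoc, show ((SL23.neg, SL23.neg) : Pr) * (SL23.neg, SL23.neg) = 1 by decide +kernel, mul_one]
  · rintro (rfl | rfl)
    · exact Or.inl (inv_mul_cancel _)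
    · right
      rw [mul_inv_rev, mul_assoc, inv_mul_cancel, mul_one]
      decide +kernel

theorem f_neg' : D.f (1, SL23.neg) = D.z := by
  rw [← D.f_neg, D.eq_iff]; decide +kernel

/-- The subgroup `Q`. -/
def Qm : Subgroup G := Qs.map D.f

theorem mem_Qm {p : Pr} (hp : p ∈ Qs) : D.f p ∈ D.Qm := ⟨p, hp, rfl⟩

theorem Qm_comm {x : G} (hx : x ∈ D.Qm) : Commute x D.z := by
  obtain ⟨p, -, rfl⟩ := hx
  exact D.f_comm p

theorem z_mem : D.z ∈ D.Qm := D.f_neg ▸ D.mem_Qm (by rw [mem_Qs]; decide +kernel)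

theorem Qm_normal {c x : G} (hc : Commute c D.z) (hx : x ∈ D.Qm) : c * x * c⁻¹ ∈ D.Qm := by
  obtain ⟨p, hp, rfl⟩ := hx
  obtain ⟨p', hp'⟩ := D.normal c hc p
  rw [← hp']
  have h4 : D.f (p' ^ 4) = 1 := by
    rw [map_pow, hp', conj_pow, ← map_pow, show p ^ 4 = 1 from Prod.ext hp.1 hp.2, map_one, mul_one, mul_inv_cancel]
  have h8 : p' ^ 2 ^ 3 = 1 := by
    rw [show (2 : ℕ) ^ 3 = 4 * 2 from rfl, pow_mul]
    rcases (D.ker _).1 h4 with h | h <;> rw [h] <;> decide +kernel
  exact D.mem_Qm ⟨SL23.four_of_pow (congrArg Prod.fst h8), SL23.four_of_pow (congrArg Prod.snd h8)⟩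

theorem fst_eq {p : Pr} {a : SL23} (hp : Commute (D.f p) (D.f (a, 1))) : p.1 * a = a * p.1 := by
  have h : D.f (p * (a, 1)) = D.f ((a, 1) * p) := by rw [map_mul, map_mul]; exact hp.eq
  rcases D.eq_iff.1 h with h | h
  · exact congrArg Prod.fst h
  · have := congrArg Prod.snd h
    simp only [Prod.snd_mul, mul_one, one_mul] at this
    exact absurd (left_eq_mul.1 this) (by decide +kernel)

theorem snd_eq {p : Pr} {a : SL23} (hp : Commute (D.f p) (D.f (1, a))) : p.2 * a = a * p.2 := by
  have h : D.f (p * (1, a)) = D.f ((1, a) * p) := by rw [map_mul, map_mul]; exact hp.eq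
  rcases D.eq_iff.1 h with h | h
  · exact congrArg Prod.snd h
  · have := congrArg Prod.fst h
    simp only [Prod.fst_mul, mul_one, one_mul] at this
    exact absurd (left_eq_mul.1 this) (by decide +kernel)

/-- What commutes with the first quaternion group lies in the second factor. -/
theorem second_of_comm {p : Pr} (hi : Commute (D.f p) (D.f (SL23.qi, 1)))
    (hj : Commute (D.f p) (D.f (SL23.qj, 1))) : ∃ b, D.f p = D.f (1, b) := by
  rcases SL23.gen_centre _ (D.fst_eq hi) (D.fst_eq hj) with h | h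
  · exact ⟨p.2, by rw [show ((1 : SL23), p.2) = p from Prod.ext h.symm rfl]⟩
  · refine ⟨p.2 * SL23.neg, D.eq_iff.2 (Or.inr (Prod.ext ?_ ?_))⟩
    · simpa using h
    · show p.2 = p.2 * SL23.neg * SL23.neg
      rw [mul_assoc, show SL23.neg * SL23.neg = 1 by decide +kernel, mul_one]

/-- What commutes with the second quaternion group lies in the first factor. -/
theorem first_of_comm {p : Pr} (hi : Commute (D.f p) (D.f (1, SL23.qi)))
    (hj : Commute (D.f p) (D.f (1, SL23.qj))) : ∃ b, D.f p = D.f (b, 1) := by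
  rcases SL23.gen_centre _ (D.snd_eq hi) (D.snd_eq hj) with h | h
  · exact ⟨p.1, by rw [show (p.1, (1 : SL23)) = p from Prod.ext rfl h.symm]⟩
  · refine ⟨p.1 * SL23.neg, D.eq_iff.2 (Or.inr (Prod.ext ?_ ?_))⟩
    · show p.1 = p.1 * SL23.neg * SL23.neg
      rw [mul_assoc, show SL23.neg * SL23.neg = 1 by decide +kernel, mul_one]
    · simpa using h

/-- Only `1` and `z` centralize `Q` in the centralizer. -/
theorem cent_Qm {c : G} (hc : Commute c D.z) (h : ∀ p ∈ Qs, Commute c (D.f p)) : c = 1 ∨ c = D.z := by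
  obtain ⟨p, -, rfl⟩ := D.cent c hc h
  obtain ⟨b, hb⟩ := D.second_of_comm (h _ (by rw [mem_Qs]; decide +kernel)) (h _ (by rw [mem_Qs]; decide +kernel))
  rw [hb] at h ⊢
  rcases SL23.gen_centre b (D.snd_eq (h _ (by rw [mem_Qs]; decide +kernel)))
    (D.snd_eq (h _ (by rw [mem_Qs]; decide +kernel))) with rfl | rfl
  · exact Or.inl (map_one D.f)
  · exact Or.inr D.f_neg'

/-- Elements with the same action on `Q`. -/
theorem eq_of_conj_eq {c d : G} (hc : Commute c D.z) (hd : Commute d D.z)
    (h : ∀ p ∈ Qs, c * D.f p * c⁻¹ = d * D.f p * d⁻¹) : c = d ∨ c = d * D.z := by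
  rcases D.cent_Qm (hd.inv_left.mul_left hc) (fun p hp => by
    show d⁻¹ * c * D.f p = D.f p * (d⁻¹ * c)
    calc d⁻¹ * c * D.f p = d⁻¹ * (c * D.f p * c⁻¹) * c := by group
      _ = _ := by rw [h p hp]; group) with h' | h'
  · exact Or.inl (inv_mul_eq_one.1 h').symm
  · exact Or.inr (inv_mul_eq_iff_eq_mul.1 h')

/-- The first factor is carried to itself. -/
def Fix (c : G) : Prop := ∀ a, ∃ b, c * D.f (a, 1) * c⁻¹ = D.f (b, 1)

/-- The first factor is carried to the second. -/
def Swp (c : G) : Prop := ∀ a, ∃ b, c * D.f (a, 1) * c⁻¹ = D.f (1, b)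

theorem conj_mul' (c : G) (p q : Pr) :
    c * D.f (p * q) * c⁻¹ = c * D.f p * c⁻¹ * (c * D.f q * c⁻¹) := by rw [map_mul]; group

/-- An element of one of the factors. -/
def side : Bool → SL23 → Pr
  | true, a => (a, 1)
  | false, a => (1, a)

theorem side_mul (s : Bool) (a b : SL23) : side s (a * b) = side s a * side s b := by
  cases s <;> simp [side]

theorem side_comm (s : Bool) (a b : SL23) : Commute (D.f (side s a)) (D.f (side (!s) b)) := by
  cases s <;> · show _ * _ = _ * _
                rw [← map_mul, ← map_mul]; simp [side]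

theorem side_inj {s : Bool} {a b : SL23} (h : D.f (side s a) = D.f (side s b)) : a = b := by
  rcases D.eq_iff.1 h with h | h <;> cases s <;> simp [side, Prod.ext_iff] at h <;>
    first
      | exact h
      | exact absurd h.1 (by decide +kernel)
      | exact absurd h.2 (by decide +kernel)

theorem six_cent : ∀ a b : SL23, a * a = SL23.neg → b * b = SL23.neg → a * b ≠ b * a →
    ∀ x, x * a = a * x → x * b = b * x → x = 1 ∨ x = SL23.neg := by decide +kernel

theorem sq_cases : ∀ a b : SL23, (a * a = SL23.neg ∧ b * b = 1 ∨ a * a = 1 ∧ b * b = SL23.neg) →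
    a * a = SL23.neg ∧ (b = 1 ∨ b = SL23.neg) ∨ b * b = SL23.neg ∧ (a = 1 ∨ a = SL23.neg) := by decide +kernel

theorem six_not : ∀ a : SL23, a * a = SL23.neg →
    a ≠ 1 ∧ 1 ≠ a ∧ a * SL23.neg ≠ 1 ∧ 1 ≠ a * SL23.neg := by decide +kernel

theorem neg_six : ∀ a : SL23, a * a = SL23.neg → (a * SL23.neg) * (a * SL23.neg) = SL23.neg := by decide +kernel

/-- The images of elements of order four. -/
theorem six_image {c : G} (hc : Commute c D.z) (s : Bool) {a : SL23} (ha : a * a = SL23.neg) :
    ∃ r b, b * b = SL23.neg ∧ c * D.f (side s a) * c⁻¹ = D.f (side r b) := by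
  obtain ⟨P, hP⟩ := D.normal c hc (side s a)
  have h2 : D.f (P * P) = D.f (SL23.neg, 1) := by
    rw [map_mul, hP, show c * D.f (side s a) * c⁻¹ * (c * D.f (side s a) * c⁻¹) =
      c * (D.f (side s a) * D.f (side s a)) * c⁻¹ by group, ← map_mul, ← side_mul, ha,
      show D.f (side s SL23.neg) = D.z by cases s <;> [exact D.f_neg'; exact D.f_neg],
      hc.eq, mul_inv_cancel_right, D.f_neg]
  have h3 : P.1 * P.1 = SL23.neg ∧ P.2 * P.2 = 1 ∨ P.1 * P.1 = 1 ∧ P.2 * P.2 = SL23.neg := by
    rcases D.eq_iff.1 h2 with h | h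
    · exact Or.inl ⟨congrArg Prod.fst h, congrArg Prod.snd h⟩
    · right
      have h1 := congrArg Prod.fst h
      have h2 := congrArg Prod.snd h
      simp only [Prod.fst_mul, Prod.snd_mul] at h1 h2
      exact ⟨by rw [h1]; decide +kernel, by rw [h2, one_mul]⟩
  rcases sq_cases _ _ h3 with ⟨h, hb | hb⟩ | ⟨h, hb | hb⟩
  · exact ⟨true, P.1, h, by rw [← hP, show side true P.1 = P from Prod.ext rfl hb.symm]⟩
  · exact ⟨true, P.1 * SL23.neg, neg_six _ h, hP.symm.trans (D.eq_iff.2 (Or.inr (Prod.ext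
      (by show P.1 = P.1 * SL23.neg * SL23.neg; rw [mul_assoc, show SL23.neg * SL23.neg = 1 by decide +kernel, mul_one])
      (by simpa [side] using hb))))⟩
  · exact ⟨false, P.2, h, by rw [← hP, show side false P.2 = P from Prod.ext hb.symm rfl]⟩
  · exact ⟨false, P.2 * SL23.neg, neg_six _ h, hP.symm.trans (D.eq_iff.2 (Or.inr (Prod.ext
      (by simpa [side] using hb)
      (by show P.2 = P.2 * SL23.neg * SL23.neg; rw [mul_assoc, show SL23.neg * SL23.neg = 1 by decide +kernel, mul_one]))))⟩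

/-- What commutes with two non-commuting elements of order four of one factor lies in the other. -/
theorem other_of_comm {s : Bool} {a b : SL23} (ha : a * a = SL23.neg) (hb : b * b = SL23.neg)
    (hab : a * b ≠ b * a) {P : Pr} (h1 : Commute (D.f P) (D.f (side s a))) (h2 : Commute (D.f P) (D.f (side s b))) :
    ∃ d, D.f P = D.f (side (!s) d) := by
  cases s
  · rcases six_cent a b ha hb hab _ (D.snd_eq h1) (D.snd_eq h2) with h | h
    · exact ⟨P.1, by rw [show side (!false) P.1 = P from Prod.ext rfl h.symm]⟩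
    · refine ⟨P.1 * SL23.neg, D.eq_iff.2 (Or.inr (Prod.ext ?_ ?_))⟩
      · show P.1 = P.1 * SL23.neg * SL23.neg
        rw [mul_assoc, show SL23.neg * SL23.neg = 1 by decide +kernel, mul_one]
      · simpa [side] using h
  · rcases six_cent a b ha hb hab _ (D.fst_eq h1) (D.fst_eq h2) with h | h
    · exact ⟨P.2, by rw [show side (!true) P.2 = P from Prod.ext h.symm rfl]⟩
    · refine ⟨P.2 * SL23.neg, D.eq_iff.2 (Or.inr (Prod.ext ?_ ?_))⟩
      · simpa [side] using h
      · show P.2 = P.2 * SL23.neg * SL23.neg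
        rw [mul_assoc, show SL23.neg * SL23.neg = 1 by decide +kernel, mul_one]

/-- The image of a factor. -/
theorem side_image {c : G} (hc : Commute c D.z) (s : Bool) :
    ∃ r, (∀ a, ∃ b, c * D.f (side s a) * c⁻¹ = D.f (side r b)) ∧
      ∀ a, ∃ b, c * D.f (side (!s) a) * c⁻¹ = D.f (side (!r) b) := by
  have key : ∀ s : Bool, ∃ r, ∀ y, ∃ d, c * D.f (side (!s) y) * c⁻¹ = D.f (side (!r) d) ∧
      ∃ a b, a * a = SL23.neg ∧ b * b = SL23.neg ∧ a * b ≠ b * a ∧
        c * D.f (side s SL23.qi) * c⁻¹ = D.f (side r a) ∧ c * D.f (side s SL23.qj) * c⁻¹ = D.f (side r b) := by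
    intro s
    obtain ⟨r, a, ha, hai⟩ := D.six_image hc s (a := SL23.qi) (by decide +kernel)
    obtain ⟨r', b, hb, hbj⟩ := D.six_image hc s (a := SL23.qj) (by decide +kernel)
    have hne : ¬ Commute (D.f (side r a)) (D.f (side r' b)) := by
      rw [← hai, ← hbj]
      intro h
      have h' := h.map (MulAut.conj c⁻¹).toMonoidHom
      simp only [MulEquiv.coe_toMonoidHom, MulAut.conj_apply] at h'
      group at h'
      have h'' : D.f (side s SL23.qi * side s SL23.qj) = D.f (side s SL23.qj * side s SL23.qi) := by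
        rw [map_mul, map_mul]; simpa using h'.eq
      rw [← side_mul, ← side_mul] at h''
      exact absurd (D.side_inj h'') (by decide +kernel)
    have hr : r' = r := by
      by_contra hne'
      exact hne (by rw [show r' = !r by cases r <;> cases r' <;> simp_all]; exact D.side_comm r a b)
    subst hr
    have hab : a * b ≠ b * a := fun h => hne (by
      show _ * _ = _ * _
      rw [← map_mul, ← map_mul, ← side_mul, ← side_mul, h])
    refine ⟨r', fun y => ?_⟩
    obtain ⟨P, hP⟩ := D.normal c hc (side (!s) y)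
    obtain ⟨d, hd⟩ := D.other_of_comm ha hb hab (P := P)
      (by rw [hP, ← hai]; exact (D.side_comm s SL23.qi y).symm.map (MulAut.conj c).toMonoidHom)
      (by rw [hP, ← hbj]; exact (D.side_comm s SL23.qj y).symm.map (MulAut.conj c).toMonoidHom)
    exact ⟨d, hP.symm.trans hd, a, b, ha, hb, hab, hai, hbj⟩
  obtain ⟨r, hr⟩ := key s
  obtain ⟨r', hr'⟩ := key (!s)
  obtain ⟨-, -, a, -, ha, -, -, hai, -⟩ := hr' 1
  obtain ⟨d, hd, -⟩ := hr SL23.qi
  have h := hd.symm.trans hai
  have hne : (!r) = r' := by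
    by_contra hne'
    rw [show r' = r by cases r <;> cases r' <;> simp_all] at h
    obtain ⟨n1, n2, n3, n4⟩ := six_not a ha
    rcases D.eq_iff.1 h with h | h <;> cases r <;> simp [side, Prod.ext_iff] at h <;>
      first
        | exact n1 h.1 | exact n2 h.1 | exact n3 h.1 | exact n4 h.1
        | exact n1 h.2 | exact n2 h.2 | exact n3 h.2 | exact n4 h.2
  refine ⟨r, fun x => ?_, fun y => ⟨(hr y).choose, (hr y).choose_spec.1⟩⟩
  obtain ⟨e, he, -⟩ := hr' x
  exact ⟨e, by rw [Bool.not_not] at he; rw [he, ← hne, Bool.not_not]⟩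

/-- Every element of the centralizer fixes or swaps the two factors. -/
theorem fix_or_swap {c : G} (hc : Commute c D.z) : D.Fix c ∨ D.Swp c := by
  obtain ⟨r, h1, -⟩ := D.side_image hc true
  cases r
  · exact Or.inr h1
  · exact Or.inl h1

end Hyp

end CfsgLib.U43Type
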