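import Cfsg.Agent.Lib.U43Type.Cert.Top
import Cfsg.Agent.Lib.U43Type.Cert.Mid
import Cfsg.Agent.Lib.U43Type.Cert.Bot

/-!
# A presentation of `U₄(3)`: the order bound

Letters `0`–`14`: `a A b B t T s v V w W u U p P`.
-/

set_option autoImplicit false

namespace CfsgLib.U43Type

open CfsgLib.CosetEnum

universe u

variable {G : Type u} [Group G]

/-- The letters made from eight elements. -/
def letters (a b t s v w u p : G) : ℕ → G
  | 0 => a
  | 1 => a⁻¹
  | 2 => b
  | 3 => b⁻¹
  | 4 => t
  | 5 => t⁻¹
  | 6 => s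
  | 7 => v
  | 8 => v⁻¹
  | 9 => w
  | 10 => w⁻¹
  | 11 => u
  | 12 => u⁻¹
  | 13 => p
  | 14 => p⁻¹
  | _ => 1

/-- The value of a word. -/
def wordVal (g : ℕ → G) (l : List ℕ) : G := (l.map g).prod

/-- The letters satisfy the relations of the presentation. -/
structure IsSys (g : ℕ → G) : Prop where
  high : ∀ x, 15 ≤ x → g x = 1
  inv : ∀ x < 16, g (linv Top.ip x) = (g x)⁻¹
  rel : ∀ l ∈ Top.rels, wordVal g l = 1

theorem isSys_letters {a b t s v w u p : G} (hs : s * s = 1)
    (hr : ∀ l ∈ Top.rels, wordVal (letters a b t s v w u p) l = 1) : IsSys (letters a b t s v w u p) := by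
  have hhigh : ∀ x, 15 ≤ x → letters a b t s v w u p x = 1 := by
    intro x hx
    match x, hx with
    | n + 15, _ => rfl
  refine ⟨hhigh, fun x hx => ?_, hr⟩
  have hip : ∀ x < 16, linv Top.ip x = [1, 0, 3, 2, 5, 4, 6, 8, 7, 10, 9, 12, 11, 14, 13, 15].getD x 0 := by
    decide +kernel
  rw [hip x hx]
  interval_cases x <;> simp [letters, inv_eq_of_mul_eq_one_right hs]

/-- The group generated by the letters. -/
def span (g : ℕ → G) : Subgroup G := Subgroup.closure (g '' Set.Iio 16)

theorem mem_span {g : ℕ → G} {x : ℕ} (hx : x < 16) : g x ∈ span g :=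
  Subgroup.subset_closure ⟨x, hx, rfl⟩

theorem wordVal_mem {g : ℕ → G} {l : List ℕ} (hl : ∀ x ∈ l, x < 16) : wordVal g l ∈ span g :=
  list_prod_mem fun y hy => by
    obtain ⟨x, hx, rfl⟩ := List.mem_map.1 hy
    exact mem_span (hl x hx)

/-- The letters of the subgroup as words: `a A v V w W u U c C d D t T`. -/
def keyMid (x : ℕ) : List ℕ :=
  [[0], [1], [7], [8], [9], [10], [11], [12], [6, 0, 6], [6, 1, 6], [6, 2, 6], [6, 3, 6], [4], [5]].getD x []

/-- The letters of the group of order 243 as words. -/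
def keyBot (x : ℕ) : List ℕ := [[0], [1], [7], [8], [9], [10], [11], [12], [13], [14]].getD x []

theorem wordVal_flat (g : ℕ → G) (key : ℕ → List ℕ) (l : List ℕ) :
    wordVal g (l.flatMap key) = (l.map fun x => wordVal g (key x)).prod := by
  induction l with
  | nil => rfl
  | cons x l ih =>
    rw [List.flatMap_cons, List.map_cons, List.prod_cons, ← ih]
    simp [wordVal]

/-- A certificate for some words in the letters. -/
theorem covers_sub {g : ℕ → G} (h : IsSys g) (key : ℕ → List ℕ) (ip' nl : ℕ) (rels' sub : List (List ℕ))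
    (c : Letters.Cert) (hc : c.check ip' nl sub rels' = true) (hnl : nl ≤ 15)
    (hhi : ∀ x < 16, nl ≤ x → key x = [])
    (hinv : ∀ x < 16, key (linv ip' x) = ((key x).map (linv Top.ip)).reverse)
    (hlt : ∀ x < 16, ∀ y ∈ key x, y < 16)
    (hrel : ∀ l ∈ rels', (∀ x ∈ l, x < 16) ∧ l.flatMap key ∈ Top.rels)
    (H : Subgroup G) (hsub : ∀ l ∈ sub, (∀ x ∈ l, x < 16) ∧ wordVal (fun x => wordVal g (key x)) l ∈ H) :
    CoversCosets (span fun x => wordVal g (key x)) H c.n := by
  refine Letters.Cert.covers (g := fun x => wordVal g (key x)) ?_ (fun x hx => ?_) (fun x hx => ?_) _ H le_rfl c hc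
    (fun l hl => ⟨(hrel l hl).1, ?_⟩) hsub
  · show wordVal g (key 15) = 1
    rw [hhi 15 (by norm_num) (by omega)]; rfl
  · show wordVal g (key _) = (wordVal g (key x))⁻¹
    rw [hinv x hx]
    have : ∀ l : List ℕ, (∀ y ∈ l, y < 16) → wordVal g ((l.map (linv Top.ip)).reverse) = (wordVal g l)⁻¹ := by
      intro l hl
      induction l with
      | nil => simp [wordVal]
      | cons y l ih =>
        have h1 := ih fun z hz => hl z (List.mem_cons_of_mem _ hz)
        simp only [wordVal] at h1 ⊢
        simp only [List.map_cons, List.reverse_cons, List.map_append, List.prod_append, List.map_nil, List.prod_cons,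
          List.prod_nil, mul_one, mul_inv_rev]
        rw [h1, h.inv y (hl y (List.mem_cons_self ..))]
    exact this _ (hlt x hx)
  · rcases Nat.lt_or_ge x nl with hx' | hx'
    · exact Or.inl hx'
    · refine Or.inr ?_
      show wordVal g (key x) = 1
      rw [hhi x hx hx']; rfl
  · rw [← wordVal_flat]
    exact h.rel _ (hrel l hl).2

theorem word_p {g : ℕ → G} (h : IsSys g) : wordVal g [4, 12, 5] = wordVal g [13] := by
  -- `p = t u⁻¹ t⁻¹` is one of the relations
  have h1 := h.rel [4, 11, 5, 13] (by decide +kernel)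
  have i1 := h.inv 4 (by norm_num)
  have i2 := h.inv 11 (by norm_num)
  rw [show linv Top.ip 4 = 5 by decide +kernel] at i1
  rw [show linv Top.ip 11 = 12 by decide +kernel] at i2
  simp only [wordVal, List.map_cons, List.map_nil, List.prod_cons, List.prod_nil, mul_one, i1, i2] at h1 ⊢
  calc g 4 * ((g 11)⁻¹ * (g 4)⁻¹) = g 4 * (g 11)⁻¹ * (g 4)⁻¹ * (g 4 * (g 11 * ((g 4)⁻¹ * g 13))) := by
        rw [h1, mul_one, mul_assoc]
    _ = g 13 := by group

/-- The cosets of the subgroup of index 280. -/
theorem covers_top {g : ℕ → G} (h : IsSys g) :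
    CoversCosets (span g) (span fun x => wordVal g (keyMid x)) 280 := by
  have hp := word_p h
  refine Letters.Cert.covers (g := g) (h.high 15 le_rfl) h.inv
    (fun x hx => ?_) (span g) (span fun x => wordVal g (keyMid x)) le_rfl Top.cert Top.check
    (fun l hl => ⟨?_, h.rel l hl⟩) ?_
  · exact (Nat.lt_or_ge x 15).imp id (h.high x)
  · exact (show ∀ l ∈ Top.rels, ∀ x ∈ l, x < 16 by decide +kernel) l hl
  · have key : ∀ l ∈ Top.subWords, (∀ x ∈ l, x < 16) ∧
        ((∃ b < 14, l = keyMid b) ∨ l = [13]) := by decide +kernel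
    intro l hl
    obtain ⟨h16, hor⟩ := key l hl
    refine ⟨h16, ?_⟩
    show wordVal g l ∈ _
    rcases hor with ⟨b, hb, rfl⟩ | rfl
    · exact mem_span (g := fun x => wordVal g (keyMid x)) (by omega)
    · rw [← hp, show ([4, 12, 5] : List ℕ) = [12, 7, 13].flatMap keyMid by decide +kernel, wordVal_flat]
      exact wordVal_mem (g := fun x => wordVal g (keyMid x)) (by decide +kernel)

/-- The group generated by the letters has order at most 3265920. -/
theorem card_span_le {g : ℕ → G} (h : IsSys g) : Finite (span g) ∧ Nat.card (span g) ≤ 3265920 := by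
  have hB : Finite (span fun x => wordVal g (keyBot x)) ∧ Nat.card (span fun x => wordVal g (keyBot x)) ≤ 243 := by
    refine card_le_step (N := 243) (c := 1) (covers_sub h keyBot Bot.ip 10 Bot.rels Bot.subWords Bot.cert Bot.check
      (by norm_num) (by decide +kernel) (by decide +kernel) (by decide +kernel) ?_ ⊥ ?_)
      ⟨inferInstance, (Subgroup.card_bot).le⟩ rfl
    · exact (show ∀ l ∈ Bot.rels, (∀ x ∈ l, x < 16) ∧ l.flatMap keyBot ∈ Top.rels by decide +kernel)
    · intro l hl
      simp [Bot.subWords] at hl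
  have hp := word_p h
  have hM : Finite (span fun x => wordVal g (keyMid x)) ∧
      Nat.card (span fun x => wordVal g (keyMid x)) ≤ 11664 := by
    refine card_le_step (N := 48) (c := 243) (covers_sub h keyMid Mid.ip 14 Mid.rels Mid.subWords Mid.cert Mid.check
      (by norm_num) (by decide +kernel) (by decide +kernel) (by decide +kernel) ?_
      (span fun x => wordVal g (keyBot x)) ?_) hB rfl
    · exact (show ∀ l ∈ Mid.rels, (∀ x ∈ l, x < 16) ∧ l.flatMap keyMid ∈ Top.rels by decide +kernel)
    · have key : ∀ l ∈ Mid.subWords, (∀ x ∈ l, x < 16) ∧ ∃ b < 10,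
          l.flatMap keyMid = keyBot b ∨ (l.flatMap keyMid = [4, 12, 5] ∧ keyBot b = [13]) := by decide +kernel
      intro l hl
      obtain ⟨h16, b, hb, hor⟩ := key l hl
      refine ⟨h16, ?_⟩
      rw [show wordVal (fun x => wordVal g (keyMid x)) l = wordVal g (l.flatMap keyMid) from
        (wordVal_flat g keyMid l).symm]
      have e : wordVal g (l.flatMap keyMid) = wordVal g (keyBot b) := by
        rcases hor with e | ⟨e1, e2⟩
        · rw [e]
        · rw [e1, e2, hp]
      rw [e]
      exact mem_span (g := fun x => wordVal g (keyBot x)) (by omega)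
  exact card_le_step (N := 280) (c := 11664) (covers_top h) hM rfl

end CfsgLib.U43Type
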