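import Cfsg.Agent.Lib.U43Type.Frame
import Mathlib.GroupTheory.Sylow

/-!
Groups of `U₄(3)` type: every element of the centralizer in coordinates, and the single class of involutions.
-/

set_option autoImplicit false
set_option linter.style.haveILetI false

namespace CfsgLib.U43Type

open Subgroup

universe u

namespace SL23

theorem not_inner_flip : ∀ a : SL23, ¬ (a * xx * a⁻¹ = flip xx ∧ a * yy * a⁻¹ = flip yy) := by decide +kernel

theorem side_disjoint : ∀ a : SL23, ¬ Equ (a * xx * a⁻¹, 1) ((1 : SL23), xx) ∧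
    ¬ Equ (a * xx * a⁻¹, 1) ((1 : SL23), flip xx) := by decide +kernel

theorem sq_four : ∀ a : SL23, a * a = 1 ∨ a * a = neg → a ^ 4 = 1 := by decide +kernel

theorem flip_sq : ∀ a : SL23, a * flip a ≠ neg := by decide +kernel

theorem swap_model : ∀ a b : SL23, Equ ((a, b) * (b, a)) 1 →
    Equ (a, b) (a, a⁻¹) ∨ Equ (a, b) ((a, a⁻¹) * (neg, 1)) := by decide +kernel

theorem cos_mul : flip 1 = 1 ∧ xx ^ 3 = 1 ∧ yy ^ 3 = 1 := by decide +kernel

end SL23

namespace Frame

variable {G : Type u} [Group G] (F : Frame G)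

/-- The four coset representatives. -/
def cos : Fin 4 → G := ![1, F.T, F.s, F.s * F.T]

/-- Their actions on pairs. -/
def act : Fin 4 → Pr → Pr :=
  ![id, fun p => (SL23.flip p.1, SL23.flip p.2), fun p => (p.2, p.1), fun p => (SL23.flip p.2, SL23.flip p.1)]

theorem cos_z (i : Fin 4) : Commute (F.cos i) F.D.z := by
  fin_cases i
  · exact Commute.one_left _
  · exact F.T_z
  · exact F.s_z
  · exact F.s_z.mul_left F.T_z

theorem cos_conj (i : Fin 4) (p : Pr) : F.cos i * F.D.f p * (F.cos i)⁻¹ = F.D.f (act i p) := by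
  fin_cases i
  · simp [cos, act]
  · exact F.T_conj p
  · exact F.s_conj p
  · show F.s * F.T * F.D.f p * (F.s * F.T)⁻¹ = _
    rw [show F.s * F.T * F.D.f p * (F.s * F.T)⁻¹ = F.s * (F.T * F.D.f p * F.T⁻¹) * F.s⁻¹ by group,
      F.T_conj, F.s_conj]
    rfl

theorem cos_sq : F.cos 0 * F.cos 0 = 1 ∧ F.cos 1 * F.cos 1 = F.D.z ∧ F.cos 2 * F.cos 2 = 1 ∧
    F.cos 3 * F.cos 3 = 1 := by
  refine ⟨mul_one 1, F.T_sq, F.s_sq, ?_⟩
  calc F.s * F.T * (F.s * F.T) = F.s * F.T * F.s * F.T := by group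
    _ = F.T * (F.D.z * F.T) := by rw [F.s_T, mul_assoc]
    _ = 1 := by rw [← F.T_z.eq, ← mul_assoc, F.T_sq, F.D.z_sq]

theorem inner_fst (r : Pr) (a : SL23) :
    F.D.f r * F.D.f (a, 1) * (F.D.f r)⁻¹ = F.D.f (r.1 * a * r.1⁻¹, 1) := by
  rw [← map_inv, ← map_mul, ← map_mul]
  exact congrArg F.D.f (Prod.ext rfl (by simp))

theorem cos_notMem (i : Fin 4) (hi : i ≠ 0) : F.cos i ∉ F.D.f.range := by
  rintro ⟨r, hr⟩
  have h := fun a : SL23 => F.cos_conj i (a, 1)
  simp only [← hr, F.inner_fst] at h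
  fin_cases i
  · exact hi rfl
  · refine SL23.not_inner_flip r.1 ⟨?_, ?_⟩
    · exact F.D.side_inj (s := true) ((h SL23.xx).trans (by simp [act, Hyp.side, SL23.cos_mul.1]))
    · exact F.D.side_inj (s := true) ((h SL23.yy).trans (by simp [act, Hyp.side, SL23.cos_mul.1]))
  · exact (SL23.side_disjoint r.1).1 (F.D.eq_iff.1 ((h SL23.xx).trans rfl))
  · exact (SL23.side_disjoint r.1).2 (F.D.eq_iff.1 ((h SL23.xx).trans (by simp [act, SL23.cos_mul.1])))

variable [Finite G]

theorem card_range : Nat.card F.D.f.range = 288 := by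
  have hk : Nat.card F.D.f.ker = 2 := by
    rw [Nat.card_eq_two_iff]
    refine ⟨⟨1, one_mem _⟩, ⟨(SL23.neg, SL23.neg), MonoidHom.mem_ker.2 ((F.D.ker _).2 (Or.inr rfl))⟩, ?_, ?_⟩
    · intro h
      exact absurd (show (1 : Pr) = (SL23.neg, SL23.neg) from congrArg Subtype.val h) (by decide +kernel)
    · ext ⟨x, hx⟩
      simp only [Set.mem_insert_iff, Set.mem_singleton_iff, Set.mem_univ, iff_true]
      rcases (F.D.ker x).1 hx with h | h
      · exact Or.inl (Subtype.ext h)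
      · exact Or.inr (Subtype.ext h)
  have h := Subgroup.card_eq_card_quotient_mul_card_subgroup F.D.f.ker
  rw [hk, Nat.card_prod, Nat.card_eq_fintype_card, SL23.card_eq,
    Nat.card_congr (QuotientGroup.quotientKerEquivRange F.D.f).toEquiv] at h
  omega

/-- Every element of the centralizer in coordinates. -/
theorem decomp {c : G} (hc : Commute c F.D.z) : ∃ r i, c = F.D.f r * F.cos i := by
  classical
  let φ : Fin 4 × F.D.f.range → centralizer ({F.D.z} : Set G) := fun v => ⟨(v.2 : G) * F.cos v.1, by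
    obtain ⟨i, x, r, rfl⟩ := v
    exact mem_centralizer_singleton_iff.2 ((F.D.f_comm r).mul_left (F.cos_z i)).eq⟩
  have key : ∀ i j : Fin 4, F.cos i * (F.cos j)⁻¹ ∈ F.D.f.range → i = j := by
    have hz : F.D.z ∈ F.D.f.range := ⟨_, F.D.f_neg⟩
    have h1 := F.cos_notMem 1 (by decide)
    have h2 := F.cos_notMem 2 (by decide)
    have h3 := F.cos_notMem 3 (by decide)
    have hTi : F.T⁻¹ = F.T * F.D.z := inv_eq_of_mul_eq_one_right (by rw [← mul_assoc, F.T_sq, F.D.z_sq])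
    have hsi : F.s⁻¹ = F.s := inv_eq_of_mul_eq_one_right F.s_sq
    have hw : F.cos 3 * F.cos 3 = 1 := F.cos_sq.2.2.2
    change F.T ∉ _ at h1
    change F.s ∉ _ at h2
    change F.s * F.T ∉ _ at h3
    change F.s * F.T * (F.s * F.T) = 1 at hw
    have hcm : F.s * F.T⁻¹ = F.s * F.T * F.D.z := by rw [hTi, mul_assoc]
    have cancel : ∀ x : G, x * F.D.z ∈ F.D.f.range → x ∈ F.D.f.range := fun x hx =>
      (mul_mem_cancel_right hz).1 hx
    have hd : F.s * F.T⁻¹ * F.s⁻¹ = F.T * F.D.z * F.D.z := by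
      rw [hTi, hsi, ← mul_assoc, mul_assoc _ F.D.z F.s, ← F.s_z.eq, ← mul_assoc, F.s_T]
    intro i j h
    match i, j with
    | 0, 0 | 1, 1 | 2, 2 | 3, 3 => rfl
    | 0, 1 =>
      change 1 * F.T⁻¹ ∈ _ at h
      exact absurd (by simpa using inv_mem h) h1
    | 0, 2 =>
      change 1 * F.s⁻¹ ∈ _ at h
      exact absurd (by simpa using inv_mem h) h2
    | 0, 3 =>
      change 1 * (F.s * F.T)⁻¹ ∈ _ at h
      exact absurd (by simpa using inv_mem h) h3
    | 1, 0 =>
      change F.T * 1⁻¹ ∈ _ at h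
      exact absurd (by simpa using h) h1
    | 1, 2 =>
      change F.T * F.s⁻¹ ∈ _ at h
      have h' := inv_mem h
      rw [mul_inv_rev, inv_inv, hcm] at h'
      exact absurd (cancel _ h') h3
    | 1, 3 =>
      change F.T * (F.s * F.T)⁻¹ ∈ _ at h
      rw [mul_inv_rev, ← mul_assoc, mul_inv_cancel, one_mul, hsi] at h
      exact absurd h h2
    | 2, 0 =>
      change F.s * 1⁻¹ ∈ _ at h
      exact absurd (by simpa using h) h2
    | 2, 1 =>
      change F.s * F.T⁻¹ ∈ _ at h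
      rw [hcm] at h; exact absurd (cancel _ h) h3
    | 2, 3 =>
      change F.s * (F.s * F.T)⁻¹ ∈ _ at h
      rw [mul_inv_rev, ← mul_assoc, hd] at h
      exact absurd (cancel _ (cancel _ h)) h1
    | 3, 0 =>
      change F.s * F.T * 1⁻¹ ∈ _ at h
      exact absurd (by simpa using h) h3
    | 3, 1 =>
      change F.s * F.T * F.T⁻¹ ∈ _ at h
      exact absurd (by simpa [mul_assoc] using h) h2
    | 3, 2 =>
      change F.s * F.T * F.s⁻¹ ∈ _ at h
      rw [hsi, F.s_T] at h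
      exact absurd (cancel _ h) h1
  have hinj : Function.Injective φ := by
    rintro ⟨i, x⟩ ⟨j, y⟩ h
    have h' : (x : G) * F.cos i = (y : G) * F.cos j := congrArg Subtype.val h
    have hij : i = j := key i j (by
      rw [show F.cos i * (F.cos j)⁻¹ = (x : G)⁻¹ * y by
        rw [eq_inv_mul_iff_mul_eq, ← mul_assoc, h', mul_inv_cancel_right]]
      exact mul_mem (inv_mem x.2) y.2)
    subst hij
    exact Prod.ext rfl (Subtype.ext (mul_right_cancel h'))
  have hsurj : Function.Surjective φ := (hinj.bijective_of_nat_card_le (by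
    rw [Nat.card_prod, Nat.card_fin, F.card_range, F.D.card_C])).surjective
  obtain ⟨⟨i, x, r, rfl⟩, hv⟩ := hsurj ⟨c, mem_centralizer_singleton_iff.2 hc.eq⟩
  exact ⟨r, i, (congrArg Subtype.val hv).symm⟩

theorem sq_eq (r : Pr) (i : Fin 4) :
    F.D.f r * F.cos i * (F.D.f r * F.cos i) = F.D.f (r * act i r) * (F.cos i * F.cos i) := by
  rw [map_mul, ← F.cos_conj i r]; group

/-- The involutions of the centralizer are conjugate to `z`. -/
theorem invol_C {c : G} (hc : Commute c F.D.z) (h2 : c * c = 1) (h1 : c ≠ 1) : IsConj F.D.z c := by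
  obtain ⟨r, i, rfl⟩ := F.decomp hc
  rw [F.sq_eq] at h2
  obtain ⟨-, hq1, hq2, hq3⟩ := F.cos_sq
  have hfin : ∀ (a : SL23) (w : G) (_ : Commute w F.D.z) (r' : Pr),
      F.D.f (a, 1) * w * (F.D.f (a, 1))⁻¹ = F.D.f r' * w →
      Equ r r' ∨ Equ r (r' * (SL23.neg, 1)) → IsConj F.D.z w → IsConj F.D.z (w * F.D.z) →
      IsConj F.D.z (F.D.f r * w) := by
    intro a w hw r' hr' he hw1 hw2
    rcases he with h | h
    · rw [F.D.eq_iff.2 h, ← hr']; exact hw1.trans (isConj_iff.2 ⟨_, rfl⟩)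
    · refine hw2.trans (isConj_iff.2 ⟨F.D.f (a, 1), ?_⟩)
      rw [F.D.eq_iff.2 h, map_mul, F.D.f_neg, mul_assoc (F.D.f r'), hw.symm.eq, ← mul_assoc (F.D.f r'), ← hr']
      simp only [mul_assoc]
      rw [(F.D.f_comm (a, 1)).inv_left.eq]
  fin_cases i
  · change F.D.f (r * r) * (1 * 1) = 1 at h2
    rw [mul_one, mul_one] at h2
    change IsConj F.D.z (F.D.f r * 1)
    change F.D.f r * 1 ≠ 1 at h1
    rw [mul_one] at h1 ⊢
    have hr : r ∈ Qs := by
      rcases (F.D.ker _).1 h2 with h | h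
      · exact ⟨SL23.sq_four _ (Or.inl (congrArg Prod.fst h :)), SL23.sq_four _ (Or.inl (congrArg Prod.snd h :))⟩
      · exact ⟨SL23.sq_four _ (Or.inr (congrArg Prod.fst h :)), SL23.sq_four _ (Or.inr (congrArg Prod.snd h :))⟩
    by_cases hz : F.D.f r = F.D.z
    · rw [hz]
    · obtain ⟨g, hg⟩ := F.D.exists_g0
      obtain ⟨r', hr'⟩ := F.D.invol_conj (F.D.mem_Qm hr) (by rw [← map_mul]; exact h2) h1 hz
      exact (isConj_iff.2 ⟨g, hg⟩ : IsConj F.D.z F.D.t).trans (isConj_iff.2 ⟨_, hr'⟩)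
  · exfalso
    change F.D.f (r * (SL23.flip r.1, SL23.flip r.2)) * (F.T * F.T) = 1 at h2
    rw [F.T_sq, ← F.D.f_neg, ← map_mul, F.D.ker] at h2
    rcases h2 with h | h
    · have := (congrArg Prod.fst h :)
      simp only [Prod.fst_mul, Prod.fst_one] at this
      exact SL23.flip_sq r.1 ((mul_eq_one_iff_eq_inv.1 this).trans (by decide +kernel))
    · have := (congrArg Prod.snd h :)
      simp only [Prod.snd_mul, mul_one] at this
      exact SL23.flip_sq r.2 this
  · change F.D.f (r * (r.2, r.1)) * (F.s * F.s) = 1 at h2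
    rw [F.s_sq, mul_one, ← map_one F.D.f, F.D.eq_iff] at h2
    refine hfin r.1 F.s F.s_z (r.1, r.1⁻¹) ?_ (SL23.swap_model _ _ h2) F.s_class.1 F.s_class.2
    rw [show F.D.f (r.1, 1) * F.s * (F.D.f (r.1, 1))⁻¹ =
      F.D.f (r.1, 1) * (F.s * (F.D.f (r.1, 1))⁻¹ * F.s⁻¹) * F.s by group, ← map_inv F.D.f, F.s_conj, ← map_mul]
    congr 2
    exact Prod.ext (by simp) (by simp)
  · change F.D.f (r * (SL23.flip r.2, SL23.flip r.1)) * (F.cos 3 * F.cos 3) = 1 at h2
    rw [hq3, mul_one, ← map_one F.D.f, F.D.eq_iff] at h2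
    refine hfin r.1 (F.s * F.T) (F.s_z.mul_left F.T_z) (r.1, (SL23.flip r.1)⁻¹) ?_ (sT_model _ _ h2)
      F.sT_class.1 F.sT_class.2
    have hc := F.cos_conj 3 (r.1, 1)⁻¹
    change F.s * F.T * _ * (F.s * F.T)⁻¹ = _ at hc
    rw [show F.D.f (r.1, 1) * (F.s * F.T) * (F.D.f (r.1, 1))⁻¹ =
      F.D.f (r.1, 1) * (F.s * F.T * (F.D.f (r.1, 1))⁻¹ * (F.s * F.T)⁻¹) * (F.s * F.T) by group,
      ← map_inv F.D.f, hc, ← map_mul]
    congr 2
    refine Prod.ext ?_ ?_
    · simp [act, SL23.cos_mul.1]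
    · show (1 : SL23) * SL23.flip r.1⁻¹ = _
      rw [one_mul]; exact map_inv SL23.flipHom _

/-- A 2-subgroup containing `Q` in the centralizer whose normalizer lies there. -/
theorem two_sylow_fix {S : Subgroup G} (hQS : F.D.Qm ≤ S) (hSC : S ≤ centralizer ({F.D.z} : Set G))
    {n : G} (hn : n ∈ normalizer (S : Set G)) : Commute n F.D.z := by
  have hz : F.D.z ∈ S := hQS F.D.z_mem
  set w := n * F.D.z * n⁻¹ with hw
  have hwS : w ∈ S := (mem_normalizer_iff.1 hn _).1 hz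
  have hcen : ∀ q ∈ S, Commute w q := by
    intro q hq
    have h0 : Commute (n⁻¹ * q * n) F.D.z :=
      mem_centralizer_singleton_iff.1 (hSC ((mem_normalizer_iff''.1 hn q).1 hq))
    have h := h0.symm.map (MulAut.conj n).toMonoidHom
    simp only [MulEquiv.coe_toMonoidHom, MulAut.conj_apply] at h
    rwa [show n * (n⁻¹ * q * n) * n⁻¹ = q by group] at h
  rcases F.D.cent_Qm (mem_centralizer_singleton_iff.1 (hSC hwS))
    (fun p hp => hcen _ (hQS (F.D.mem_Qm hp))) with h | h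
  · exact absurd (by rwa [hw, mul_inv_eq_one, mul_eq_left] at h) F.D.z_ne
  · rwa [hw, mul_inv_eq_iff_eq_mul] at h

/-- `G` has one class of involutions. -/
theorem one_class {x : G} (hx2 : x * x = 1) (hx1 : x ≠ 1) : IsConj F.D.z x := by
  classical
  haveI : Fact (Nat.Prime 2) := ⟨Nat.prime_two⟩
  set C := centralizer ({F.D.z} : Set G) with hC
  obtain ⟨S⟩ : Nonempty (Sylow 2 C) := inferInstance
  have hS : Nat.card (S : Subgroup C) = 128 := by
    rw [S.card_eq_multiplicity, F.D.card_C, show (1152 : ℕ) = 2 ^ 7 * 3 ^ 2 by norm_num,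
      Nat.factorization_mul (by norm_num) (by norm_num), Nat.Prime.factorization_pow Nat.prime_two,
      Nat.Prime.factorization_pow Nat.prime_three]
    simp [Finsupp.single_apply]
  have hQC : F.D.Qm ≤ C := fun a ha => mem_centralizer_singleton_iff.2 (F.D.Qm_comm ha)
  haveI : (F.D.Qm.subgroupOf C).Normal :=
    ⟨fun a ha c => mem_subgroupOf.2 (F.D.Qm_normal (mem_centralizer_singleton_iff.1 c.2) (mem_subgroupOf.1 ha))⟩
  have hQp : IsPGroup 2 (F.D.Qm.subgroupOf C) := IsPGroup.of_card (n := 5) (by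
    rw [Nat.card_congr (subgroupOfEquivOfLe hQC).toEquiv, F.D.card_Qm]; norm_num)
  have hQS : F.D.Qm ≤ (S : Subgroup C).map C.subtype := by
    intro a ha
    exact ⟨⟨a, hQC ha⟩, hQp.le_sylow_of_normal S (mem_subgroupOf.2 ha), rfl⟩
  set S' := (S : Subgroup C).map C.subtype with hS'
  have hS'C : S' ≤ C := map_subtype_le _
  have hS'card : Nat.card S' = 128 := by
    rw [← hS]; exact (Nat.card_congr ((S : Subgroup C).equivMapOfInjective _ (subtype_injective C)).toEquiv).symm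
  have hS'p : IsPGroup 2 S' := IsPGroup.of_card (n := 7) (by rw [hS'card]; norm_num)
  obtain ⟨P, hP⟩ := hS'p.exists_le_sylow
  have hPS : (P : Subgroup G) = S' := by
    by_contra hne
    let R := S'.subgroupOf (P : Subgroup G)
    have hR : R ≠ ⊤ := fun h => hne (le_antisymm (fun a ha => mem_subgroupOf.1 (h ▸ Subgroup.mem_top (⟨a, ha⟩ : (P : Subgroup G)))) hP)
    have hlt : R < normalizer (R : Set (P : Subgroup G)) :=
      normalizerCondition_of_isNilpotent (h := P.isPGroup'.isNilpotent) R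
        (lt_top_iff_ne_top.2 hR)
    obtain ⟨n, hnN, hnR⟩ := SetLike.exists_of_lt hlt
    have hn : (n : G) ∈ normalizer (S' : Set G) := mem_normalizer_fintype fun a ha => by
      have := (mem_normalizer_iff.1 hnN ⟨a, hP ha⟩).1 (mem_subgroupOf.2 ha)
      exact mem_subgroupOf.1 this
    have hnC : (n : G) ∈ C := mem_centralizer_singleton_iff.2 (F.two_sylow_fix hQS hS'C hn).eq
    have hPC : IsPGroup 2 ((P : Subgroup G).subgroupOf C) := by
      exact P.isPGroup'.comap_subtype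
    have hle : (S : Subgroup C) ≤ (P : Subgroup G).subgroupOf C := fun a ha =>
      mem_subgroupOf.2 (hP ⟨a, ha, rfl⟩)
    have heq := S.is_maximal' hPC hle
    exact hnR (mem_subgroupOf.2 ⟨⟨n, hnC⟩, heq ▸ (mem_subgroupOf.2 n.2 : (⟨n, hnC⟩ : C) ∈ (P : Subgroup G).subgroupOf C), rfl⟩)
  obtain ⟨P', hP'⟩ := (IsPGroup.of_card (G := zpowers x) (p := 2) (n := 1) (by
    rw [Nat.card_zpowers, pow_one]; exact orderOf_eq_prime (by rw [pow_two]; exact hx2) hx1)).exists_le_sylow
  obtain ⟨g, hg⟩ := MulAction.exists_smul_eq G P' P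
  have hgx : g * x * g⁻¹ ∈ C := by
    refine hS'C (hPS ▸ ?_)
    rw [← hg]
    show g * x * g⁻¹ ∈ ((g • P' : Sylow 2 G) : Subgroup G)
    rw [Sylow.smul_def, Sylow.pointwise_smul_def]
    exact ⟨x, hP' (mem_zpowers x), rfl⟩
  refine (F.invol_C (mem_centralizer_singleton_iff.1 hgx) ?_ ?_).trans (IsConj.symm (isConj_iff.2 ⟨g, rfl⟩))
  · rw [show g * x * g⁻¹ * (g * x * g⁻¹) = g * (x * x) * g⁻¹ by group, hx2]; group
  · exact fun h => hx1 (by rwa [mul_inv_eq_one, mul_eq_left] at h)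

end Frame

end CfsgLib.U43Type
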