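import Cfsg.Agent.Lib.U43Type.Points

/-!
Groups of `U₄(3)` type: the letters generate the whole group.
-/

set_option autoImplicit false
set_option linter.style.haveILetI false

namespace CfsgLib.U43Type

open Subgroup

universe u

namespace Frame

variable {G : Type u} [Group G] {F : Frame G}

namespace EBase

variable (B : F.EBase) [Finite G]

theorem H0_eq_top : B.H0 = ⊤ := by
  classical
  haveI : Fact (Nat.Prime 3) := ⟨Nat.prime_three⟩
  by_contra hne
  obtain ⟨g, -, hg⟩ := SetLike.exists_of_lt (lt_top_iff_ne_top.2 hne)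
  have hzH : F.D.z ∈ B.H0 := B.cent_mem (Commute.refl _)
  -- an involution outside
  set m := g * F.D.z * g⁻¹ with hm
  have hmm : m * m = 1 := by
    rw [hm, show g * F.D.z * g⁻¹ * (g * F.D.z * g⁻¹) = g * (F.D.z * F.D.z) * g⁻¹ by group, F.D.z_sq]; group
  have hm1 : m ≠ 1 := fun e => F.D.z_ne (by rwa [hm, mul_inv_eq_one, mul_eq_left] at e)
  have hmH : m ∉ B.H0 := by
    intro h
    obtain ⟨c, hc, hcm⟩ := B.invol_H0 h hmm hm1
    have hcomm : Commute (c⁻¹ * g) F.D.z := by
      show _ = _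
      calc c⁻¹ * g * F.D.z = c⁻¹ * m * g := by rw [hm]; group
        _ = _ := by rw [← hcm]; group
    have := mul_mem hc (B.cent_mem hcomm)
    rw [mul_inv_cancel_left] at this
    exact hg this
  have minv : m⁻¹ = m := inv_eq_of_mul_eq_one_right hmm
  -- an involution lies in at most one conjugate
  have huniq : ∀ {a b x : G}, x * x = 1 → x ≠ 1 → a⁻¹ * x * a ∈ B.H0 → b⁻¹ * x * b ∈ B.H0 → b⁻¹ * a ∈ B.H0 := by
    intro a b x hxx hx1 ha hb
    have hsq : ∀ c : G, c⁻¹ * x * c * (c⁻¹ * x * c) = 1 := fun c => by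
      rw [show c⁻¹ * x * c * (c⁻¹ * x * c) = c⁻¹ * (x * x) * c by group, hxx]; group
    have hne1 : ∀ c : G, c⁻¹ * x * c ≠ 1 := fun c e => hx1 (by
      calc x = c * (c⁻¹ * x * c) * c⁻¹ := by group
        _ = 1 := by rw [e]; group)
    obtain ⟨h1, hh1, e1⟩ := B.invol_H0 ha (hsq a) (hne1 a)
    obtain ⟨h2, hh2, e2⟩ := B.invol_H0 hb (hsq b) (hne1 b)
    have hcomm : Commute ((b * h2)⁻¹ * (a * h1)) F.D.z := by
      show _ = _
      calc (b * h2)⁻¹ * (a * h1) * F.D.z = h2⁻¹ * b⁻¹ * (a * (h1 * F.D.z * h1⁻¹)) * h1 := by group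
        _ = h2⁻¹ * (b⁻¹ * x * b) * b⁻¹ * a * h1 := by rw [e1]; group
        _ = _ := by rw [← e2]; group
    have := mul_mem (mul_mem hh2 (B.cent_mem hcomm)) (inv_mem hh1)
    rwa [show h2 * ((b * h2)⁻¹ * (a * h1)) * h1⁻¹ = b⁻¹ * a by group] at this
  -- the intersection with the conjugate
  let Dc : Subgroup G := B.H0 ⊓ B.H0.map (MulAut.conj m).toMonoidHom
  have hDc : ∀ {x}, x ∈ Dc ↔ x ∈ B.H0 ∧ m * x * m ∈ B.H0 := by
    intro x
    constructor
    · rintro ⟨h1, y, hy, rfl⟩
      refine ⟨h1, ?_⟩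
      show m * (m * y * m⁻¹) * m ∈ B.H0
      rw [minv, show m * (m * y * m) * m = (m * m) * y * (m * m) by group, hmm, one_mul, mul_one]
      exact hy
    · rintro ⟨h1, h2⟩
      refine ⟨h1, m * x * m, h2, ?_⟩
      show m * (m * x * m) * m⁻¹ = x
      rw [minv, show m * (m * x * m) * m = (m * m) * x * (m * m) by group, hmm, one_mul, mul_one]
  let D : Subgroup B.H0 := Dc.subgroupOf B.H0
  have hDinv : ∀ x ∈ B.H0, m * x * m ∈ B.H0 → x * x = 1 → x = 1 := by
    intro x hx hmx hxx
    by_contra hx1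
    have := huniq (a := m) (b := 1) hxx hx1 (by rwa [minv]) (by rwa [inv_one, one_mul, mul_one])
    rw [inv_one, one_mul] at this
    exact hmH this
  have hDodd : Odd (Nat.card D) := by
    rw [← Nat.not_even_iff_odd, even_iff_two_dvd]
    intro h2
    obtain ⟨x, hx⟩ := exists_prime_orderOf_dvd_card' (G := D) 2 h2
    have hxx : x * x = 1 := by rw [← pow_two, ← hx, pow_orderOf_eq_one]
    obtain ⟨h1, h2⟩ := hDc.1 (mem_subgroupOf.1 x.2)
    have := hDinv _ h1 h2 (congrArg (fun y : D => ((y : B.H0) : G)) hxx)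
    have hx1 : x = 1 := Subtype.ext (Subtype.ext this)
    rw [hx1, orderOf_one] at hx
    omega
  -- transitivity on the involutions
  have htrans : ∀ j : G, j ∈ B.H0 → j * j = 1 → j ≠ 1 → ∃ d : B.H0, d ∈ D ∧ (d : G) * F.D.z * (d : G)⁻¹ = j := by
    intro j hj hjj hj1
    set x := m * F.D.z * m with hx
    have hxx : x * x = 1 := by
      rw [hx, show m * F.D.z * m * (m * F.D.z * m) = m * F.D.z * (m * m) * F.D.z * m by group, hmm, mul_one,
        mul_assoc m, F.D.z_sq, mul_one, hmm]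
    have hx1 : x ≠ 1 := fun e => F.D.z_ne (by
      calc F.D.z = (m * m) * F.D.z * (m * m) := by rw [hmm, one_mul, mul_one]
        _ = m * x * m := by rw [hx]; group
        _ = 1 := by rw [e, mul_one, hmm])
    have hxH : x ∉ B.H0 := fun h => F.D.z_ne (hDinv F.D.z hzH h F.D.z_sq)
    have jinv : j⁻¹ = j := inv_eq_of_mul_eq_one_right hjj
    have xinv : x⁻¹ = x := inv_eq_of_mul_eq_one_right hxx
    -- the product has odd order
    have hodd : Odd (orderOf (j * x)) := by
      rw [← Nat.not_even_iff_odd]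
      rintro ⟨k, hk⟩
      have hpos : 0 < orderOf (j * x) := orderOf_pos _
      set c := (j * x) ^ k with hc
      have hcc : c * c = 1 := by rw [hc, ← pow_add, ← hk, pow_orderOf_eq_one]
      have hc1 : c ≠ 1 := fun e => absurd (Nat.le_of_dvd (by omega) (orderOf_dvd_of_pow_eq_one e)) (by omega)
      have cinv : c⁻¹ = c := inv_eq_of_mul_eq_one_right hcc
      have hy : ∀ {a : G}, a * a = 1 → a * (j * x) * a = (j * x)⁻¹ → Commute c a := by
        intro a haa h
        have ai : a⁻¹ = a := inv_eq_of_mul_eq_one_right haa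
        have h1 : a * c * a⁻¹ = c := by
          rw [hc, ← conj_pow, ai, h, inv_pow]; exact cinv
        rw [mul_inv_eq_iff_eq_mul] at h1
        exact h1.symm
      have cj : Commute c j := hy hjj (by
        rw [mul_inv_rev, xinv, jinv, ← mul_assoc j j, hjj, one_mul])
      have cx : Commute c x := hy hxx (by
        rw [mul_inv_rev, xinv, jinv, mul_assoc x (j * x) x, mul_assoc j x x, hxx, mul_one])
      have hcH : c ∈ B.H0 := B.cent_invol hj hjj hj1 cj
      exact hxH (B.cent_invol hcH hcc hc1 cx.symm)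
    obtain ⟨k, hk⟩ := hodd
    set e := (j * x) ^ (k + 1) with he
    have hje : j * e * j = e⁻¹ := by
      have h0 : j * (j * x) * j = (j * x)⁻¹ := by rw [mul_inv_rev, xinv, jinv, ← mul_assoc j j, hjj, one_mul]
      calc j * e * j = j * e * j⁻¹ := by rw [jinv]
        _ = (j * (j * x) * j⁻¹) ^ (k + 1) := conj_pow.symm
        _ = _ := by rw [jinv, h0, inv_pow]
    have hee : e * e = j * x := by
      rw [he, ← pow_add, show k + 1 + (k + 1) = orderOf (j * x) + 1 by omega, pow_succ, pow_orderOf_eq_one, one_mul]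
    set m' := j * e with hm'
    have hm'm' : m' * m' = 1 := by
      rw [hm', ← mul_assoc, hje, inv_mul_cancel]
    have m'inv : m'⁻¹ = m' := inv_eq_of_mul_eq_one_right hm'm'
    have hm'j : m' * j * m' = x := by
      rw [hm']
      calc j * e * j * (j * e) = j * e * (j * j) * e := by group
        _ = j * (e * e) := by rw [hjj]; group
        _ = _ := by rw [hee, ← mul_assoc, hjj, one_mul]
    have hm'x : m' * x * m' = j := by
      rw [← hm'j, show m' * (m' * j * m') * m' = (m' * m') * j * (m' * m') by group, hm'm', one_mul, mul_one]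
    have hd : m' * m ∈ B.H0 := by
      have := huniq (a := m) (b := m') hxx hx1
        (by rw [minv, hx, show m * (m * F.D.z * m) * m = (m * m) * F.D.z * (m * m) by group, hmm, one_mul, mul_one]
            exact hzH)
        (by rw [m'inv, hm'x]; exact hj)
      rwa [m'inv] at this
    refine ⟨⟨m' * m, hd⟩, mem_subgroupOf.2 (hDc.2 ⟨hd, ?_⟩), ?_⟩
    · have := inv_mem hd
      rw [mul_inv_rev, minv, m'inv] at this
      show m * (m' * m) * m ∈ B.H0
      rw [show m * (m' * m) * m = m * m' * (m * m) by group, hmm, mul_one]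
      exact this
    · show m' * m * F.D.z * (m' * m)⁻¹ = j
      rw [mul_inv_rev, minv, m'inv, ← hm'x, hx]; group
  -- the order
  let z0 : B.H0 := ⟨F.D.z, hzH⟩
  let C : Subgroup B.H0 := centralizer ({z0} : Set B.H0)
  have hC : Nat.card C = 1152 := by
    rw [← F.D.card_C]
    refine Nat.card_congr
      { toFun := fun c => ⟨(c : B.H0), mem_centralizer_singleton_iff.2
          (congrArg Subtype.val (mem_centralizer_singleton_iff.1 c.2))⟩
        invFun := fun c => ⟨⟨c, B.cent_mem (mem_centralizer_singleton_iff.1 c.2)⟩,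
          mem_centralizer_singleton_iff.2 (Subtype.ext (mem_centralizer_singleton_iff.1 c.2))⟩
        left_inv := fun _ => rfl
        right_inv := fun _ => rfl }
  have hCidx : C.index = 2835 := by
    have := C.index_mul_card
    rw [hC, B.card_H0] at this
    omega
  have hidx : (C.subgroupOf D).index = 2835 := by
    rw [← hCidx]
    show Nat.card (D ⧸ C.subgroupOf D) = Nat.card (B.H0 ⧸ C)
    have hsurj : Function.Surjective (fun q : D ⧸ C.subgroupOf D =>
        Quotient.map' (s₁ := QuotientGroup.leftRel (C.subgroupOf D)) (s₂ := QuotientGroup.leftRel C)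
          (Subtype.val : D → B.H0) (fun a b hab => by
            rw [QuotientGroup.leftRel_apply] at hab ⊢; exact hab) q) := by
      intro q
      obtain ⟨h, rfl⟩ := QuotientGroup.mk_surjective q
      have hsq : (h : G) * F.D.z * (h : G)⁻¹ * ((h : G) * F.D.z * (h : G)⁻¹) = 1 := by
        rw [show (h : G) * F.D.z * (h : G)⁻¹ * ((h : G) * F.D.z * (h : G)⁻¹) =
          (h : G) * (F.D.z * F.D.z) * (h : G)⁻¹ by group, F.D.z_sq]; group
      obtain ⟨d, hd, hdz⟩ := htrans _ (mul_mem (mul_mem h.2 hzH) (inv_mem h.2)) hsq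
        (fun e => F.D.z_ne (by rwa [mul_inv_eq_one, mul_eq_left] at e))
      refine ⟨QuotientGroup.mk ⟨d, hd⟩, (QuotientGroup.eq (s := C)).2 (mem_centralizer_singleton_iff.2 (Subtype.ext ?_))⟩
      show ((d : G)⁻¹ * h) * F.D.z = F.D.z * ((d : G)⁻¹ * h)
      calc ((d : G)⁻¹ * h) * F.D.z = (d : G)⁻¹ * ((h : G) * F.D.z * (h : G)⁻¹) * h := by group
        _ = _ := by rw [← hdz]; group
    refine Nat.card_congr (Equiv.ofBijective _ ⟨?_, hsurj⟩)
    intro a b
    obtain ⟨a, rfl⟩ := QuotientGroup.mk_surjective a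
    obtain ⟨b, rfl⟩ := QuotientGroup.mk_surjective b
    intro h
    exact (QuotientGroup.eq).2 (mem_subgroupOf.2 ((QuotientGroup.eq (s := C)).1 h))
  set n := Nat.card (C.subgroupOf D) with hn
  have hDcard : Nat.card D = 2835 * n := by rw [← hidx, hn, Subgroup.index_mul_card]
  have hn9 : n ∣ 9 := by
    have h1 : n ∣ 1152 := by rw [← hC]; exact Subgroup.card_comap_dvd_of_injective C D.subtype D.subtype_injective
    have ho : Odd n := hDodd.of_dvd_nat ⟨2835, by rw [hDcard, mul_comm]⟩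
    exact (Nat.Coprime.pow_right 7 (Nat.coprime_two_right.2 ho)).dvd_of_dvd_mul_left (show n ∣ 2 ^ 7 * 9 from h1)
  have hn3 : n = 1 ∨ n = 3 ∨ n = 9 := by
    obtain ⟨i, hi, hin⟩ := (Nat.dvd_prime_pow Nat.prime_three).1 (show n ∣ 3 ^ 2 from hn9)
    interval_cases i
    · exact Or.inl hin
    · exact Or.inr (Or.inl hin)
    · exact Or.inr (Or.inr hin)
  -- a Sylow 3-subgroup of the intersection fixes two points
  obtain ⟨P⟩ : Nonempty (Sylow 3 D) := inferInstance
  have hP : Nat.card (P : Subgroup D) = 81 * n := by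
    rw [P.card_eq_multiplicity, hDcard]
    have e35 : (35 : ℕ).factorization 3 = 0 := Nat.factorization_eq_zero_of_not_dvd (by norm_num)
    rcases hn3 with h | h | h <;> rw [h]
    · rw [show 2835 * 1 = 3 ^ 4 * 35 by norm_num, Nat.factorization_mul (by norm_num) (by norm_num),
        Finsupp.add_apply, Nat.factorization_pow_self Nat.prime_three, e35]; norm_num
    · rw [show 2835 * 3 = 3 ^ 5 * 35 by norm_num, Nat.factorization_mul (by norm_num) (by norm_num),
        Finsupp.add_apply, Nat.factorization_pow_self Nat.prime_three, e35]; norm_num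
    · rw [show 2835 * 9 = 3 ^ 6 * 35 by norm_num, Nat.factorization_mul (by norm_num) (by norm_num),
        Finsupp.add_apply, Nat.factorization_pow_self Nat.prime_three, e35]; norm_num
  let P' : Subgroup B.H0 := (P : Subgroup D).map D.subtype
  have hP'card : Nat.card P' = 81 * n := by rw [Subgroup.card_map_of_injective D.subtype_injective, hP]
  letI : MulAction D (Fin 280) := MulAction.compHom _ (B.ψ.comp D.subtype)
  obtain ⟨q, hq⟩ : (MulAction.fixedPoints (P : Subgroup D) (Fin 280)).Nonempty := by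
    refine P.isPGroup'.nonempty_fixed_point_of_prime_not_dvd_card _ ?_
    rw [Nat.card_fin]; norm_num
  have hPq : P' ≤ B.stab q := by
    rintro _ ⟨x, hx, rfl⟩
    exact hq ⟨x, hx⟩
  have hDq : Nat.card ↥(D ⊓ B.stab q) = 81 * n := by
    refine Nat.dvd_antisymm ?_ (hP'card ▸ Subgroup.card_dvd_of_le (le_inf (map_subtype_le _) hPq))
    have h1 : Nat.card ↥(D ⊓ B.stab q) ∣ 11664 := B.card_stab q ▸ Subgroup.card_dvd_of_le inf_le_right
    have h2 : Nat.card ↥(D ⊓ B.stab q) ∣ 2835 * n := hDcard ▸ Subgroup.card_dvd_of_le inf_le_left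
    have h3 := Nat.dvd_gcd h1 h2
    rcases hn3 with h | h | h <;> rw [h] at h3 ⊢ <;> exact h3
  let O := {l : Fin 280 // ∃ h ∈ D, B.ψ h q = l}
  have hO : Nat.card O = 35 := by
    have h : Nat.card O * Nat.card ↥(D ⊓ B.stab q) = Nat.card D := B.card_orbit D q
    rw [hDq, hDcard] at h
    rcases hn3 with h' | h' | h' <;> rw [h'] at h <;> omega
  letI : MulAction (P : Subgroup D) O :=
    { smul := fun x l => ⟨B.ψ ((x : D) : B.H0) l.1, by
        obtain ⟨h, hh, e⟩ := l.2
        exact ⟨((x : D) : B.H0) * h, mul_mem (x : D).2 hh, by rw [map_mul, Equiv.Perm.mul_apply, e]⟩⟩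
      one_smul := fun l => Subtype.ext (by
        show B.ψ (((1 : (P : Subgroup D)) : D) : B.H0) l.1 = l.1
        rw [show (((1 : (P : Subgroup D)) : D) : B.H0) = 1 from rfl, map_one]; rfl)
      mul_smul := fun a b l => Subtype.ext (by
        show B.ψ (((a * b : (P : Subgroup D)) : D) : B.H0) l.1 = B.ψ _ (B.ψ _ l.1)
        rw [show (((a * b : (P : Subgroup D)) : D) : B.H0) = ((a : D) : B.H0) * ((b : D) : B.H0) from rfl,
          map_mul, Equiv.Perm.mul_apply]) }
  obtain ⟨l, hl, hlq⟩ : ∃ l : Fin 280, P' ≤ B.stab l ∧ l ≠ q := by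
    have hmod := P.isPGroup'.card_modEq_card_fixedPoints O
    rw [hO] at hmod
    have hge : 1 < Nat.card (MulAction.fixedPoints (P : Subgroup D) O) := by
      unfold Nat.ModEq at hmod; omega
    haveI := (Finite.one_lt_card_iff_nontrivial).1 hge
    obtain ⟨a, b, hab⟩ := exists_pair_ne (MulAction.fixedPoints (P : Subgroup D) O)
    have hfix : ∀ c : MulAction.fixedPoints (P : Subgroup D) O, P' ≤ B.stab c.1.1 := by
      rintro c _ ⟨x, hx, rfl⟩
      exact congrArg Subtype.val (c.2 ⟨x, hx⟩)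
    by_cases ha : a.1.1 = q
    · exact ⟨b.1.1, hfix b, fun hb => hab (Subtype.ext (Subtype.ext (ha.trans hb.symm)))⟩
    · exact ⟨a.1.1, hfix a, ha⟩
  -- move the first point to the base point
  obtain ⟨h₀, hh₀⟩ := B.transitive q
  let P'' : Subgroup B.H0 := P'.map (MulAut.conj h₀⁻¹).toMonoidHom
  have hP''card : Nat.card P'' = 81 * n := by
    rw [Subgroup.card_map_of_injective (MulAut.conj h₀⁻¹).injective, hP'card]
  set k := B.ψ h₀⁻¹ l with hk
  have hk0 : k ≠ 0 := by
    intro h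
    apply hlq
    rw [hk, map_inv, Equiv.Perm.inv_def, Equiv.symm_apply_eq] at h
    rw [h, hh₀]
  have hP'' : P'' ≤ B.stab 0 ⊓ B.stab k := by
    rintro _ ⟨x, hx, rfl⟩
    constructor
    · show B.ψ (h₀⁻¹ * x * h₀⁻¹⁻¹) 0 = 0
      rw [inv_inv, map_mul, map_mul, Equiv.Perm.mul_apply, Equiv.Perm.mul_apply, hh₀, B.mem_stab.1 (hPq hx),
        map_inv, ← hh₀, Equiv.Perm.inv_def, Equiv.symm_apply_apply]
    · show B.ψ (h₀⁻¹ * x * h₀⁻¹⁻¹) k = k
      rw [inv_inv, map_mul, map_mul, Equiv.Perm.mul_apply, Equiv.Perm.mul_apply, hk, map_inv, Equiv.Perm.inv_def,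
        Equiv.apply_symm_apply, B.mem_stab.1 (hl hx)]
  have hdvd := hP''card ▸ Subgroup.card_dvd_of_le hP''
  rcases B.two_point hk0 with h48 | ⟨h324, c, hc, hck⟩
  · rw [h48] at hdvd
    rcases hn3 with h | h | h <;> rw [h] at hdvd <;> norm_num at hdvd
  rw [h324] at hdvd
  have hn1 : n = 1 := by
    rcases hn3 with h | h | h <;> rw [h] at hdvd <;> first | exact h | norm_num at hdvd
  -- both are Sylow subgroups of the two-point stabiliser
  obtain ⟨E, hE, hEcard, haE⟩ := B.exists_e81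
  let E' : Subgroup B.H0 := E.map (MulAut.conj c).toMonoidHom
  have hE' : E' ≤ B.stab 0 ⊓ B.stab k := by
    rintro _ ⟨x, hx, rfl⟩
    obtain ⟨h0, h3⟩ := hE hx
    refine ⟨?_, ?_⟩
    · exact (B.stab 0).mul_mem ((B.stab 0).mul_mem hc h0) ((B.stab 0).inv_mem hc)
    · show B.ψ (c * x * c⁻¹) k = k
      rw [map_mul, map_mul, Equiv.Perm.mul_apply, Equiv.Perm.mul_apply, map_inv, ← hck, Equiv.Perm.inv_def,
        Equiv.symm_apply_apply, B.mem_stab.1 h3]
  set K := B.stab 0 ⊓ B.stab k with hKdef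
  have h81 : 81 = 3 ^ (Nat.card K).factorization 3 := by
    rw [h324, show (324 : ℕ) = 3 ^ 4 * 4 by norm_num, Nat.factorization_mul (by norm_num) (by norm_num),
      Finsupp.add_apply, Nat.factorization_pow_self Nat.prime_three,
      Nat.factorization_eq_zero_of_not_dvd (show ¬ 3 ∣ 4 by norm_num)]
    norm_num
  let S1 : Sylow 3 K := Sylow.ofCard (P''.subgroupOf K) (by
    rw [Nat.card_congr (subgroupOfEquivOfLe hP'').toEquiv, hP''card, hn1, ← h81])
  let S2 : Sylow 3 K := Sylow.ofCard (E'.subgroupOf K) (by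
    rw [Nat.card_congr (subgroupOfEquivOfLe hE').toEquiv,
      Subgroup.card_map_of_injective (MulAut.conj c).injective, hEcard, ← h81])
  obtain ⟨r, hr⟩ := MulAction.exists_smul_eq K S2 S1
  let a0 : B.H0 := ⟨F.xa, B.lett_mem 0⟩
  have haE' : MulAut.conj c a0 ∈ E' := ⟨a0, haE, rfl⟩
  have hmem : r * ⟨MulAut.conj c a0, hE' haE'⟩ * r⁻¹ ∈ (S1 : Subgroup K) := by
    rw [← hr, Sylow.smul_def, Sylow.pointwise_smul_def]
    exact ⟨⟨MulAut.conj c a0, hE' haE'⟩, mem_subgroupOf.2 haE', rfl⟩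
  obtain ⟨x, hx, hxe⟩ := (mem_subgroupOf.1 hmem : _ ∈ P'')
  set w := h₀ * ((r : B.H0) * c) with hw
  have hxw : x = w * a0 * w⁻¹ := by
    rw [← (MulAut.conj h₀⁻¹).injective.eq_iff]
    refine hxe.trans ?_
    show (r : B.H0) * (c * a0 * c⁻¹) * (r : B.H0)⁻¹ = h₀⁻¹ * (w * a0 * w⁻¹) * h₀⁻¹⁻¹
    rw [hw]; group
  have hxD : x ∈ D := map_subtype_le _ hx
  -- an involution commuting with it
  have hsqw : (w : G) * F.D.z * (w : G)⁻¹ * ((w : G) * F.D.z * (w : G)⁻¹) = 1 := by
    rw [show (w : G) * F.D.z * (w : G)⁻¹ * ((w : G) * F.D.z * (w : G)⁻¹) =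
      (w : G) * (F.D.z * F.D.z) * (w : G)⁻¹ by group, F.D.z_sq]; group
  obtain ⟨d, hd, hdz⟩ := htrans _ (mul_mem (mul_mem w.2 hzH) (inv_mem w.2)) hsqw
    (fun e => F.D.z_ne (by rwa [mul_inv_eq_one, mul_eq_left] at e))
  have hcomm : Commute ((d⁻¹ * x * d : B.H0) : G) F.D.z := by
    have h1 : Commute (x : G) ((d : G) * F.D.z * (d : G)⁻¹) := by
      rw [hdz, hxw]
      exact (F.z_xa.symm).map (MulAut.conj (w : G)).toMonoidHom
    have h2 := h1.map (MulAut.conj (d : G)⁻¹).toMonoidHom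
    simp only [MulEquiv.coe_toMonoidHom, MulAut.conj_apply, inv_inv] at h2
    rw [show (d : G)⁻¹ * ((d : G) * F.D.z * (d : G)⁻¹) * d = F.D.z by group] at h2
    exact h2
  haveI : Subsingleton (C.subgroupOf D) := Finite.card_le_one_iff_subsingleton.1 (by rw [← hn, hn1])
  have hy : (⟨d⁻¹ * x * d, mul_mem (mul_mem (inv_mem hd) hxD) hd⟩ : D) ∈ C.subgroupOf D :=
    mem_subgroupOf.2 (mem_centralizer_singleton_iff.2 (Subtype.ext hcomm.eq))
  have h1 := congrArg (fun y : C.subgroupOf D => ((y : D) : B.H0))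
    (Subsingleton.elim (⟨_, hy⟩ : C.subgroupOf D) 1)
  change d⁻¹ * x * d = 1 at h1
  have hx1 : x = 1 := by
    calc x = d * (d⁻¹ * x * d) * d⁻¹ := by group
      _ = 1 := by rw [h1]; group
  have ha0 : a0 = 1 := by
    calc a0 = w⁻¹ * x * w := by rw [hxw]; group
      _ = 1 := by rw [hx1]; group
  exact xa_ne (F := F) (congrArg Subtype.val ha0)

end EBase

end Frame

end CfsgLib.U43Type
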