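import Cfsg.Agent.Lib.U43Type.EBig

/-!
Groups of `U₄(3)` type: the elementary abelian group of order 81.
-/

set_option autoImplicit false
set_option linter.style.haveILetI false

namespace CfsgLib.U43Type

open Subgroup

universe u

namespace Frame

variable {G : Type u} [Group G] (F : Frame G)

/-- An inverted element also inverted by `s`. -/
def IsM (e : G) : Prop := F.IsI e ∧ F.s * e * F.s = e⁻¹

theorem double_inj : ∀ {k l : Fin 3}, k + k = l + l → k = l := by decide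

theorem xel_add (i j k l : Fin 3) : F.xel i j * F.xel k l = F.xel (i + k) (j + l) := by
  have h : ∀ a b : Fin 3, SL23.xx ^ (a : ℕ) * SL23.xx ^ (b : ℕ) = SL23.xx ^ ((a + b : Fin 3) : ℕ) := by
    decide +kernel
  rw [xel, xel, xel, ← map_mul]
  exact congrArg F.D.f (Prod.ext (h i k) (h j l))

theorem z_inv : F.D.z⁻¹ = F.D.z := inv_eq_of_mul_eq_one_right F.D.z_sq

theorem s_inv : F.s⁻¹ = F.s := inv_eq_of_mul_eq_one_right F.s_sq

theorem sT_conj (e : G) : F.s * (F.T * e * F.T⁻¹) * F.s = F.T * (F.D.z * (F.s * e * F.s) * F.D.z) * F.T⁻¹ := by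
  have h : F.T⁻¹ = F.T * F.D.z := inv_eq_of_mul_eq_one_right (by rw [← mul_assoc, F.T_sq, F.D.z_sq])
  have hd : F.s * F.T = F.T * F.D.z * F.s := by
    rw [← F.s_T, mul_assoc (F.s * F.T), F.s_sq, mul_one]
  have hd' : F.T⁻¹ * F.s = F.s * F.D.z * F.T⁻¹ := by
    calc F.T⁻¹ * F.s = F.T⁻¹ * F.s * (F.T * F.D.z * F.T⁻¹ * F.D.z⁻¹) := by rw [F.T_z.eq]; group
      _ = F.T⁻¹ * (F.s * F.T * F.s) * F.s * F.D.z * F.T⁻¹ * F.D.z⁻¹ := by
          rw [show F.T⁻¹ * (F.s * F.T * F.s) * F.s = F.T⁻¹ * F.s * F.T * (F.s * F.s) by group, F.s_sq, mul_one]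
          group
      _ = F.D.z * F.s * F.D.z * F.T⁻¹ * F.D.z⁻¹ := by rw [F.s_T]; group
      _ = F.s * F.T⁻¹ * F.D.z⁻¹ := by
          rw [← F.s_z.eq, mul_assoc F.s F.D.z, F.D.z_sq, mul_one]
      _ = _ := by rw [mul_assoc, F.T_z.inv_left.inv_right.eq, z_inv, ← mul_assoc]
  calc F.s * (F.T * e * F.T⁻¹) * F.s = (F.s * F.T) * e * (F.T⁻¹ * F.s) := by group
    _ = _ := by rw [hd, hd']; group

variable [Finite G]

theorem isI_one : F.IsI 1 := ⟨F.isE_XX (one_mem _), by rw [mul_one, F.D.z_sq, inv_one]⟩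

theorem isI_inv {e : G} (he : F.IsI e) : F.IsI e⁻¹ := by
  refine ⟨F.isE_inv he.1, ?_⟩
  have h := congrArg (·⁻¹) he.2
  simp only [mul_inv_rev, inv_inv, F.z_inv] at h
  rw [mul_assoc, inv_inv]
  exact h

theorem isI_mul {d e : G} (hd : F.IsI d) (he : F.IsI e) (h : Commute d e) : F.IsI (d * e) := by
  refine ⟨F.isE_mul hd.1 he.1, ?_⟩
  calc F.D.z * (d * e) * F.D.z = (F.D.z * d * F.D.z⁻¹) * (F.D.z * e * F.D.z) := by group
    _ = _ := by rw [F.z_inv, hd.2, he.2, mul_inv_rev, h.inv_inv.eq]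

theorem isI_pow {e : G} (he : F.IsI e) (n : ℕ) : F.IsI (e ^ n) := by
  induction n with
  | zero => rw [pow_zero]; exact F.isI_one
  | succ n ih => rw [pow_succ]; exact F.isI_mul ih he (Commute.pow_self e n)

theorem isI_s {e : G} (he : F.IsI e) : F.IsI (F.s * e * F.s) := by
  have := F.isI_conj F.normsX_s F.s_z he
  rwa [F.s_inv] at this

theorem isI_T {e : G} (he : F.IsI e) : F.IsI (F.T * e * F.T⁻¹) := F.isI_conj F.normsX_T F.T_z he

theorem isI_XX {e : G} (he : F.IsI e) (hx : e ∈ F.XX) : e = 1 := by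
  rw [← F.ipart_eq (one_mem _) he (one_mul e).symm,
    F.ipart_eq hx F.isI_one (mul_one e).symm]

theorem isM_T {e : G} (he : F.IsP e) : F.IsM (F.T * e * F.T⁻¹) := by
  refine ⟨F.isI_T he.1, ?_⟩
  rw [F.sT_conj, ← he.2.eq, mul_assoc e, F.s_sq, mul_one, he.1.2]
  group

theorem isP_T {e : G} (he : F.IsM e) : F.IsP (F.T * e * F.T⁻¹) := by
  refine ⟨F.isI_T he.1, ?_⟩
  have h : F.s * (F.T * e * F.T⁻¹) * F.s = F.T * e * F.T⁻¹ := by
    rw [F.sT_conj, he.2, (F.isI_inv he.1).2, inv_inv]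
  show _ = _
  conv_lhs => rw [← h]
  rw [mul_assoc _ F.s F.s, F.s_sq, mul_one]

/-- The odd order subgroups of the centralizer of `s` have order dividing nine. -/
theorem card_cent_s (H : Subgroup G) (hH : ∀ x ∈ H, Commute x F.s) (ho : Odd (Nat.card H)) : Nat.card H ∣ 9 := by
  have hs1 : F.s ≠ 1 := fun e => F.cos_notMem 2 (by decide) (by
    show F.s ∈ _; rw [e]; exact one_mem _)
  obtain ⟨g, hg⟩ := isConj_iff.1 (F.one_class F.s_sq hs1).symm
  have hle : H.map (MulAut.conj g).toMonoidHom ≤ centralizer ({F.D.z} : Set G) := by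
    rintro _ ⟨x, hx, rfl⟩
    rw [← hg]
    exact mem_centralizer_singleton_iff.2 ((hH x hx).map (MulAut.conj g).toMonoidHom).eq
  have h := Subgroup.card_dvd_of_le hle
  rw [Subgroup.card_map_of_injective (MulAut.conj g).injective, F.D.card_C] at h
  exact (Nat.Coprime.pow_right 7 (Nat.coprime_two_right.2 ho)).dvd_of_dvd_mul_left
    (show Nat.card H ∣ 2 ^ 7 * 9 from h)

theorem card_isP : Nat.card {e : G // F.IsP e} ≤ 3 := by
  classical
  obtain ⟨E, hE, hEo⟩ := F.exists_E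
  set H := E ⊓ centralizer ({F.s} : Set G) with hH
  have hHd := F.card_cent_s H (fun x hx => mem_centralizer_singleton_iff.1 hx.2)
    (hEo.of_dvd_nat (Subgroup.card_dvd_of_le inf_le_left))
  have hk : ∀ k : Fin 3, F.xel k k ∈ H := fun k =>
    ⟨(hE _).2 (F.isE_XX (F.xel_mem k k)), mem_centralizer_singleton_iff.2 (F.xel_diag_s k).eq⟩
  let φ : Fin 3 × {e : G // F.IsP e} → H := fun v =>
    ⟨F.xel v.1 v.1 * v.2.1, mul_mem (hk _) ⟨(hE _).2 v.2.2.1.1, mem_centralizer_singleton_iff.2 v.2.2.2.eq⟩⟩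
  have hinj : Function.Injective φ := by
    rintro ⟨k, e, he⟩ ⟨l, e', he'⟩ h
    have h' : F.xel k k * e = F.xel l l * e' := congrArg Subtype.val h
    have h1 : F.ipart (F.xel k k * e) = e := F.ipart_eq (F.xel_mem k k) he.1 rfl
    have h2 : F.ipart (F.xel k k * e) = e' := F.ipart_eq (F.xel_mem l l) he'.1 h'
    obtain rfl : e = e' := h1.symm.trans h2
    have h3 : F.xel k k = F.xel l l := mul_right_cancel h'
    have : k = l := by
      have : ∀ k l : Fin 3, Equ (SL23.xx ^ (k : ℕ), SL23.xx ^ (k : ℕ)) (SL23.xx ^ (l : ℕ), SL23.xx ^ (l : ℕ)) →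
          k = l := by decide +kernel
      exact this k l (F.D.eq_iff.1 h3)
    subst this; rfl
  have h := Nat.card_le_card_of_injective φ hinj
  rw [Nat.card_prod, Nat.card_fin] at h
  have := Nat.le_of_dvd (by norm_num) hHd
  omega

theorem isI_le_prod : Nat.card {e : G // F.IsI e} ≤ Nat.card {e : G // F.IsP e} * Nat.card {e : G // F.IsM e} := by
  rw [← Nat.card_prod]
  have hss : ∀ u : G, F.s * (F.s * u) = u := fun u => by rw [← mul_assoc, F.s_sq, one_mul]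
  have sX : ∀ {x : G}, x ∈ F.XX → F.s * x * F.s ∈ F.XX := by
    intro x hx
    obtain ⟨i, j, rfl⟩ := F.mem_XX.1 hx
    have := F.xel_conj_s i j
    rw [F.s_inv] at this
    rw [this]; exact F.xel_mem j i
  have ha : ∀ e, F.IsI e → F.IsP (F.ipart (e * (F.s * e * F.s))) := by
    intro e he
    obtain ⟨hI, x, hx, hxe⟩ := F.ipart_spec (F.isE_mul he.1 (F.isI_s he).1)
    set a := F.ipart (e * (F.s * e * F.s))
    obtain ⟨y, hy, hye⟩ := F.isI_comm (F.isI_s he) he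
    refine ⟨hI, ?_⟩
    have h : F.s * x * F.s * (F.s * a * F.s) = y * x * a := by
      rw [mul_assoc y, ← hxe, ← hye]
      calc F.s * x * F.s * (F.s * a * F.s) = F.s * (x * a) * F.s := by simp only [mul_assoc, hss]
        _ = _ := by rw [← hxe]; simp only [mul_assoc, F.s_sq, mul_one]
    have := F.isI_unique (mul_mem (inv_mem (sX hx)) (mul_mem hy hx)) (F.isI_s hI) hI
      (eq_inv_mul_iff_mul_eq.2 h |>.trans (mul_assoc _ _ _).symm |>.trans (by simp only [mul_assoc]))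
    show _ = _
    conv_lhs => rw [← this]
    rw [mul_assoc _ F.s F.s, F.s_sq, mul_one]
  have hb : ∀ e, F.IsI e → F.IsM (F.ipart (e * (F.s * e⁻¹ * F.s))) := by
    intro e he
    obtain ⟨hI, x, hx, hxe⟩ := F.ipart_spec (F.isE_mul he.1 (F.isI_s (F.isI_inv he)).1)
    set a := F.ipart (e * (F.s * e⁻¹ * F.s))
    refine ⟨hI, ?_⟩
    have h : F.s * x * F.s * (F.s * a * F.s) = x⁻¹ * a⁻¹ := by
      calc F.s * x * F.s * (F.s * a * F.s) = F.s * (x * a) * F.s := by simp only [mul_assoc, hss]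
        _ = F.s * (e * (F.s * e⁻¹ * F.s)) * F.s := by rw [hxe]
        _ = (e * (F.s * e⁻¹ * F.s))⁻¹ := by
          simp only [mul_inv_rev, inv_inv, F.s_inv, mul_assoc, F.s_sq, mul_one]
        _ = _ := by
          rw [hxe, mul_inv_rev, (F.comm_XX (F.isI_inv hI).1.1 (F.isI_inv hI).1.2.1 (inv_mem hx)).eq]
    exact F.isI_unique (mul_mem (inv_mem (sX hx)) (inv_mem hx)) (F.isI_s hI) (F.isI_inv hI)
      (by rw [mul_assoc (F.s * x * F.s)⁻¹]; exact eq_inv_mul_iff_mul_eq.2 h)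
  let φ : {e : G // F.IsI e} → {e : G // F.IsP e} × {e : G // F.IsM e} := fun e => (⟨_, ha _ e.2⟩, ⟨_, hb _ e.2⟩)
  refine Nat.card_le_card_of_injective φ ?_
  rintro ⟨e, he⟩ ⟨e', he'⟩ h
  have h1 : F.ipart (e * (F.s * e * F.s)) = F.ipart (e' * (F.s * e' * F.s)) :=
    congrArg (fun p : {e : G // F.IsP e} × {e : G // F.IsM e} => p.1.1) h
  have h2 : F.ipart (e * (F.s * e⁻¹ * F.s)) = F.ipart (e' * (F.s * e'⁻¹ * F.s)) :=
    congrArg (fun p : {e : G // F.IsP e} × {e : G // F.IsM e} => p.2.1) h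
  -- the product of the two parts is the square
  have key : ∀ i, F.IsI i → ∃ r ∈ F.XX, i * i =
      r * (F.ipart (i * (F.s * i * F.s)) * F.ipart (i * (F.s * i⁻¹ * F.s))) := by
    intro i hi
    obtain ⟨hA, x, hx, hxe⟩ := F.ipart_spec (F.isE_mul hi.1 (F.isI_s hi).1)
    obtain ⟨hB, x', hx', hxe'⟩ := F.ipart_spec (F.isE_mul hi.1 (F.isI_s (F.isI_inv hi)).1)
    obtain ⟨y, hy, hye⟩ := F.isI_comm (F.isI_s hi) hi
    set A := F.ipart (i * (F.s * i * F.s))
    set B := F.ipart (i * (F.s * i⁻¹ * F.s))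
    refine ⟨y⁻¹ * x * x', mul_mem (mul_mem (inv_mem hy) hx) hx', ?_⟩
    have hc : Commute A x' := (F.comm_XX hA.1.1 hA.1.2.1 hx')
    have hiy : Commute i y := F.comm_XX hi.1.1 hi.1.2.1 hy
    have h3 : x * A * (x' * B) = y * (i * i) := by
      rw [← hxe, ← hxe']
      calc i * (F.s * i * F.s) * (i * (F.s * i⁻¹ * F.s))
          = i * (F.s * i * F.s * i) * (F.s * i⁻¹ * F.s) := by group
        _ = i * y * i * (F.s * i * F.s * (F.s * i⁻¹ * F.s)) := by rw [hye]; group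
        _ = y * (i * i) * (F.s * i * F.s * (F.s * i⁻¹ * F.s)) := by rw [hiy.eq]; group
        _ = _ := by simp only [mul_assoc, hss, mul_inv_cancel_left, F.s_sq, mul_one]
    calc i * i = y⁻¹ * (x * A * (x' * B)) := by rw [h3]; group
      _ = y⁻¹ * x * (A * x') * B := by group
      _ = _ := by rw [hc.eq]; group
  obtain ⟨r, hr, hre⟩ := key e he
  obtain ⟨r', hr', hre'⟩ := key e' he'
  have hsq : e * e = e' * e' := F.isI_unique (mul_mem hr (inv_mem hr')) (F.isI_mul he he (Commute.refl e))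
    (F.isI_mul he' he' (Commute.refl e')) (by rw [hre, hre', h1, h2]; group)
  obtain ⟨k, hk⟩ := he.1.2.2.mul he'.1.2.2
  have hroot : ∀ i : G, orderOf i ∣ orderOf e * orderOf e' → (i * i) ^ (k + 1) = i := by
    intro i hi
    rw [← pow_two, ← pow_mul, show 2 * (k + 1) = orderOf e * orderOf e' + 1 by omega, pow_succ,
      orderOf_dvd_iff_pow_eq_one.1 hi, one_mul]
  exact Subtype.ext ((hroot e (Dvd.intro _ rfl)).symm.trans (hsq ▸ hroot e' (Dvd.intro_left _ rfl)))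

/-- Generators of the odd part modulo `X`. -/
structure EBase (F : Frame G) where
  v : G
  v_isI : F.IsI v
  v_s : Commute v F.s
  v_ne : v ≠ 1
  v_cube : v ^ 3 = 1
  all_P : ∀ e, F.IsP e → ∃ k : Fin 3, e = v ^ (k : ℕ)

theorem exists_eBase : Nonempty F.EBase := by
  classical
  have hne : ∃ v, F.IsP v ∧ v ≠ 1 := by
    by_contra hno
    push Not at hno
    have hM : ∀ e, F.IsM e → e = 1 := by
      intro e he
      have := hno _ (F.isP_T he)
      rwa [mul_inv_eq_one, mul_eq_left] at this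
    obtain ⟨e, he, he1⟩ := F.exists_isI
    haveI : Subsingleton {e : G // F.IsP e} := ⟨fun a b => Subtype.ext ((hno _ a.2).trans (hno _ b.2).symm)⟩
    haveI : Subsingleton {e : G // F.IsM e} := ⟨fun a b => Subtype.ext ((hM _ a.2).trans (hM _ b.2).symm)⟩
    have hP1 : Nat.card {e : G // F.IsP e} ≤ 1 := Finite.card_le_one_iff_subsingleton.2 ‹_›
    have hM1 : Nat.card {e : G // F.IsM e} ≤ 1 := Finite.card_le_one_iff_subsingleton.2 ‹_›
    have h := F.isI_le_prod.trans (Nat.mul_le_mul hP1 hM1)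
    have h2 := Finite.card_le_one_iff_subsingleton.1 (h.trans_eq (mul_one 1))
    exact he1 (congrArg Subtype.val (h2.elim (⟨e, he⟩ : {e : G // F.IsI e}) ⟨1, F.isI_one⟩))
  obtain ⟨v, hv, hv1⟩ := hne
  let φ : Fin (orderOf v) → {e : G // F.IsP e} := fun n => ⟨v ^ (n : ℕ), F.isI_pow hv.1 n, hv.2.pow_left _⟩
  have hinj : Function.Injective φ := fun a b h =>
    Fin.ext (pow_injOn_Iio_orderOf a.2 b.2 (congrArg Subtype.val h))
  have hle : orderOf v ≤ 3 := by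
    have := (Nat.card_le_card_of_injective φ hinj).trans F.card_isP
    rwa [Nat.card_fin] at this
  have h3 : orderOf v = 3 := by
    have h1 : orderOf v ≠ 1 := fun h => hv1 (orderOf_eq_one_iff.1 h)
    obtain ⟨k, hk⟩ := hv.1.1.2.2
    omega
  refine ⟨⟨v, hv.1, hv.2, hv1, orderOf_dvd_iff_pow_eq_one.1 (h3 ▸ dvd_refl _), fun e he => ?_⟩⟩
  have hbij : Function.Bijective φ :=
    hinj.bijective_of_nat_card_le (by rw [Nat.card_fin, h3]; exact F.card_isP)
  obtain ⟨n, hn⟩ := hbij.2 ⟨e, he⟩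
  exact ⟨⟨n, by omega⟩, (congrArg Subtype.val hn).symm⟩

namespace EBase

variable {F} (B : F.EBase)

/-- The second generator. -/
def w : G := F.T * B.v * F.T⁻¹

theorem w_isI : F.IsI B.w := F.isI_T B.v_isI

theorem v_s' : F.s * B.v * F.s = B.v := by rw [← B.v_s.eq, mul_assoc, F.s_sq, mul_one]

theorem w_s : F.s * B.w * F.s = B.w⁻¹ := (F.isM_T ⟨B.v_isI, B.v_s⟩).2

theorem T_w : F.T * B.w * F.T⁻¹ = B.v⁻¹ := by
  rw [w, show F.T * (F.T * B.v * F.T⁻¹) * F.T⁻¹ = F.T * F.T * B.v * (F.T * F.T)⁻¹ by group, F.T_sq, F.z_inv,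
    B.v_isI.2]

theorem w_cube : B.w ^ 3 = 1 := by rw [w, conj_pow, B.v_cube, mul_one, mul_inv_cancel]

theorem comm : Commute B.v B.w := by
  obtain ⟨y, hy, hye⟩ := F.isI_comm B.v_isI B.w_isI
  have hTy : F.T * y * F.T⁻¹ = y⁻¹ := by
    obtain ⟨i, j, rfl⟩ := F.mem_XX.1 hy
    have : ∀ i j : Fin 3, Equ (SL23.flip (SL23.xx ^ (i : ℕ)), SL23.flip (SL23.xx ^ (j : ℕ)))
        (SL23.xx ^ (i : ℕ), SL23.xx ^ (j : ℕ))⁻¹ := by decide +kernel
    rw [xel, F.T_conj, ← map_inv]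
    exact F.D.eq_iff.2 (this i j)
  have h := congrArg (MulAut.conj F.T) hye
  simp only [map_mul, MulAut.conj_apply, B.T_w, hTy] at h
  change B.w * B.v⁻¹ = y⁻¹ * (B.v⁻¹ * B.w) at h
  have hyv : Commute B.v y := F.comm_XX B.v_isI.1.1 B.v_isI.1.2.1 hy
  have h2 : B.v * B.w = y⁻¹ * (B.w * B.v) := by
    calc B.v * B.w = B.v * (B.w * B.v⁻¹) * B.v := by group
      _ = (B.v * y⁻¹) * (B.v⁻¹ * B.w) * B.v := by rw [h]; group
      _ = _ := by rw [hyv.inv_right.eq]; group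
  have hy1 : y = 1 := by
    have := mul_right_cancel (hye.symm.trans h2)
    exact odd_sq_one (F.isE_XX hy).2.2 (by nth_rw 2 [this]; exact mul_inv_cancel y)
  show _ = _
  rw [hye, hy1, one_mul]

theorem card_M : Nat.card {e : G // F.IsM e} ≤ 3 := by
  refine le_trans (Nat.card_le_card_of_injective
    (fun e : {e : G // F.IsM e} => (⟨_, F.isP_T e.2⟩ : {e : G // F.IsP e})) ?_) F.card_isP
  intro a b h
  exact Subtype.ext (mul_left_cancel (mul_right_cancel (congrArg Subtype.val h)))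

theorem v_pow_inj {a b : Fin 3} (h : B.v ^ (a : ℕ) = B.v ^ (b : ℕ)) : a = b := by
  have ho : orderOf B.v = 3 := orderOf_eq_prime B.v_cube B.v_ne
  exact Fin.ext (pow_injOn_Iio_orderOf (by rw [ho]; exact a.2) (by rw [ho]; exact b.2) h)

theorem vw_inj {k l k' l' : Fin 3} (h : B.v ^ (k : ℕ) * B.w ^ (l : ℕ) = B.v ^ (k' : ℕ) * B.w ^ (l' : ℕ)) :
    k = k' ∧ l = l' := by
  have hv : ∀ a b : Fin 3, B.v ^ (a : ℕ) * B.v ^ (b : ℕ) = B.v ^ ((a + b : Fin 3) : ℕ) := fun a b => by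
    rw [← pow_add, Fin.val_add, pow_eq_pow_mod _ B.v_cube]
  -- apply `s`
  have hs := congrArg (MulAut.conj F.s) h
  simp only [map_mul, map_pow, MulAut.conj_apply, F.s_inv, B.v_s', B.w_s] at hs
  have hc : ∀ a b : ℕ, Commute (B.v ^ a) (B.w ^ b) := fun a b => (B.comm.pow_pow a b)
  have hci : ∀ a b : ℕ, Commute (B.v ^ a) ((B.w⁻¹) ^ b) := fun a b => (B.comm.inv_right.pow_pow a b)
  have h2 : B.v ^ ((k + k : Fin 3) : ℕ) = B.v ^ ((k' + k' : Fin 3) : ℕ) := by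
    rw [← hv, ← hv]
    calc B.v ^ (k : ℕ) * B.v ^ (k : ℕ)
        = B.v ^ (k : ℕ) * B.w ^ (l : ℕ) * (B.v ^ (k : ℕ) * (B.w⁻¹) ^ (l : ℕ)) := by
          rw [(hc _ _).symm.mul_mul_mul_comm, inv_pow, mul_inv_cancel, mul_one]
      _ = _ := by rw [h, hs, (hc _ _).symm.mul_mul_mul_comm, inv_pow, mul_inv_cancel, mul_one]
  have hk : k = k' := double_inj (B.v_pow_inj h2)
  subst hk
  refine ⟨rfl, ?_⟩
  have h3 := congrArg (MulAut.conj F.T) (mul_left_cancel h)
  simp only [map_pow, MulAut.conj_apply, B.T_w, inv_pow, inv_inj] at h3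
  exact B.v_pow_inj h3

theorem isI_vw (k l : ℕ) : F.IsI (B.v ^ k * B.w ^ l) :=
  F.isI_mul (F.isI_pow B.v_isI k) (F.isI_pow B.w_isI l) (B.comm.pow_pow k l)

theorem all_I {e : G} (he : F.IsI e) : ∃ k l : Fin 3, e = B.v ^ (k : ℕ) * B.w ^ (l : ℕ) := by
  let φ : Fin 3 × Fin 3 → {e : G // F.IsI e} := fun p => ⟨_, B.isI_vw p.1 p.2⟩
  have hinj : Function.Injective φ := fun a b h =>
    Prod.ext (B.vw_inj (congrArg Subtype.val h)).1 (B.vw_inj (congrArg Subtype.val h)).2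
  have hb := hinj.bijective_of_nat_card_le (by
    rw [Nat.card_prod, Nat.card_fin]
    exact F.isI_le_prod.trans (Nat.mul_le_mul F.card_isP card_M))
  obtain ⟨⟨k, l⟩, h⟩ := hb.2 ⟨e, he⟩
  exact ⟨k, l, (congrArg Subtype.val h).symm⟩

/-- The element of the group of order 81 with four exponents. -/
def el (i j k l : Fin 3) : G := F.xel i j * (B.v ^ (k : ℕ) * B.w ^ (l : ℕ))

theorem isE_el (i j k l : Fin 3) : F.IsE (B.el i j k l) :=
  F.isE_mul (F.isE_XX (F.xel_mem i j)) (B.isI_vw _ _).1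

theorem all_E {e : G} (he : F.IsE e) : ∃ i j k l : Fin 3, e = B.el i j k l := by
  obtain ⟨x, a, hx, ha, rfl⟩ := F.isE_split he
  obtain ⟨i, j, rfl⟩ := F.mem_XX.1 hx
  obtain ⟨k, l, rfl⟩ := B.all_I ha
  exact ⟨i, j, k, l, rfl⟩

theorem el_inj {i j k l i' j' k' l' : Fin 3} (h : B.el i j k l = B.el i' j' k' l') :
    i = i' ∧ j = j' ∧ k = k' ∧ l = l' := by
  have h1 := F.ipart_eq (F.xel_mem i j) (B.isI_vw k l) (rfl : B.el i j k l = _)
  have h2 := F.ipart_eq (F.xel_mem i' j') (B.isI_vw k' l') h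
  obtain ⟨rfl, rfl⟩ := B.vw_inj (h1.symm.trans h2)
  have h3 := F.D.eq_iff.1 (mul_right_cancel h)
  have : ∀ i j i' j' : Fin 3, Equ (SL23.xx ^ (i : ℕ), SL23.xx ^ (j : ℕ)) (SL23.xx ^ (i' : ℕ), SL23.xx ^ (j' : ℕ)) →
      i = i' ∧ j = j' := by decide +kernel
  exact ⟨(this _ _ _ _ h3).1, (this _ _ _ _ h3).2, rfl, rfl⟩

theorem el_mul (i j k l i' j' k' l' : Fin 3) :
    B.el i j k l * B.el i' j' k' l' = B.el (i + i') (j + j') (k + k') (l + l') := by
  have hp : ∀ {g : G}, g ^ 3 = 1 → ∀ a b : Fin 3, g ^ (a : ℕ) * g ^ (b : ℕ) = g ^ ((a + b : Fin 3) : ℕ) :=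
    fun hg a b => by rw [← pow_add, Fin.val_add, pow_eq_pow_mod _ hg]
  have hc : Commute (B.v ^ (k : ℕ) * B.w ^ (l : ℕ)) (F.xel i' j') :=
    F.comm_XX (B.isI_vw _ _).1.1 (B.isI_vw _ _).1.2.1 (F.xel_mem _ _)
  rw [el, el, el, hc.mul_mul_mul_comm, F.xel_add, (B.comm.pow_pow _ _).symm.mul_mul_mul_comm, hp B.v_cube,
    hp B.w_cube]

include B in
theorem isE_comm {d e : G} (hd : F.IsE d) (he : F.IsE e) : Commute d e := by
  obtain ⟨i, j, k, l, rfl⟩ := B.all_E hd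
  obtain ⟨i', j', k', l', rfl⟩ := B.all_E he
  show _ * _ = _ * _
  rw [B.el_mul, B.el_mul, add_comm i, add_comm j, add_comm k, add_comm l]

include B in
theorem isE_cube {e : G} (he : F.IsE e) : e ^ 3 = 1 := by
  obtain ⟨i, j, k, l, rfl⟩ := B.all_E he
  have : ∀ i : Fin 3, i + i + i = 0 := by decide
  rw [pow_succ, pow_two, B.el_mul, B.el_mul, this, this, this, this, el]
  simp [xel, Prod.mk_one_one]

end EBase

end Frame

end CfsgLib.U43Type
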