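import Cfsg.Agent.Lib.U43Type.EInv

/-!
Groups of `U₄(3)` type: the odd part of the centralizer of `X` is larger than `X`.
-/

set_option autoImplicit false
set_option linter.style.haveILetI false

namespace CfsgLib.U43Type

open Subgroup

universe u

namespace Frame

theorem line_fix : ∀ (i : Fin 4) (k : Fin 3) (ε : Bool),
    ∃ j : Fin 3, Equ (act i (SL23.xx ^ (k : ℕ), SL23.xx ^ ((if ε then k else -k : Fin 3) : ℕ)))
      ((SL23.xx ^ (k : ℕ), SL23.xx ^ ((if ε then k else -k : Fin 3) : ℕ)) ^ (j : ℕ)) := by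
  decide +kernel


variable {G : Type u} [Group G] (F : Frame G)

theorem xel_cases (i j : Fin 3) : F.xel i j = 1 ∨ (∃ k : Fin 3, k ≠ 0 ∧ F.xel i j = F.xel k 0) ∨
    (∃ k : Fin 3, k ≠ 0 ∧ F.xel i j = F.xel 0 k) ∨ (∃ k : Fin 3, k ≠ 0 ∧ F.xel i j = F.xel k k) ∨
    (∃ k : Fin 3, k ≠ 0 ∧ F.xel i j = F.xel k (-k)) := by
  rcases SL23.line_cases i j with ⟨rfl, rfl⟩ | ⟨h, rfl⟩ | ⟨rfl, h⟩ | ⟨h, rfl⟩ | ⟨h, rfl⟩
  · exact Or.inl (by rw [xel]; exact map_one F.D.f)
  · exact Or.inr (Or.inl ⟨i, h, rfl⟩)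
  · exact Or.inr (Or.inr (Or.inl ⟨j, h, rfl⟩))
  · exact Or.inr (Or.inr (Or.inr (Or.inl ⟨_, h, rfl⟩)))
  · exact Or.inr (Or.inr (Or.inr (Or.inr ⟨i, h, rfl⟩)))

theorem xel_xa {k : Fin 3} (hk : k ≠ 0) : F.xel k 0 = F.xa ∨ F.xel k 0 = F.xa⁻¹ := by
  rw [xa, xel, ← map_inv]
  fin_cases k
  · exact absurd rfl hk
  · exact Or.inl (congrArg F.D.f (by decide +kernel))
  · exact Or.inr (congrArg F.D.f (by decide +kernel))

theorem xel_conj_s (i j : Fin 3) : F.s * F.xel i j * F.s⁻¹ = F.xel j i := F.s_conj _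

theorem xel_diag_s (k : Fin 3) : Commute (F.xel k k) F.s := by
  have h := F.xel_conj_s k k
  rw [mul_inv_eq_iff_eq_mul] at h
  exact h.symm

variable [Finite G]

theorem no_four_line {k : Fin 3} (hk : k ≠ 0) {x i1 i2 : G} (hx : x = F.xel k 0 ∨ x = F.xel 0 k)
    (a1 : Commute x i1) (a2 : Commute x i2) (h1 : i1 * i1 = 1) (n1 : i1 ≠ 1)
    (h2 : i2 * i2 = 1) (n2 : i2 ≠ 1) (hcomm : Commute i1 i2) : i1 = i2 := by
  have main : ∀ {i1 i2 : G}, Commute (F.xel k 0) i1 → Commute (F.xel k 0) i2 → i1 * i1 = 1 → i1 ≠ 1 →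
      i2 * i2 = 1 → i2 ≠ 1 → Commute i1 i2 → i1 = i2 := by
    intro i1 i2 a1 a2 h1 n1 h2 n2 hc
    rcases F.xel_xa hk with h | h <;> rw [h] at a1 a2
    · exact F.no_four a1.symm a2.symm h1 n1 h2 n2 hc
    · exact F.no_four (Commute.inv_left_iff.1 a1).symm (Commute.inv_left_iff.1 a2).symm h1 n1 h2 n2 hc
  rcases hx with rfl | rfl
  · exact main a1 a2 h1 n1 h2 n2 hcomm
  · have hs : MulAut.conj F.s (F.xel 0 k) = F.xel k 0 := F.xel_conj_s 0 k
    have inj := (MulAut.conj F.s).injective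
    refine inj (main ?_ ?_ ?_ ?_ ?_ ?_ ?_)
    · have := a1.map (MulAut.conj F.s).toMonoidHom
      simpa [MulEquiv.coe_toMonoidHom, hs] using this
    · have := a2.map (MulAut.conj F.s).toMonoidHom
      simpa [MulEquiv.coe_toMonoidHom, hs] using this
    · rw [← map_mul, h1, map_one]
    · exact fun h => n1 (inj (h.trans (map_one _).symm))
    · rw [← map_mul, h2, map_one]
    · exact fun h => n2 (inj (h.trans (map_one _).symm))
    · exact hcomm.map (MulAut.conj F.s).toMonoidHom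

/-- The odd part is larger than `X`. -/
theorem exists_isI : ∃ e, F.IsI e ∧ e ≠ 1 := by
  classical
  haveI : Fact (Nat.Prime 3) := ⟨Nat.prime_three⟩
  by_contra hnot
  push Not at hnot
  have hEX : ∀ e, F.IsE e → e ∈ F.XX := by
    intro e he
    obtain ⟨x, i, hx, hi, rfl⟩ := F.isE_split he
    rw [hnot i hi, mul_one]; exact hx
  -- the centralizer of `X` lies in the centralizer of `z`
  have hcX : ∀ x, Commute x F.xa → Commute x F.xb → Commute x F.D.z := by
    intro x h1 h2
    have hzz : F.IsE (F.D.z * x * F.D.z * x⁻¹) := by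
      -- a commutator with `z` lies in the odd part
      obtain ⟨E, hE, hEo⟩ := F.exists_E
      by_cases ho : Odd (orderOf x)
      · have hxe : F.IsE x := ⟨h1, h2, ho⟩
        have := F.isE_conj F.normsX_z hxe
        rw [inv_eq_of_mul_eq_one_right F.D.z_sq] at this
        exact F.isE_mul this (F.isE_inv hxe)
      · -- the 2-part
        have hn0 : orderOf x ≠ 0 := (orderOf_pos x).ne'
        obtain ⟨a, m, hm, ham⟩ := Nat.exists_eq_two_pow_mul_odd hn0
        have ha : a ≠ 0 := fun h => ho (by rw [ham, h, pow_zero, one_mul]; exact hm)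
        set y := x ^ m with hy
        have hyo : orderOf y = 2 ^ a := by
          rw [hy, orderOf_pow' x hm.pos.ne', ham, Nat.gcd_mul_left_left, Nat.mul_div_cancel _ hm.pos]
        set w := y ^ 2 ^ (a - 1) with hw
        have hwo : orderOf w = 2 := by
          rw [hw, orderOf_pow' y (pow_ne_zero _ two_ne_zero), hyo]
          have hp : 2 ^ a = 2 ^ (a - 1) * 2 := by
            rw [← pow_succ]; congr 1; omega
          rw [hp, Nat.gcd_mul_right_left, Nat.mul_div_cancel_left _ (pow_pos two_pos _)]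
        have hwx : Commute w x := (Commute.refl x).pow_left m |>.pow_left _
        have hw1 : Commute w F.xa := ((h1.pow_left m).pow_left _)
        have hw2 : Commute w F.xb := ((h2.pow_left m).pow_left _)
        have hwz : w = F.D.z := by
          -- `w z` has odd order unless it is trivial
          by_contra hne
          have hwI : ∀ u : G, orderOf u = 2 → u * u = 1 := fun u hu => by
            have := pow_orderOf_eq_one u; rwa [hu, pow_two] at this
          by_cases hodd : Odd (orderOf (F.D.z * w))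
          · have he : F.IsE (F.D.z * w) :=
              ⟨(F.D.f_comm _).symm.mul_left hw1, (F.D.f_comm _).symm.mul_left hw2, hodd⟩
            have hcz := F.XX_z (hEX _ he)
            have hww : Commute w F.D.z := by
              have := (Commute.refl F.D.z).inv_left.mul_left hcz
              rwa [inv_mul_cancel_left] at this
            rcases F.invol_xa hww hw1 (hwI _ hwo) with h | h
            · rw [h, orderOf_one] at hwo; omega
            · exact hne h
          · obtain ⟨a', m', hm', ham'⟩ := Nat.exists_eq_two_pow_mul_odd (orderOf_pos (F.D.z * w)).ne'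
            have ha' : a' ≠ 0 := fun h => hodd (by rw [ham', h, pow_zero, one_mul]; exact hm')
            set u := (F.D.z * w) ^ (2 ^ (a' - 1) * m') with hu
            have huo : orderOf u = 2 := by
              rw [hu, orderOf_pow' _ (mul_ne_zero (pow_ne_zero _ two_ne_zero) hm'.pos.ne'), ham']
              have hp : 2 ^ a' * m' = 2 * (2 ^ (a' - 1) * m') := by
                rw [← mul_assoc, ← pow_succ']; congr 2; omega
              rw [hp, Nat.gcd_mul_left_left, Nat.mul_div_cancel _ (Nat.mul_pos (pow_pos two_pos _) hm'.pos)]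
            -- the inverting involutions commute with `u`
            have hinv : F.D.z * (F.D.z * w) * F.D.z = (F.D.z * w)⁻¹ := by
              rw [← mul_assoc, F.D.z_sq, one_mul, mul_inv_rev, inv_eq_of_mul_eq_one_right F.D.z_sq,
                inv_eq_of_mul_eq_one_right (hwI _ hwo)]
            have huz : Commute u F.D.z := by
              have h1' : F.D.z * u * F.D.z = u⁻¹ := by
                calc F.D.z * u * F.D.z = F.D.z * u * F.D.z⁻¹ := by rw [inv_eq_of_mul_eq_one_right F.D.z_sq]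
                  _ = (F.D.z * (F.D.z * w) * F.D.z⁻¹) ^ (2 ^ (a' - 1) * m') := conj_pow.symm
                  _ = _ := by rw [inv_eq_of_mul_eq_one_right F.D.z_sq, hinv, inv_pow]
              rw [inv_eq_of_mul_eq_one_right (hwI _ huo)] at h1'
              show u * F.D.z = F.D.z * u
              conv_lhs => rw [← h1']
              rw [mul_assoc (F.D.z * u), F.D.z_sq, mul_one]
            have hu1 : Commute u F.xa := ((F.D.f_comm _).symm.mul_left hw1).pow_left _
            rcases F.invol_xa huz hu1 (hwI _ huo) with h | h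
            · rw [h, orderOf_one] at huo; omega
            · -- then `z w` commutes with `z`
              have hzw : Commute (F.D.z * w) u := (Commute.refl _).pow_right _
              rw [h] at hzw
              have hww : Commute w F.D.z := by
                have := (Commute.refl F.D.z).inv_left.mul_left hzw
                rwa [inv_mul_cancel_left] at this
              rcases F.invol_xa hww hw1 (hwI _ hwo) with h' | h'
              · rw [h', orderOf_one] at hwo; omega
              · exact hne h'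
        have hxz : Commute x F.D.z := hwz ▸ hwx.symm
        rw [← hxz.eq]
        rw [mul_assoc x, F.D.z_sq, mul_one, mul_inv_cancel]
        exact F.isE_XX (one_mem _)
    have hcz : Commute (F.D.z * x * F.D.z * x⁻¹) F.D.z := F.XX_z (hEX _ hzz)
    have h3 : (F.D.z * x * F.D.z * x⁻¹) * (F.D.z * x * F.D.z * x⁻¹) = 1 := by
      nth_rw 2 [show F.D.z * x * F.D.z * x⁻¹ = F.D.z * (F.D.z * x * F.D.z * x⁻¹) * F.D.z by
        rw [← hcz.eq, mul_assoc _ F.D.z F.D.z, F.D.z_sq, mul_one]]
      calc F.D.z * x * F.D.z * x⁻¹ * (F.D.z * (F.D.z * x * F.D.z * x⁻¹) * F.D.z)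
          = F.D.z * x * F.D.z * x⁻¹ * ((F.D.z * F.D.z) * x * F.D.z * x⁻¹ * F.D.z) := by group
        _ = F.D.z * x * F.D.z * (x⁻¹ * x) * F.D.z * x⁻¹ * F.D.z := by rw [F.D.z_sq]; group
        _ = F.D.z * x * (F.D.z * F.D.z) * x⁻¹ * F.D.z := by group
        _ = 1 := by rw [F.D.z_sq, mul_one, mul_inv_cancel_right, F.D.z_sq]
    have h4 := odd_sq_one hzz.2.2 h3
    rw [mul_inv_eq_one] at h4
    show _ = _
    conv_lhs => rw [← h4]
    rw [mul_assoc (F.D.z * x), F.D.z_sq, mul_one]
  -- the normalizer of `X` lies in the centralizer of `z`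
  have hnX : ∀ n, F.NormsX n → Commute n F.D.z := by
    intro n hn
    set w := n * F.D.z * n⁻¹ with hw
    have key : ∀ a, n⁻¹ * a * n ∈ F.XX → Commute w a := by
      intro a ha
      have := (F.XX_z ha).symm.map (MulAut.conj n).toMonoidHom
      simp only [MulEquiv.coe_toMonoidHom, MulAut.conj_apply] at this
      rwa [show n * (n⁻¹ * a * n) * n⁻¹ = a by group] at this
    have hw1 := key _ hn.2.2.1
    have hw2 := key _ hn.2.2.2
    rcases F.invol_xa (hcX w hw1 hw2) hw1
      (by rw [hw, show n * F.D.z * n⁻¹ * (n * F.D.z * n⁻¹) = n * (F.D.z * F.D.z) * n⁻¹ by group, F.D.z_sq]; group)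
      with h | h
    · exact absurd (by rwa [hw, mul_inv_eq_one, mul_eq_left] at h) F.D.z_ne
    · rwa [hw, mul_inv_eq_iff_eq_mul] at h
  have hnorm : ∀ n ∈ normalizer (F.XX : Set G), F.NormsX n := fun n hn =>
    ⟨(mem_normalizer_iff.1 hn _).1 F.xa_mem, (mem_normalizer_iff.1 hn _).1 F.xb_mem,
      (mem_normalizer_iff''.1 hn _).1 F.xa_mem, (mem_normalizer_iff''.1 hn _).1 F.xb_mem⟩
  -- `X` is a Sylow 3-subgroup
  have hXp : IsPGroup 3 F.XX := fun x => ⟨1, Subtype.ext (by rw [pow_one]; exact F.XX_cube x.2)⟩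
  obtain ⟨P, hP⟩ := hXp.exists_le_sylow
  have hPX : (P : Subgroup G) = F.XX := by
    by_contra hne
    let R := F.XX.subgroupOf (P : Subgroup G)
    have hR : R ≠ ⊤ := fun h => hne (le_antisymm (fun a ha =>
      mem_subgroupOf.1 (h ▸ Subgroup.mem_top (⟨a, ha⟩ : (P : Subgroup G)))) hP)
    obtain ⟨n, hnN, hnR⟩ := SetLike.exists_of_lt
      (normalizerCondition_of_isNilpotent (h := P.isPGroup'.isNilpotent) R (lt_top_iff_ne_top.2 hR))
    have hn : (n : G) ∈ normalizer (F.XX : Set G) := mem_normalizer_fintype fun a ha =>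
      mem_subgroupOf.1 ((mem_normalizer_iff.1 hnN ⟨a, hP ha⟩).1 (mem_subgroupOf.2 ha))
    have hno := hnorm _ hn
    have hnz := hnX _ hno
    obtain ⟨x, i, e, hx, hxe⟩ := F.norm_XX hnz hno.1 hno.2.1
    -- a 3-element in coordinates lies in `X`
    set w := F.cos i * (if e then F.D.z else 1) with hwdef
    have hwP : w ∈ (P : Subgroup G) := by
      have hw' : w = x⁻¹ * (n : G) := by rw [hxe, hwdef]; group
      rw [hw']; exact mul_mem (inv_mem (hP hx)) n.2
    obtain ⟨k, hk⟩ := P.isPGroup' ⟨w, hwP⟩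
    have hk' : w ^ 3 ^ k = 1 := congrArg Subtype.val hk
    have hw4 : w ^ 4 = 1 := by
      obtain ⟨q0, q1, q2, q3⟩ := F.cos_sq
      have hzc : Commute (F.cos i) (if e then F.D.z else 1) := by
        cases e
        · exact Commute.one_right _
        · exact F.cos_z i
      have hc4 : F.cos i ^ 4 = 1 := by
        rw [show 4 = 2 * 2 from rfl, pow_mul, pow_two, pow_two]
        fin_cases i
        · show F.cos 0 * F.cos 0 * (F.cos 0 * F.cos 0) = 1; rw [q0, one_mul]
        · show F.cos 1 * F.cos 1 * (F.cos 1 * F.cos 1) = 1; rw [q1, F.D.z_sq]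
        · show F.cos 2 * F.cos 2 * (F.cos 2 * F.cos 2) = 1; rw [q2, one_mul]
        · show F.cos 3 * F.cos 3 * (F.cos 3 * F.cos 3) = 1; rw [q3, one_mul]
      have he4 : (if e then F.D.z else 1) ^ 4 = 1 := by
        cases e
        · exact one_pow _
        · show F.D.z ^ 4 = 1
          rw [show 4 = 2 * 2 from rfl, pow_mul, pow_two F.D.z, F.D.z_sq, one_pow]
      rw [hwdef, hzc.mul_pow, hc4, he4, one_mul]
    have hw1 : w = 1 := by
      rw [← orderOf_eq_one_iff]
      exact Nat.eq_one_of_dvd_coprimes (Nat.Coprime.pow_left k (by decide : Nat.Coprime 3 4))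
        (orderOf_dvd_of_pow_eq_one hk') (orderOf_dvd_of_pow_eq_one hw4)
    apply hnR
    rw [mem_subgroupOf, hxe, mul_assoc, ← hwdef, hw1, mul_one]
    exact hx
  -- the two elements of order three
  obtain ⟨g, c, hgz, hgt, hcz, hgood⟩ := F.exists_good_swap
  set E0 := F.D.f (SL23.qj, SL23.qj) with hE0
  set x3 := F.xel 1 1 with hx3
  have hx3z : Commute x3 F.D.z := F.D.f_comm _
  have hx3s : Commute x3 F.s := F.xel_diag_s 1
  let CW := centralizer ({F.D.t, E0} : Set G)
  have hmem : ∀ {x : G}, x ∈ CW ↔ Commute x F.D.t ∧ Commute x E0 := by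
    intro x
    simp only [CW, mem_centralizer_iff, Set.mem_insert_iff, Set.mem_singleton_iff, forall_eq_or_imp, forall_eq]
    exact ⟨fun h => ⟨h.1.symm, h.2.symm⟩, fun h => ⟨h.1.eq.symm, h.2.eq.symm⟩⟩
  have hct : x3 * F.D.t * x3⁻¹ ≠ F.D.t := by
    rw [hx3, xel, Hyp.t, ← map_inv, ← map_mul, ← map_mul, Ne, F.D.eq_iff]; decide +kernel
  -- conjugation by `x₃` and its inverse permutes the four-group
  let W : Fin 4 → G := ![1, F.D.t, E0, F.D.t * E0]
  have hx3perm : ∀ a, a = x3 ∨ a = x3⁻¹ → (∃ v, a * F.D.t * a⁻¹ = W v) ∧ ∃ v, a * E0 * a⁻¹ = W v := by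
    have hm : ∀ v, W v = F.D.f (![1, (SL23.qi, SL23.qi), (SL23.qj, SL23.qj),
        (SL23.qi, SL23.qi) * (SL23.qj, SL23.qj)] v) := by
      intro v
      fin_cases v
      · exact (map_one _).symm
      · rfl
      · rfl
      · exact (map_mul _ _ _).symm
    intro a ha
    rcases ha with rfl | rfl
    all_goals
      simp only [hx3, xel, Hyp.t, hE0, hm, ← map_inv, ← map_mul, F.D.eq_iff, inv_inv]
      decide +kernel
  have hnormCW : ∀ a, a = x3 ∨ a = x3⁻¹ → ∀ u ∈ CW, a⁻¹ * u * a ∈ CW := by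
    intro a ha u hu
    obtain ⟨h1, h2⟩ := hmem.1 hu
    have hW : ∀ v, Commute u (W v) := by
      intro v
      fin_cases v
      · exact Commute.one_right _
      · exact h1
      · exact h2
      · exact h1.mul_right h2
    obtain ⟨⟨v, hv⟩, v', hv'⟩ := hx3perm a ha
    have back : ∀ y, Commute u (a * y * a⁻¹) → Commute (a⁻¹ * u * a) y := by
      intro y hy
      have := hy.map (MulAut.conj a⁻¹).toMonoidHom
      simp only [MulEquiv.coe_toMonoidHom, MulAut.conj_apply, inv_inv] at this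
      rwa [show a⁻¹ * (a * y * a⁻¹) * a = y by group] at this
    exact hmem.2 ⟨back _ (hv ▸ hW v), back _ (hv' ▸ hW v')⟩
  set y := g * (c * x3 * c⁻¹) * g⁻¹ with hy
  have hycw : y ∈ CW := by
    refine hmem.2 ⟨?_, ?_⟩
    · have h : Commute (c * x3 * c⁻¹) F.D.z := (hcz.mul_left hx3z).mul_left hcz.inv_left
      have := h.map (MulAut.conj g).toMonoidHom
      simp only [MulEquiv.coe_toMonoidHom, MulAut.conj_apply, hgz] at this
      exact this
    · have h : Commute (c * x3 * c⁻¹) (g⁻¹ * E0 * g) := by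
        rcases hgood with e | e <;> rw [e]
        · exact hx3s.map (MulAut.conj c).toMonoidHom
        · exact (hx3s.mul_right hx3z).map (MulAut.conj c).toMonoidHom
      have := h.map (MulAut.conj g).toMonoidHom
      simp only [MulEquiv.coe_toMonoidHom, MulAut.conj_apply] at this
      rwa [show g * (g⁻¹ * E0 * g) * g⁻¹ = E0 by group] at this
  let N := normalizer (CW : Set G)
  have hx3N : x3 ∈ N := mem_normalizer_iff''.2 fun u => ⟨hnormCW x3 (Or.inl rfl) u, fun hu => by
    have := hnormCW x3⁻¹ (Or.inr rfl) _ hu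
    rwa [inv_inv, show x3 * (x3⁻¹ * u * x3) * x3⁻¹ = u by group] at this⟩
  have hyN : y ∈ N := le_normalizer hycw
  have hx31 : x3 ^ 3 = 1 := F.XX_cube (F.xel_mem 1 1)
  have hx3ne : x3 ≠ 1 := by
    rw [hx3, xel, ← map_one F.D.f, Ne, F.D.eq_iff]; decide +kernel
  have hy1 : y ^ 3 = 1 := by rw [hy, conj_pow, conj_pow, hx31]; group
  obtain ⟨PN, hPN⟩ := (IsPGroup.of_card (G := zpowers (⟨x3, hx3N⟩ : N)) (p := 3) (n := 1) (by
    rw [Nat.card_zpowers, pow_one]
    exact orderOf_eq_prime (Subtype.ext hx31) (fun h => hx3ne (congrArg Subtype.val h)))).exists_le_sylow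
  obtain ⟨PY, hPY⟩ := (IsPGroup.of_card (G := zpowers (⟨y, hyN⟩ : N)) (p := 3) (n := 1) (by
    rw [Nat.card_zpowers, pow_one]
    refine orderOf_eq_prime (Subtype.ext hy1) (fun h => hx3ne ?_)
    have h' : y = 1 := congrArg Subtype.val h
    calc x3 = c⁻¹ * (g⁻¹ * y * g) * c := by rw [hy]; group
      _ = 1 := by rw [h']; group)).exists_le_sylow
  obtain ⟨n, hn⟩ := MulAction.exists_smul_eq N PY PN
  have hy'P : n * ⟨y, hyN⟩ * n⁻¹ ∈ (PN : Subgroup N) := by
    rw [← hn, Sylow.smul_def, Sylow.pointwise_smul_def]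
    exact ⟨_, hPY (mem_zpowers _), rfl⟩
  set y' := (n : G) * y * (n : G)⁻¹ with hy'
  have hy'cw : y' ∈ CW := (mem_normalizer_iff.1 n.2 y).1 hycw
  -- both lie in one conjugate of `X`
  obtain ⟨Q, hQ⟩ := (PN.isPGroup'.map N.subtype).exists_le_sylow
  obtain ⟨h, hh⟩ := MulAction.exists_smul_eq G Q P
  have hin : ∀ u ∈ (PN : Subgroup N).map N.subtype, h * u * h⁻¹ ∈ F.XX := by
    intro u hu
    rw [← hPX, ← hh, Sylow.smul_def, Sylow.pointwise_smul_def]
    exact ⟨u, hQ hu, rfl⟩
  have hu1 := hin x3 ⟨⟨x3, hx3N⟩, hPN (mem_zpowers _), rfl⟩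
  have hu2 := hin y' ⟨_, hy'P, rfl⟩
  set u1 := h * x3 * h⁻¹ with hu1def
  set u2 := h * y' * h⁻¹ with hu2def
  -- each centralizes a four-group
  have hsne : F.s ≠ 1 := fun e => F.cos_notMem 2 (by decide) (by
    show F.s ∈ _; rw [e]; exact one_mem _)
  have hsz : F.s ≠ F.D.z := fun e => F.cos_notMem 2 (by decide) (by
    show F.s ∈ _; rw [e]; exact ⟨_, F.D.f_neg⟩)
  have four : ∀ a : G, ∀ k : Fin 3, k ≠ 0 → a * x3 * a⁻¹ ≠ F.xel k 0 ∧ a * x3 * a⁻¹ ≠ F.xel 0 k := by
    intro a k hk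
    have key : ∀ u, (u = F.xel k 0 ∨ u = F.xel 0 k) → a * x3 * a⁻¹ ≠ u := by
      intro u hu he
      refine hsz ((MulAut.conj a).injective (F.no_four_line hk hu (i1 := MulAut.conj a F.s) (i2 := MulAut.conj a F.D.z)
        (he ▸ hx3s.map (MulAut.conj a).toMonoidHom) (he ▸ hx3z.map (MulAut.conj a).toMonoidHom) ?_ ?_ ?_ ?_ ?_))
      · rw [← map_mul, F.s_sq, map_one]
      · exact fun e => hsne ((MulAut.conj a).injective (e.trans (map_one _).symm))
      · rw [← map_mul, F.D.z_sq, map_one]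
      · exact fun e => F.D.z_ne ((MulAut.conj a).injective (e.trans (map_one _).symm))
      · exact F.s_z.map (MulAut.conj a).toMonoidHom
    exact ⟨key _ (Or.inl rfl), key _ (Or.inr rfl)⟩
  have hdiag : ∀ a : G, a * x3 * a⁻¹ ∈ F.XX → (∃ k : Fin 3, k ≠ 0 ∧ a * x3 * a⁻¹ = F.xel k k) ∨
      ∃ k : Fin 3, k ≠ 0 ∧ a * x3 * a⁻¹ = F.xel k (-k) := by
    intro a ha
    obtain ⟨i, j, hij⟩ := F.mem_XX.1 ha
    rcases F.xel_cases i j with h | ⟨k, hk, h⟩ | ⟨k, hk, h⟩ | ⟨k, hk, h⟩ | ⟨k, hk, h⟩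
    · exact absurd (by rw [hij, h]) (fun e : a * x3 * a⁻¹ = 1 => hx3ne (by rwa [mul_inv_eq_one, mul_eq_left] at e))
    · exact absurd (hij.trans h) (four a k hk).1
    · exact absurd (hij.trans h) (four a k hk).2
    · exact Or.inl ⟨k, hk, hij.trans h⟩
    · exact Or.inr ⟨k, hk, hij.trans h⟩
  -- the two images are conjugate in the normalizer of `X`
  set a2 := h * (n : G) * g * c with ha2
  have hu2' : u2 = a2 * x3 * a2⁻¹ := by rw [hu2def, hy', hy, ha2]; group
  haveI : IsMulCommutative (P : Subgroup G) := ⟨⟨fun a b => Subtype.ext (F.XX_comm (hPX ▸ a.2) (hPX ▸ b.2)).eq⟩⟩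
  set b := a2 * h⁻¹ with hb
  have hb12 : b * u1 * b⁻¹ = u2 := by rw [hu2', hb, hu1def]; group
  obtain ⟨m, hm, hmeq⟩ := P.conj_eq_normalizer_conj_of_mem u1 b⁻¹ (by show u1 ∈ (P : Subgroup G); rw [hPX]; exact hu1) (by
    show _ ∈ (P : Subgroup G)
    rw [hPX, inv_inv, hb12]; exact hu2)
  replace hm : m ∈ normalizer (F.XX : Set G) := by rw [← hPX]; exact hm
  rw [inv_inv, hb12] at hmeq
  obtain ⟨x, i, e, hx, hxe⟩ := F.norm_XX (hnX _ (hnorm _ ((normalizer (F.XX : Set G)).inv_mem hm)))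
    (hnorm _ ((normalizer (F.XX : Set G)).inv_mem hm)).1 (hnorm _ ((normalizer (F.XX : Set G)).inv_mem hm)).2.1
  have hact : ∀ v ∈ F.XX, m⁻¹ * v * m = F.cos i * v * (F.cos i)⁻¹ := by
    intro v hv
    have hcv : F.cos i * v * (F.cos i)⁻¹ ∈ F.XX := by
      have : m⁻¹ * v * m ∈ F.XX := (mem_normalizer_iff''.1 hm v).1 hv
      rw [show m⁻¹ * v * m = m⁻¹ * v * m⁻¹⁻¹ by rw [inv_inv], hxe] at this
      have h2 := mul_mem (mul_mem (inv_mem hx) this) hx
      convert h2 using 1
      cases e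
      · simp only [Bool.false_eq_true, if_false]; group
      · simp only [if_true]
        calc F.cos i * v * (F.cos i)⁻¹ = F.cos i * (F.D.z * v * F.D.z⁻¹) * (F.cos i)⁻¹ := by
              rw [(F.XX_z hv).symm.eq, mul_inv_cancel_right]
          _ = _ := by group
    rw [show m⁻¹ * v * m = m⁻¹ * v * m⁻¹⁻¹ by rw [inv_inv], hxe]
    cases e
    · simp only [Bool.false_eq_true, if_false, mul_one]
      rw [show x * F.cos i * v * (x * F.cos i)⁻¹ = x * (F.cos i * v * (F.cos i)⁻¹) * x⁻¹ by group,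
        (F.XX_comm hx hcv).eq, mul_inv_cancel_right]
    · simp only [if_true]
      rw [show x * F.cos i * F.D.z * v * (x * F.cos i * F.D.z)⁻¹ =
        x * (F.cos i * (F.D.z * v * F.D.z⁻¹) * (F.cos i)⁻¹) * x⁻¹ by group,
        (F.XX_z hv).symm.eq, mul_inv_cancel_right, (F.XX_comm hx hcv).eq, mul_inv_cancel_right]
  have hu12 : u2 = F.cos i * u1 * (F.cos i)⁻¹ := by
    rw [← hact u1 hu1]; exact hmeq
  -- but they generate different lines
  have hpow : ∀ j : Fin 3, u2 ≠ u1 ^ (j : ℕ) := by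
    intro j he
    have he' : y' = x3 ^ (j : ℕ) := by
      rw [hu1def, conj_pow, hu2def] at he
      exact mul_left_cancel (mul_right_cancel he)
    fin_cases j
    · simp only [pow_zero] at he'
      refine hx3ne ?_
      have hy0 : y = 1 := by rw [hy'] at he'; rwa [mul_inv_eq_one, mul_eq_left] at he'
      calc x3 = c⁻¹ * (g⁻¹ * y * g) * c := by rw [hy]; group
        _ = 1 := by rw [hy0]; group
    · simp only [pow_one] at he'
      exact hct (by rw [(hmem.1 (he' ▸ hy'cw)).1.eq, mul_inv_cancel_right])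
    · have he2 : x3 ^ 2 ∈ CW := he' ▸ hy'cw
      have h3' : x3 = x3 ^ 2 * x3 ^ 2 := by
        rw [← pow_add, show 2 + 2 = 3 + 1 from rfl, pow_add, hx31, one_mul, pow_one]
      exact hct (by rw [(hmem.1 (h3' ▸ mul_mem he2 he2 : x3 ∈ CW)).1.eq, mul_inv_cancel_right])
  have hline : ∀ k : Fin 3, ∀ ε : Bool,
      ∃ j : Fin 3, F.cos i * F.xel k (if ε then k else -k) * (F.cos i)⁻¹ = F.xel k (if ε then k else -k) ^ (j : ℕ) := by
    intro k ε
    obtain ⟨j, hj⟩ := line_fix i k ε
    exact ⟨j, by rw [xel, F.cos_conj, F.D.eq_iff.2 hj, map_pow]⟩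
  rcases hdiag h hu1 with ⟨k, hk, hk'⟩ | ⟨k, hk, hk'⟩
  · obtain ⟨j, hj⟩ := hline k true
    refine hpow j ?_
    rw [hu12, show u1 = F.xel k k from hk']
    exact hj
  · obtain ⟨j, hj⟩ := hline k false
    refine hpow j ?_
    rw [hu12, show u1 = F.xel k (-k) from hk']
    exact hj

end Frame

end CfsgLib.U43Type
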