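import Cfsg.Agent.Lib.U43Type.EOdd

/-!
Groups of `U₄(3)` type: the inverted elements of the odd part of the centralizer of `X`.
-/

set_option autoImplicit false
set_option linter.style.haveILetI false

namespace CfsgLib.U43Type

open Subgroup

universe u

namespace Frame

variable {G : Type u} [Group G] (F : Frame G)

/-- An element of the odd part inverted by `z`. -/
def IsI (e : G) : Prop := F.IsE e ∧ F.D.z * e * F.D.z = e⁻¹

/-- Elements normalizing `X` through the generators. -/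
def NormsX (n : G) : Prop :=
  n * F.xa * n⁻¹ ∈ F.XX ∧ n * F.xb * n⁻¹ ∈ F.XX ∧ n⁻¹ * F.xa * n ∈ F.XX ∧ n⁻¹ * F.xb * n ∈ F.XX

theorem normsX_z : F.NormsX F.D.z := by
  have h : ∀ {x : G}, x ∈ F.XX → F.D.z * x * F.D.z⁻¹ ∈ F.XX ∧ F.D.z⁻¹ * x * F.D.z ∈ F.XX := by
    intro x hx
    rw [(F.XX_z hx).symm.eq, mul_inv_cancel_right, mul_assoc, (F.XX_z hx).eq, ← mul_assoc, inv_mul_cancel, one_mul]
    exact ⟨hx, hx⟩
  exact ⟨(h F.xa_mem).1, (h F.xb_mem).1, (h F.xa_mem).2, (h F.xb_mem).2⟩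

theorem s_xa : F.s * F.xa * F.s⁻¹ = F.xb ∧ F.s * F.xb * F.s⁻¹ = F.xa := ⟨F.s_conj _, F.s_conj _⟩

theorem T_xa : F.T * F.xa * F.T⁻¹ = F.xa⁻¹ ∧ F.T * F.xb * F.T⁻¹ = F.xb⁻¹ := by
  rw [xa, xb, F.T_conj, F.T_conj, ← map_inv, ← map_inv]
  refine ⟨congrArg F.D.f ?_, congrArg F.D.f ?_⟩ <;> decide +kernel

theorem normsX_s : F.NormsX F.s := by
  have hi : F.s⁻¹ = F.s := inv_eq_of_mul_eq_one_right F.s_sq
  obtain ⟨h1, h2⟩ := F.s_xa
  refine ⟨h1 ▸ F.xb_mem, h2 ▸ F.xa_mem, ?_, ?_⟩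
  · rw [show F.s⁻¹ * F.xa * F.s = F.s * F.xa * F.s⁻¹ by rw [hi], h1]; exact F.xb_mem
  · rw [show F.s⁻¹ * F.xb * F.s = F.s * F.xb * F.s⁻¹ by rw [hi], h2]; exact F.xa_mem

theorem normsX_T : F.NormsX F.T := by
  obtain ⟨h1, h2⟩ := F.T_xa
  refine ⟨h1 ▸ inv_mem F.xa_mem, h2 ▸ inv_mem F.xb_mem, ?_, ?_⟩
  · rw [show F.T⁻¹ * F.xa * F.T = (F.T⁻¹ * (F.T * F.xa * F.T⁻¹) * F.T)⁻¹ by rw [h1]; group]
    rw [show F.T⁻¹ * (F.T * F.xa * F.T⁻¹) * F.T = F.xa by group]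
    exact inv_mem F.xa_mem
  · rw [show F.T⁻¹ * F.xb * F.T = (F.T⁻¹ * (F.T * F.xb * F.T⁻¹) * F.T)⁻¹ by rw [h2]; group]
    rw [show F.T⁻¹ * (F.T * F.xb * F.T⁻¹) * F.T = F.xb by group]
    exact inv_mem F.xb_mem

theorem normsX_mul {m n : G} (hm : F.NormsX m) (hn : F.NormsX n) : F.NormsX (m * n) := by
  have key : ∀ {a : G}, a * F.xa * a⁻¹ ∈ F.XX → a * F.xb * a⁻¹ ∈ F.XX → ∀ x ∈ F.XX, a * x * a⁻¹ ∈ F.XX := by
    intro a h1 h2 x hx
    obtain ⟨i, j, rfl⟩ := F.mem_XX.1 hx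
    have h : F.xel i j = F.xa ^ (i : ℕ) * F.xb ^ (j : ℕ) := by
      rw [xel, xa, xb, ← map_pow, ← map_pow, ← map_mul]
      exact congrArg F.D.f (Prod.ext (by simp) (by simp))
    rw [h, show a * (F.xa ^ (i : ℕ) * F.xb ^ (j : ℕ)) * a⁻¹ =
      (a * F.xa * a⁻¹) ^ (i : ℕ) * (a * F.xb * a⁻¹) ^ (j : ℕ) by simp only [conj_pow]; group]
    exact mul_mem (pow_mem h1 _) (pow_mem h2 _)
  have key' : ∀ {a : G}, a⁻¹ * F.xa * a ∈ F.XX → a⁻¹ * F.xb * a ∈ F.XX → ∀ x ∈ F.XX, a⁻¹ * x * a ∈ F.XX := by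
    intro a h1 h2 x hx
    have := key (a := a⁻¹) (by rwa [inv_inv]) (by rwa [inv_inv]) x hx
    rwa [inv_inv] at this
  refine ⟨?_, ?_, ?_, ?_⟩
  · have := key hm.1 hm.2.1 _ hn.1
    rwa [show m * (n * F.xa * n⁻¹) * m⁻¹ = m * n * F.xa * (m * n)⁻¹ by group] at this
  · have := key hm.1 hm.2.1 _ hn.2.1
    rwa [show m * (n * F.xb * n⁻¹) * m⁻¹ = m * n * F.xb * (m * n)⁻¹ by group] at this
  · have := key' hn.2.2.1 hn.2.2.2 _ hm.2.2.1
    rwa [show n⁻¹ * (m⁻¹ * F.xa * m) * n = (m * n)⁻¹ * F.xa * (m * n) by group] at this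
  · have := key' hn.2.2.1 hn.2.2.2 _ hm.2.2.2
    rwa [show n⁻¹ * (m⁻¹ * F.xb * m) * n = (m * n)⁻¹ * F.xb * (m * n) by group] at this

/-- The normalizer of `X` acts on the odd part. -/
theorem isE_conj {n e : G} (hn : F.NormsX n) (he : F.IsE e) : F.IsE (n * e * n⁻¹) := by
  have key : ∀ a, n⁻¹ * a * n ∈ F.XX → Commute (n * e * n⁻¹) a := by
    intro a ha
    have := (F.comm_XX he.1 he.2.1 ha).map (MulAut.conj n).toMonoidHom
    simp only [MulEquiv.coe_toMonoidHom, MulAut.conj_apply] at this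
    rwa [show n * (n⁻¹ * a * n) * n⁻¹ = a by group] at this
  refine ⟨key _ hn.2.2.1, key _ hn.2.2.2, ?_⟩
  show Odd (orderOf (MulAut.conj n e))
  rw [MulEquiv.orderOf_eq]
  exact he.2.2

theorem isI_conj {n e : G} (hn : F.NormsX n) (hz : Commute n F.D.z) (he : F.IsI e) : F.IsI (n * e * n⁻¹) := by
  refine ⟨F.isE_conj hn he.1, ?_⟩
  calc F.D.z * (n * e * n⁻¹) * F.D.z = (F.D.z * n) * e * (n⁻¹ * F.D.z) := by group
    _ = (n * F.D.z) * e * (F.D.z * n⁻¹) := by rw [hz.eq, hz.inv_left.eq]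
    _ = n * (F.D.z * e * F.D.z) * n⁻¹ := by group
    _ = _ := by rw [he.2]; group

variable [Finite G]

theorem isE_mul {d e : G} (hd : F.IsE d) (he : F.IsE e) : F.IsE (d * e) := by
  obtain ⟨E, hE, -⟩ := F.exists_E
  exact (hE _).1 (mul_mem ((hE _).2 hd) ((hE _).2 he))

theorem isE_inv {e : G} (he : F.IsE e) : F.IsE e⁻¹ :=
  ⟨he.1.inv_left, he.2.1.inv_left, by rw [orderOf_inv]; exact he.2.2⟩

theorem isE_z {e : G} (he : F.IsE e) (hz : Commute e F.D.z) : e ∈ F.XX := by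
  obtain ⟨x, hx, h | h⟩ := F.cent_XX hz he.1 he.2.1
  · exact h ▸ hx
  · exfalso
    have hz' : F.IsE F.D.z := by
      have := F.isE_mul (F.isE_inv (F.isE_XX hx)) he
      rwa [h, inv_mul_cancel_left] at this
    exact F.D.z_ne (odd_sq_one hz'.2.2 F.D.z_sq)

/-- Two inverted elements in the same coset of `X` are equal. -/
theorem isI_unique {x i j : G} (hx : x ∈ F.XX) (hi : F.IsI i) (hj : F.IsI j) (h : i = x * j) : i = j := by
  have h2 : x * j⁻¹ = (x * j)⁻¹ := by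
    rw [← h, ← hi.2, h]
    calc x * j⁻¹ = x * (F.D.z * j * F.D.z) := by rw [hj.2]
      _ = _ := by rw [← mul_assoc x, ← mul_assoc x, (F.XX_z hx).eq]; group
  rw [mul_inv_rev, ((F.comm_XX hj.1.1 hj.1.2.1 (inv_mem hx)).inv_left).eq, mul_left_inj] at h2
  have hx1 : x = 1 := odd_sq_one (F.isE_XX hx).2.2 (by nth_rw 2 [h2]; exact mul_inv_cancel x)
  rw [h, hx1, one_mul]

/-- Every element of the odd part is an element of `X` times an inverted element. -/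
theorem isE_split {e : G} (he : F.IsE e) : ∃ x i, x ∈ F.XX ∧ F.IsI i ∧ e = x * i := by
  -- a square root
  set c := e * (F.D.z * e⁻¹ * F.D.z) with hc
  have hz' : F.IsE (F.D.z * e⁻¹ * F.D.z) := by
    have := F.isE_conj F.normsX_z (F.isE_inv he)
    rwa [inv_eq_of_mul_eq_one_right F.D.z_sq] at this
  have hcE : F.IsE c := F.isE_mul he hz'
  have hcI : F.D.z * c * F.D.z = c⁻¹ := by
    rw [hc]
    calc F.D.z * (e * (F.D.z * e⁻¹ * F.D.z)) * F.D.z = F.D.z * e * F.D.z * e⁻¹ * (F.D.z * F.D.z) := by group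
      _ = F.D.z⁻¹ * e * F.D.z⁻¹ * e⁻¹ := by rw [F.D.z_sq, mul_one, inv_eq_of_mul_eq_one_right F.D.z_sq]
      _ = _ := by group
  obtain ⟨k, hk⟩ := hcE.2.2
  set i := c ^ (k + 1) with hi
  have hii : i * i = c := by
    rw [hi, ← pow_add, show k + 1 + (k + 1) = orderOf c + 1 by omega, pow_succ, pow_orderOf_eq_one, one_mul]
  have hiI : F.IsI i := by
    refine ⟨⟨hcE.1.pow_left _, hcE.2.1.pow_left _, hcE.2.2.of_dvd_nat (orderOf_pow_dvd _)⟩, ?_⟩
    calc F.D.z * c ^ (k + 1) * F.D.z = F.D.z * c ^ (k + 1) * F.D.z⁻¹ := by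
          rw [inv_eq_of_mul_eq_one_right F.D.z_sq]
      _ = (F.D.z * c * F.D.z⁻¹) ^ (k + 1) := (conj_pow).symm
      _ = _ := by rw [inv_eq_of_mul_eq_one_right F.D.z_sq, hcI, inv_pow]
  have hx : F.IsE (i⁻¹ * e) := F.isE_mul (F.isE_inv hiI.1) he
  have hxz : Commute (i⁻¹ * e) F.D.z := by
    have hzz : ∀ u : G, F.D.z * (F.D.z * u) = u := fun u => by rw [← mul_assoc, F.D.z_sq, one_mul]
    have h1 : F.D.z * e * F.D.z = c⁻¹ * e := by
      rw [← hcI, hc]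
      simp only [mul_assoc, hzz, F.D.z_sq, inv_mul_cancel, mul_one, inv_mul_cancel_left]
    have h2 : F.D.z * i⁻¹ * F.D.z = i := by
      have := congrArg (·⁻¹) hiI.2
      simp only [mul_inv_rev, inv_inv, inv_eq_of_mul_eq_one_right F.D.z_sq] at this
      rw [mul_assoc]; exact this
    have h3 : F.D.z * (i⁻¹ * e) * F.D.z = i⁻¹ * e := by
      calc F.D.z * (i⁻¹ * e) * F.D.z = F.D.z * i⁻¹ * F.D.z * (F.D.z * e * F.D.z) := by
            simp only [mul_assoc, hzz]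
        _ = i * ((i * i)⁻¹ * e) := by rw [h2, h1, hii]
        _ = _ := by group
    show _ = _
    conv_lhs => rw [← h3]
    simp only [mul_assoc, F.D.z_sq, mul_one]
  have hxX := F.isE_z hx hxz
  exact ⟨i⁻¹ * e, i, hxX, hiI, by
    rw [← (F.comm_XX hiI.1.1 hiI.1.2.1 hxX).eq, mul_inv_cancel_left]⟩

/-- The inverted part of an element. -/
noncomputable def ipart (e : G) : G :=
  open Classical in if he : F.IsE e then (F.isE_split he).choose_spec.choose else 1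

theorem ipart_spec {e : G} (he : F.IsE e) : F.IsI (F.ipart e) ∧ ∃ x ∈ F.XX, e = x * F.ipart e := by
  rw [ipart, dif_pos he]
  obtain ⟨h1, h2, h3⟩ := (F.isE_split he).choose_spec.choose_spec
  exact ⟨h2, _, h1, h3⟩

theorem ipart_eq {e x i : G} (hx : x ∈ F.XX) (hi : F.IsI i) (h : e = x * i) : F.ipart e = i := by
  have he : F.IsE e := h ▸ F.isE_mul (F.isE_XX hx) hi.1
  obtain ⟨hI, y, hy, hye⟩ := F.ipart_spec he
  refine F.isI_unique (mul_mem (inv_mem hy) hx) hI hi ?_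
  rw [mul_assoc, ← h, eq_inv_mul_iff_mul_eq]
  exact hye.symm

/-- Products modulo `X` do not depend on the order. -/
theorem isI_comm {i j : G} (hi : F.IsI i) (hj : F.IsI j) : ∃ y ∈ F.XX, i * j = y * (j * i) := by
  obtain ⟨hk, x, hx, hxk⟩ := F.ipart_spec (F.isE_mul hi.1 hj.1)
  set k := F.ipart (i * j)
  have h1 : F.D.z * (i * j) * F.D.z = i⁻¹ * j⁻¹ := by
    rw [← hi.2, ← hj.2]
    simp only [mul_assoc]
    rw [← mul_assoc F.D.z F.D.z, F.D.z_sq, one_mul]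
  have h2 : F.D.z * (x * k) * F.D.z = x * k⁻¹ := by
    rw [← hk.2, ← mul_assoc, ← (F.XX_z hx).eq]
    group
  have h : i⁻¹ * j⁻¹ = x * k⁻¹ := by rw [← h1, hxk, h2]
  have hji : j * i = k * x⁻¹ := by
    have := congrArg (·⁻¹) h
    simpa using this
  refine ⟨x * x, mul_mem hx hx, ?_⟩
  rw [hxk, hji, (F.comm_XX hk.1.1 hk.1.2.1 (inv_mem hx)).eq]
  group

/-- The inverted elements fixed by `s`. -/
def IsP (e : G) : Prop := F.IsI e ∧ Commute e F.s

/-- An element fixed by `z` and a swapping involution has odd order at most three. -/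
theorem cent_s_card {H : Subgroup G} (hH : ∀ x ∈ H, Commute x F.D.z ∧ Commute x F.s) (ho : Odd (Nat.card H)) :
    ¬ 9 ∣ Nat.card H := by
  intro h9
  let S : Subgroup Pr := (centralizer ({F.s} : Set G)).comap F.D.f
  have hS : Nat.card S = 48 := by
    let e : S ≃ {p : Pr // Equ (p.2, p.1) p} :=
      { toFun := fun p => ⟨p.1, by
          rw [← F.D.eq_iff, ← F.s_conj, mul_inv_eq_iff_eq_mul]
          exact (mem_centralizer_singleton_iff.1 p.2).symm⟩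
        invFun := fun p => ⟨p.1, by
          refine mem_centralizer_singleton_iff.2 ?_
          have h := F.D.eq_iff.2 p.2
          rw [← F.s_conj, mul_inv_eq_iff_eq_mul] at h
          exact h.symm⟩
        left_inv := fun _ => rfl
        right_inv := fun _ => rfl }
    rw [Nat.card_congr e, Nat.card_eq_fintype_card, SL23.swap_card]
  have hle : H ≤ S.map F.D.f := by
    intro x hx
    obtain ⟨r, hr⟩ := F.D.odd_mem x (hH x hx).1 (ho.of_dvd_nat (Subgroup.orderOf_dvd_natCard H hx))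
    exact ⟨r, mem_centralizer_singleton_iff.2 (hr ▸ (hH x hx).2.eq), hr⟩
  have := (h9.trans (Subgroup.card_dvd_of_le hle)).trans (hS ▸ Subgroup.card_map_dvd S F.D.f)
  norm_num at this

end Frame

end CfsgLib.U43Type
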