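import Cfsg.Agent.Lib.U43Type.XGroup

/-!
Groups of `U₄(3)` type: the odd part of the centralizer of `X`.
-/

set_option autoImplicit false
set_option linter.style.haveILetI false

namespace CfsgLib.U43Type

open Subgroup

universe u

namespace Frame

variable {G : Type u} [Group G] (F : Frame G)

/-- The elements of odd order centralizing `X`. -/
def IsE (e : G) : Prop := Commute e F.xa ∧ Commute e F.xb ∧ Odd (orderOf e)

theorem comm_XX {e : G} (h1 : Commute e F.xa) (h2 : Commute e F.xb) {x : G} (hx : x ∈ F.XX) : Commute e x := by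
  obtain ⟨i, j, rfl⟩ := F.mem_XX.1 hx
  have h : F.xel i j = F.xa ^ (i : ℕ) * F.xb ^ (j : ℕ) := by
    rw [xel, xa, xb, ← map_pow, ← map_pow, ← map_mul]; simp
  rw [h]
  exact (h1.pow_right _).mul_right (h2.pow_right _)

theorem isE_XX {x : G} (hx : x ∈ F.XX) : F.IsE x :=
  ⟨(F.XX_comm hx F.xa_mem), (F.XX_comm hx F.xb_mem), by
    refine Odd.of_dvd_nat (n := 3) (by decide) ?_
    exact orderOf_dvd_of_pow_eq_one (F.XX_cube hx)⟩

theorem odd_sq_one {x : G} (ho : Odd (orderOf x)) (h : x * x = 1) : x = 1 := by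
  rw [← orderOf_eq_one_iff]
  have hd := orderOf_dvd_of_pow_eq_one (show x ^ 2 = 1 by rw [pow_two, h])
  rcases (Nat.dvd_prime Nat.prime_two).1 hd with h' | h'
  · exact h'
  · rw [h'] at ho; exact absurd ho (by decide)

variable [Finite G]

/-- The odd part is a subgroup of index two in the centralizer of `X`. -/
theorem exists_E : ∃ E : Subgroup G, (∀ e, e ∈ E ↔ F.IsE e) ∧ Odd (Nat.card E) := by
  classical
  haveI : Fact (Nat.Prime 2) := ⟨Nat.prime_two⟩
  let CX := centralizer ({F.xa, F.xb} : Set G)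
  have hmem : ∀ {x : G}, x ∈ CX ↔ Commute x F.xa ∧ Commute x F.xb := by
    intro x
    simp only [CX, mem_centralizer_iff, Set.mem_insert_iff, Set.mem_singleton_iff, forall_eq_or_imp, forall_eq]
    exact ⟨fun h => ⟨h.1.symm, h.2.symm⟩, fun h => ⟨h.1.eq.symm, h.2.eq.symm⟩⟩
  have hzm : F.D.z ∈ CX := hmem.2 ⟨(F.D.f_comm _).symm, (F.D.f_comm _).symm⟩
  let Z : CX := ⟨F.D.z, hzm⟩
  have hZ : orderOf Z = 2 :=
    orderOf_eq_prime (by rw [pow_two]; exact Subtype.ext F.D.z_sq) (fun h => F.D.z_ne (congrArg Subtype.val h))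
  have honly : ∀ x : CX, Commute x Z → x * x = 1 → x = 1 ∨ x = Z := by
    intro x hx h2
    rcases F.invol_xa (show Commute (x : G) F.D.z from congrArg Subtype.val hx.eq) (hmem.1 x.2).1
      (congrArg Subtype.val h2) with h | h
    · exact Or.inl (Subtype.ext h)
    · exact Or.inr (Subtype.ext h)
  have h4 : ¬ 4 ∣ Nat.card CX := by
    intro h
    obtain ⟨P, hP⟩ := (IsPGroup.of_card (G := zpowers Z) (p := 2) (n := 1) (by
      rw [Nat.card_zpowers, hZ, pow_one])).exists_le_sylow
    haveI : Nontrivial (P : Subgroup CX) := ⟨⟨Z, hP (mem_zpowers Z)⟩, 1, fun h => F.D.z_ne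
      (congrArg (fun x : (P : Subgroup CX) => ((x : CX) : G)) h)⟩
    haveI hnt := P.isPGroup'.center_nontrivial
    obtain ⟨w, hw⟩ := exists_prime_orderOf_dvd_card' (G := center (P : Subgroup CX)) 2 (by
      obtain ⟨n, hn⟩ := (P.isPGroup'.to_subgroup (center (P : Subgroup CX))).exists_card_eq
      have h1 := Finite.one_lt_card (α := center (P : Subgroup CX))
      rw [hn] at h1 ⊢
      refine dvd_pow_self 2 ?_
      rintro rfl
      norm_num at h1)
    have hwZ : ((w : (P : Subgroup CX)) : CX) = Z := by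
      have hc := congrArg Subtype.val ((mem_center_iff.1 w.2) ⟨Z, hP (mem_zpowers Z)⟩)
      have hsq := pow_orderOf_eq_one w
      rw [hw, pow_two] at hsq
      rcases honly _ (Eq.symm hc) (congrArg (fun x : center (P : Subgroup CX) => ((x : (P : Subgroup CX)) : CX)) hsq)
        with h | h
      · exfalso
        rw [show w = 1 from Subtype.ext (Subtype.ext h), orderOf_one] at hw; omega
      · exact h
    have hPd : 4 ∣ Nat.card (P : Subgroup CX) := by
      have : 2 ^ 2 ∣ Nat.card (P : Subgroup CX) := P.pow_dvd_card_of_pow_dvd_card (by simpa using h)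
      simpa using this
    -- every element of `P` lies in `X ⟨z⟩`
    have hsm : ∀ x : (P : Subgroup CX), ((x : CX) : G) = 1 ∨ ((x : CX) : G) = F.D.z := by
      intro x
      have hc : Commute ((x : CX) : G) F.D.z := by
        have := congrArg (fun y : (P : Subgroup CX) => ((y : CX) : G)) ((mem_center_iff.1 w.2) x)
        simp only [Subgroup.coe_mul, hwZ] at this
        exact this
      obtain ⟨k, hk⟩ := P.isPGroup' x
      obtain ⟨y, hy, hxy⟩ := F.cent_XX hc (hmem.1 (x : CX).2).1 (hmem.1 (x : CX).2).2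
      have hxk : ((x : CX) : G) ^ 2 ^ k = 1 := congrArg (fun y : (P : Subgroup CX) => ((y : CX) : G)) hk
      have hy1 : y = 1 := by
        have h2y : y ^ 2 ^ (k + 1) = 1 := by
          rcases hxy with e | e
          · rw [← e, pow_succ, pow_mul, hxk, one_pow]
          · have hze : y = ((x : CX) : G) * F.D.z := by rw [e, mul_assoc, F.D.z_sq, mul_one]
            rw [hze, hc.mul_pow, pow_succ, pow_mul, hxk, one_pow, one_mul, mul_comm (2 ^ k) 2, pow_mul, pow_two,
              F.D.z_sq, one_pow]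
        rw [← orderOf_eq_one_iff]
        exact Nat.eq_one_of_dvd_coprimes ((Nat.coprime_pow_left_iff (Nat.succ_pos k) 2 3).2 (by decide))
          (orderOf_dvd_of_pow_eq_one h2y) (orderOf_dvd_of_pow_eq_one (F.XX_cube hy))
      rcases hxy with e | e <;> rw [e, hy1]
      · exact Or.inl rfl
      · exact Or.inr (one_mul _)
    haveI := Fintype.ofFinite (P : Subgroup CX)
    have hle : Nat.card (P : Subgroup CX) ≤ 2 := by
      rw [Nat.card_eq_fintype_card, ← Finset.card_univ]
      refine le_trans (Finset.card_le_card (t := {1, ⟨Z, hP (mem_zpowers Z)⟩}) ?_) Finset.card_le_two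
      intro x _
      simp only [Finset.mem_insert, Finset.mem_singleton]
      rcases hsm x with e | e
      · exact Or.inl (Subtype.ext (Subtype.ext e))
      · exact Or.inr (Subtype.ext (Subtype.ext e))
    have := Nat.le_of_dvd (Nat.card_pos) hPd
    omega
  obtain ⟨m, hm⟩ : 2 ∣ Nat.card CX := hZ ▸ orderOf_dvd_natCard Z
  have hmo : Odd m := by
    rw [← Nat.not_even_iff_odd]
    rintro ⟨k, rfl⟩
    exact h4 ⟨k, by omega⟩
  obtain ⟨N, hNn, hN⟩ := CfsgLib.DegMinusValue.exists_index_two hmo hm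
  refine ⟨N.map CX.subtype, fun e => ?_, ?_⟩
  · constructor
    · rintro ⟨x, hx, rfl⟩
      refine ⟨(hmem.1 x.2).1, (hmem.1 x.2).2, ?_⟩
      show Odd (orderOf (x : G))
      rw [Subgroup.orderOf_coe]
      exact Odd.of_dvd_nat (hN ▸ hmo) (Subgroup.orderOf_dvd_natCard N hx)
    · rintro ⟨h1, h2, h3⟩
      refine ⟨⟨e, hmem.2 ⟨h1, h2⟩⟩, ?_, rfl⟩
      have hidx : N.index = 2 := by
        have := N.card_mul_index
        rw [hN, hm, mul_comm 2 m] at this
        exact Nat.eq_of_mul_eq_mul_left hmo.pos this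
      have h4 : ∀ y : CX, y * y ∈ N := fun y => Subgroup.mul_self_mem_of_index_two hidx y
      rw [← Subgroup.orderOf_mk (H := CX) e (hmem.2 ⟨h1, h2⟩)] at h3
      obtain ⟨k, hk⟩ := h3
      set y : CX := ⟨e, hmem.2 ⟨h1, h2⟩⟩
      have : y = (y ^ (k + 1)) * (y ^ (k + 1)) := by
        rw [← pow_add, show k + 1 + (k + 1) = orderOf y + 1 by omega, pow_succ, pow_orderOf_eq_one, one_mul]
      rw [this]
      exact h4 _
  · rw [Nat.card_congr (N.equivMapOfInjective _ (subtype_injective CX)).symm.toEquiv, hN]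
    exact hmo

end Frame

end CfsgLib.U43Type
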