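import Cfsg.Agent.Lib.U43Type.SwapMain

/-!
Groups of `U₄(3)` type: coordinates on the whole centralizer.
-/

set_option autoImplicit false
set_option linter.style.haveILetI false

namespace CfsgLib.U43Type

open Subgroup

universe u

/-- Coordinates on the centralizer. -/
structure Frame (G : Type u) [Group G] where
  D : Hyp G
  s : G
  T : G
  s_sq : s * s = 1
  s_z : Commute s D.z
  s_conj : ∀ p : Pr, s * D.f p * s⁻¹ = D.f (p.2, p.1)
  T_z : Commute T D.z
  T_conj : ∀ p : Pr, T * D.f p * T⁻¹ = D.f (SL23.flip p.1, SL23.flip p.2)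
  T_sq : T * T = D.z
  s_T : s * T * s = T * D.z
  s_class : IsConj D.z s ∧ IsConj D.z (s * D.z)
  sT_class : IsConj D.z (s * T) ∧ IsConj D.z (s * T * D.z)

namespace SL23

theorem outer_fix : ∀ a b : SL23, PM a qi → PM b qk →
    ∃ r : Q8, r.1 * a * r.1⁻¹ = flip qi ∧ r.1 * b * r.1⁻¹ = flip qj := by decide +kernel

theorem pm_mul_neg : ∀ b : SL23, PM b qk → PM (b * neg) qk := by decide +kernel

theorem flip_three : ∀ a : SL23, a ^ 3 = 1 → flip a ^ 3 = 1 ∧ (flip a * neg) ^ 3 ≠ 1 := by decide +kernel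

theorem flip_gens : flip qi * flip qi = neg ∧ flip qj * flip qj = neg ∧ flip qi * flip qj ≠ flip qj * flip qi := by
  decide +kernel

theorem flip_flip : ∀ a : SL23, flip (flip a) = a := by decide +kernel

/-- The automorphism `flip`. -/
def flipHom : SL23 →* SL23 :=
  { toFun := flip, map_one' := by decide +kernel, map_mul' := flip_mul }

end SL23

theorem frame_model : ∀ a b : Q8,
    (let r : Pr := (a.1, b.1)
     let t' : Pr := (SL23.qi, SL23.qi)
     (Equ ((SL23.flip r.1, SL23.flip r.2) * r * t') 1 ∨ Equ ((SL23.flip r.1, SL23.flip r.2) * r * t') (SL23.neg, 1)) →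
     (Equ ((r.2, r.1) * t' * r⁻¹) 1 ∨ Equ ((r.2, r.1) * t' * r⁻¹) (SL23.neg, 1)) →
     Equ ((SL23.flip r.1, SL23.flip r.2) * r * t') (SL23.neg, 1) ∧ Equ ((r.2, r.1) * t' * r⁻¹) (SL23.neg, 1)) := by
  decide +kernel

theorem sigma_model : ∀ c : SL23, c * c = SL23.neg → c * SL23.qi ≠ SL23.qi * c →
    SL23.IsJK c ∨ SL23.IsJK (c * SL23.neg) := by decide +kernel

theorem tau_model : Equ (SL23.qk, SL23.qj) (((SL23.qi, SL23.qi * SL23.neg) : Pr) * (SL23.qj, SL23.qk)) := by
  decide +kernel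

theorem sT_model : ∀ a b : SL23, Equ ((a, b) * (SL23.flip b, SL23.flip a)) 1 →
    Equ (a, b) (a, (SL23.flip a)⁻¹) ∨ Equ (a, b) ((a, (SL23.flip a)⁻¹) * (SL23.neg, 1)) := by decide +kernel

namespace Hyp

variable {G : Type u} [Group G] (D : Hyp G)

/-- An endomorphism of a factor induced by conjugation. -/
theorem exists_hom {c : G} (s r : Bool) (h : ∀ a, ∃ b, c * D.f (side s a) * c⁻¹ = D.f (side r b)) :
    ∃ α : SL23 →* SL23, ∀ a, c * D.f (side s a) * c⁻¹ = D.f (side r (α a)) := by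
  choose α hα using h
  refine ⟨{ toFun := α, map_one' := ?_, map_mul' := ?_ }, hα⟩
  · refine D.side_inj (s := r) ?_
    rw [← hα, show side s (1 : SL23) = 1 by cases s <;> rfl, map_one, mul_one, mul_inv_cancel,
      show side r (1 : SL23) = 1 by cases r <;> rfl, map_one]
  · intro x y
    refine D.side_inj (s := r) ?_
    rw [side_mul, map_mul, ← hα, ← hα, ← hα, ← D.conj_mul', ← side_mul]

/-- An element acting as `flip` on the quaternion group does so on the whole factor. -/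
theorem flip_ext {α : SL23 →* SL23} (hi : α SL23.qi = SL23.flip SL23.qi) (hj : α SL23.qj = SL23.flip SL23.qj) :
    ∀ a, α a = SL23.flip a := by
  have h8 : ∀ x : SL23, x ^ 4 = 1 → α x = SL23.flip x := by
    intro x hx
    obtain ⟨m, n, rfl⟩ := SL23.q8_words x hx
    show α _ = SL23.flipHom _
    rw [map_mul, map_pow, map_pow, map_mul, map_pow, map_pow, hi, hj]; rfl
  have key : ∀ x : SL23, α x = SL23.flip x ∨ α x = SL23.flip x * SL23.neg := by
    intro x
    obtain ⟨n1, n2, n3⟩ := SL23.flip_gens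
    have hc : ∀ q : SL23, q ^ 4 = 1 →
        ((SL23.flip x)⁻¹ * α x) * SL23.flip q = SL23.flip q * ((SL23.flip x)⁻¹ * α x) := by
      intro q hq
      have h1 : SL23.flipHom (x * q * x⁻¹) = α (x * q * x⁻¹) := (h8 _ (SL23.four_conj_mem q x hq)).symm
      rw [map_mul, map_mul, map_inv, map_mul α, map_mul α, map_inv α, h8 q hq] at h1
      change SL23.flip x * SL23.flip q * (SL23.flip x)⁻¹ = _ at h1
      calc (SL23.flip x)⁻¹ * α x * SL23.flip q = (SL23.flip x)⁻¹ * (α x * SL23.flip q * (α x)⁻¹) * α x := by group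
        _ = _ := by rw [← h1]; group
    rcases six_cent _ _ n1 n2 n3 _ (hc _ (by decide +kernel)) (hc _ (by decide +kernel)) with h | h
    · exact Or.inl (inv_mul_eq_one.1 h).symm
    · exact Or.inr (inv_mul_eq_iff_eq_mul.1 h)
  have h3 : ∀ x : SL23, x ^ 3 = 1 → α x = SL23.flip x := by
    intro x hx
    refine (key x).resolve_right fun h => (SL23.flip_three x hx).2 ?_
    rw [← h, ← map_pow, hx, map_one]
  intro a
  obtain ⟨e, rfl⟩ := SL23.word4 a
  show α _ = SL23.flipHom _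
  simp only [map_mul, map_pow, h3 SL23.xx (by decide +kernel), h3 SL23.yy (by decide +kernel)]
  rfl

variable [Finite G]

/-- New coordinates in which the first involution interchanges the two coordinates. -/
theorem exists_frame : ∃ F : Frame G, F.D.z = D.z := by
  obtain ⟨S⟩ := D.nonempty_swappers
  have hpi : S.p⁻¹ = S.p := inv_eq_of_mul_eq_one_right S.p_sq
  obtain ⟨σ, hσ⟩ := D.exists_hom true false S.p_swp
  have hback : ∀ a, S.p * D.f (1, σ a) * S.p⁻¹ = D.f (a, 1) := by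
    intro a
    rw [show D.f (1, σ a) = S.p * D.f (a, 1) * S.p⁻¹ from (hσ a).symm]
    calc S.p * (S.p * D.f (a, 1) * S.p⁻¹) * S.p⁻¹ = (S.p * S.p) * D.f (a, 1) * (S.p * S.p)⁻¹ := by group
      _ = _ := by rw [S.p_sq]; group
  have hinj : Function.Injective σ := fun a b h =>
    D.side_inj (s := true) (show D.f (a, 1) = D.f (b, 1) by rw [← hback a, ← hback b, h])
  have hneg : σ SL23.neg = SL23.neg := by
    refine D.side_inj (s := false) (show D.f (1, σ SL23.neg) = D.f (1, SL23.neg) from ?_)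
    rw [D.f_neg', show D.f (1, σ SL23.neg) = S.p * D.f (SL23.neg, 1) * S.p⁻¹ from (hσ _).symm, D.f_neg, S.p_z.eq,
      mul_inv_cancel_right]
  let e : Pr ≃* Pr := (MulEquiv.refl SL23).prodCongr
    (MulEquiv.ofBijective σ (Finite.injective_iff_bijective.1 hinj))
  have he : ∀ p : Pr, e p = (p.1, σ p.2) := fun _ => rfl
  have heQ : ∀ p : Pr, e p ∈ Qs ↔ p ∈ Qs := by
    intro p
    rw [he, mem_Qs, mem_Qs, ← map_pow, map_eq_one_iff σ hinj]
  have hQmap : Qs.map (D.f.comp e.toMonoidHom) = Qs.map D.f := by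
    ext x
    constructor
    · rintro ⟨p, hp, rfl⟩; exact ⟨e p, (heQ p).2 hp, rfl⟩
    · rintro ⟨p, hp, rfl⟩
      refine ⟨e.symm p, (heQ _).1 (by rw [MulEquiv.apply_symm_apply]; exact hp), ?_⟩
      show D.f (e (e.symm p)) = _
      rw [MulEquiv.apply_symm_apply]
  let D' : Hyp G :=
    { z := D.z, f := D.f.comp e.toMonoidHom, z_ne := D.z_ne, z_sq := D.z_sq
      ker := fun p => by
        show D.f (e p) = 1 ↔ _
        rw [D.ker, he]
        constructor
        · rintro (h | h)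
          · left
            exact Prod.ext (show p.1 = (1 : SL23) from (congrArg Prod.fst h :)) (hinj ((congrArg Prod.snd h :).trans (map_one σ).symm))
          · right
            exact Prod.ext (show p.1 = SL23.neg from (congrArg Prod.fst h :)) (hinj ((congrArg Prod.snd h :).trans hneg.symm))
        · rintro (rfl | rfl)
          · exact Or.inl (Prod.ext rfl (map_one σ))
          · exact Or.inr (Prod.ext rfl hneg)
      f_neg := by
        show D.f (e (SL23.neg, 1)) = _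
        rw [he, map_one, D.f_neg]
      f_comm := fun p => D.f_comm _
      card_C := D.card_C
      normal := fun c hc p => by
        obtain ⟨p', hp'⟩ := D.normal c hc (e p)
        exact ⟨e.symm p', by show D.f (e (e.symm p')) = _; rw [MulEquiv.apply_symm_apply]; exact hp'⟩
      odd_mem := fun c hc ho => by
        obtain ⟨p, hp⟩ := D.odd_mem c hc ho
        exact ⟨e.symm p, by show D.f (e (e.symm p)) = _; rw [MulEquiv.apply_symm_apply]; exact hp⟩
      cent := fun c hc h => by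
        obtain ⟨p, hp, hpc⟩ := D.cent c hc (fun p hp => by
          have := h (e.symm p) ((heQ _).1 (by rw [MulEquiv.apply_symm_apply]; exact hp))
          rwa [show (D.f.comp e.toMonoidHom) (e.symm p) = D.f (e (e.symm p)) from rfl,
            MulEquiv.apply_symm_apply] at this)
        refine ⟨e.symm p, (heQ _).1 (by rw [MulEquiv.apply_symm_apply]; exact hp), ?_⟩
        show D.f (e (e.symm p)) = _
        rw [MulEquiv.apply_symm_apply]; exact hpc
      nwc := by
        obtain ⟨g, p, hp, h1, h2⟩ := D.nwc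
        refine ⟨g, e.symm p, (heQ _).1 (by rw [MulEquiv.apply_symm_apply]; exact hp), ?_, h2⟩
        show D.f (e (e.symm p)) = _
        rw [MulEquiv.apply_symm_apply]; exact h1
      inter := fun g => by rw [hQmap]; exact D.inter g }
  have hf1 : ∀ a, D'.f (a, 1) = D.f (a, 1) := fun a => by
    show D.f (e (a, 1)) = _
    rw [he, map_one]
  have hf2 : ∀ a, D'.f (1, a) = S.p * D.f (a, 1) * S.p⁻¹ := fun a => (hσ a).symm
  have hsplit : ∀ p : Pr, D'.f p = D'.f (p.1, 1) * D'.f (1, p.2) := fun p => by rw [← map_mul]; simp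
  have hswap : ∀ p : Pr, S.p * D'.f p * S.p⁻¹ = D'.f (p.2, p.1) := by
    intro p
    have hb : S.p * D'.f (1, p.2) * S.p⁻¹ = D'.f (p.2, 1) := by
      rw [hf1]; exact hback p.2
    rw [show p = ((p.1, 1) : Pr) * (1, p.2) by simp, D'.conj_mul', hb, hf1,
      show S.p * D.f (p.1, 1) * S.p⁻¹ = D'.f (1, p.1) from (hf2 _).symm, ← map_mul]
    simp
  -- the fixing element
  set x := S.p * S.q with hx
  obtain ⟨a, -, b, -, pa, -, pb, -, -, hxi, -, hxj, -⟩ := S.pq_out
  rw [← hx] at hxi hxj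
  have hxz : Commute x D.z := S.p_z.mul_left S.q_z
  have hxt : Commute x D.t := S.p_t.mul_left S.q_t
  have hpxp : S.p * x * S.p⁻¹ = x * D.t := by
    have h1 : S.p * x * S.p⁻¹ = x⁻¹ := by
      rw [hx, hpi]
      refine eq_inv_of_mul_eq_one_left ?_
      calc S.p * (S.p * S.q) * S.p * (S.p * S.q) = (S.p * S.p) * S.q * (S.p * S.p) * S.q := by group
        _ = 1 := by rw [S.p_sq, one_mul, mul_one, S.q_sq]
    rw [h1]
    refine inv_eq_of_mul_eq_one_right ?_
    rw [← mul_assoc, hx, S.pq_sq, D.t_sq]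
  have hxi' : x * D'.f (SL23.qi, 1) * x⁻¹ = D'.f (a, 1) := by rw [hf1, hf1, hxi]
  have hxj' : x * D'.f (SL23.qj, 1) * x⁻¹ = D'.f (b, 1) := by rw [hf1, hf1, hxj]
  have htconj : ∀ y : SL23, x * D'.f (1, y) * x⁻¹ =
      S.p * (x * (D.t * D.f (y, 1) * D.t⁻¹) * x⁻¹) * S.p⁻¹ := by
    intro y
    rw [hf2]
    calc x * (S.p * D.f (y, 1) * S.p⁻¹) * x⁻¹
        = S.p * ((S.p⁻¹ * x * S.p) * D.f (y, 1) * (S.p⁻¹ * x * S.p)⁻¹) * S.p⁻¹ := by group
      _ = S.p * ((x * D.t) * D.f (y, 1) * (x * D.t)⁻¹) * S.p⁻¹ := by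
        have : S.p⁻¹ * x * S.p = x * D.t := by
          rw [← hpxp, hpi]
        rw [this]
      _ = _ := by group
  have hti : D.t * D.f (SL23.qi, 1) * D.t⁻¹ = D.f (SL23.qi, 1) := by
    rw [Hyp.t, ← map_inv, ← map_mul, ← map_mul, D.eq_iff]; decide +kernel
  have htj : D.t * D.f (SL23.qj, 1) * D.t⁻¹ = D.f (SL23.qj * SL23.neg, 1) := by
    rw [Hyp.t, ← map_inv, ← map_mul, ← map_mul, D.eq_iff]; decide +kernel
  have hxi2 : x * D'.f (1, SL23.qi) * x⁻¹ = D'.f (1, a) := by
    rw [htconj, hti, hxi, hf2]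
  have hxj2 : x * D'.f (1, SL23.qj) * x⁻¹ = D'.f (1, b * SL23.neg) := by
    rw [htconj, htj, hf2]
    congr 2
    rw [show ((SL23.qj * SL23.neg, 1) : Pr) = (SL23.qj, 1) * (SL23.neg, 1) by simp, D.conj_mul', hxj, D.f_neg,
      hxz.eq, mul_inv_cancel_right, ← D.f_neg, ← map_mul]
    simp
  obtain ⟨r1, u1, w1⟩ := SL23.outer_fix a b pa pb
  obtain ⟨r2, u2, w2⟩ := SL23.outer_fix a (b * SL23.neg) pa (SL23.pm_mul_neg b pb)
  set T := D'.f (r1.1, r2.1) * x with hT
  have hTz : Commute T D'.z := (D'.f_comm _).mul_left hxz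
  have hTgen : ∀ (y : Pr) (y' : Pr), x * D'.f y * x⁻¹ = D'.f y' → T * D'.f y * T⁻¹ = D'.f ((r1.1, r2.1) * y' * (r1.1, r2.1)⁻¹) := by
    intro y y' h
    rw [map_mul, map_mul, map_inv, ← h, hT]; group
  have hTi1 : T * D'.f (SL23.qi, 1) * T⁻¹ = D'.f (SL23.flip SL23.qi, 1) := by
    rw [hTgen _ _ hxi']; exact congrArg D'.f (Prod.ext (by simpa using u1) (by simp))
  have hTj1 : T * D'.f (SL23.qj, 1) * T⁻¹ = D'.f (SL23.flip SL23.qj, 1) := by
    rw [hTgen _ _ hxj']; exact congrArg D'.f (Prod.ext (by simpa using w1) (by simp))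
  have hTi2 : T * D'.f (1, SL23.qi) * T⁻¹ = D'.f (1, SL23.flip SL23.qi) := by
    rw [hTgen _ _ hxi2]; exact congrArg D'.f (Prod.ext (by simp) (by simpa using u2))
  have hTj2 : T * D'.f (1, SL23.qj) * T⁻¹ = D'.f (1, SL23.flip SL23.qj) := by
    rw [hTgen _ _ hxj2]; exact congrArg D'.f (Prod.ext (by simp) (by simpa using w2))
  have hTconj : ∀ p : Pr, T * D'.f p * T⁻¹ = D'.f (SL23.flip p.1, SL23.flip p.2) := by
    have key : ∀ s : Bool, T * D'.f (side s SL23.qi) * T⁻¹ = D'.f (side s (SL23.flip SL23.qi)) →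
        T * D'.f (side s SL23.qj) * T⁻¹ = D'.f (side s (SL23.flip SL23.qj)) →
        ∀ y, T * D'.f (side s y) * T⁻¹ = D'.f (side s (SL23.flip y)) := by
      intro s hi hj y
      obtain ⟨r, h1, -⟩ := D'.side_image hTz s
      obtain ⟨α, hα⟩ := D'.exists_hom s r h1
      have hr : r = s := by
        by_contra hne
        have h := (hα SL23.qi).symm.trans hi
        have h' := (hα SL23.qj).symm.trans hj
        have hcm : Commute (D'.f (side r (α SL23.qi))) (D'.f (side s (SL23.flip SL23.qj))) := by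
          rw [show s = !r from (show ∀ a b : Bool, ¬ a = b → b = !a from by decide) r s hne]
          exact D'.side_comm r _ _
        rw [h] at hcm
        have := hcm.eq
        rw [← map_mul, ← map_mul, ← side_mul, ← side_mul] at this
        exact SL23.flip_gens.2.2 (D'.side_inj this)
      subst hr
      rw [hα, flip_ext (D'.side_inj ((hα _).symm.trans hi)) (D'.side_inj ((hα _).symm.trans hj))]
    intro p
    have h1 := key true hTi1 hTj1 p.1
    have h2 := key false hTi2 hTj2 p.2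
    rw [show p = ((p.1, 1) : Pr) * (1, p.2) by simp, D'.conj_mul']
    change T * D'.f (p.1, 1) * T⁻¹ = D'.f (SL23.flip p.1, 1) at h1
    change T * D'.f (1, p.2) * T⁻¹ = D'.f (1, SL23.flip p.2) at h2
    rw [h1, h2, ← map_mul]; simp
  -- `t` in the new coordinates
  obtain ⟨τ, hτ⟩ : ∃ τ : Bool, D'.f (SL23.qi, if τ then SL23.qi else SL23.qi * SL23.neg) = D.t := by
    have hpt : D'.f (SL23.qi, SL23.qi) = D.t ∨ D'.f (SL23.qi, SL23.qi) = D.t * D.z := by
      have h1 : Equ (SL23.qi, σ SL23.qi) (SL23.qi, SL23.qi) ∨ Equ (SL23.qi, σ SL23.qi) ((SL23.qi, SL23.qi) * (SL23.neg, 1)) := by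
        obtain ⟨r, r1', r2'⟩ := D.side_image S.p_z true
        obtain ⟨w, hw⟩ := r2' SL23.qi
        have hr : r = false := by
          cases r
          · rfl
          · exfalso
            obtain ⟨x1, hx1⟩ := r1' SL23.qj
            have hx1' : S.p * D.f (SL23.qj, 1) * S.p⁻¹ = D.f (side true x1) := hx1
            have hcm : Commute (S.p * D.f (SL23.qi, 1) * S.p⁻¹) (S.p * D.f (SL23.qj, 1) * S.p⁻¹) := by
              rw [show S.p * D.f (SL23.qi, 1) * S.p⁻¹ = D.f (1, σ SL23.qi) from hσ _, hx1']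
              exact D.side_comm false _ x1
            have h0 := hcm.eq
            rw [← D.conj_mul', ← D.conj_mul', mul_left_inj, mul_right_inj] at h0
            exact absurd (D.side_inj (s := true) (by simpa [side] using h0) :
              SL23.qi * SL23.qj = SL23.qj * SL23.qi) (by decide +kernel)
        subst hr
        have hw' : S.p * D.f (1, SL23.qi) * S.p⁻¹ = D.f (w, 1) := hw
        have ht : D.f (w, σ SL23.qi) = D.t := by
          have := S.p_t.eq
          calc D.f (w, σ SL23.qi) = D.f (w, 1) * D.f (1, σ SL23.qi) := by rw [← map_mul]; simp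
            _ = S.p * D.f ((1, SL23.qi) * (SL23.qi, 1)) * S.p⁻¹ := by
              rw [D.conj_mul', hw', show S.p * D.f (SL23.qi, 1) * S.p⁻¹ = D.f (1, σ SL23.qi) from hσ _]
            _ = S.p * D.t * S.p⁻¹ := by
              rw [show ((1, SL23.qi) : Pr) * (SL23.qi, 1) = (SL23.qi, SL23.qi) from Prod.ext (one_mul _) (mul_one _)]
              rfl
            _ = D.t := by rw [this, mul_inv_cancel_right]
        rcases D.eq_iff.1 ht with h | h
        · exact Or.inl (Or.inl (Prod.ext rfl (congrArg Prod.snd h :)))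
        · refine Or.inr (Or.inr (Prod.ext ?_ ?_))
          · show SL23.qi = SL23.qi * SL23.neg * SL23.neg; decide +kernel
          · have h2 := (congrArg Prod.snd h :)
            simpa using h2
      rcases h1 with h | h
      · exact Or.inl (D.eq_iff.2 h)
      · right
        show D.f (e (SL23.qi, SL23.qi)) = _
        rw [he, D.eq_iff.2 h, map_mul, D.f_neg]; rfl
    rcases hpt with h | h
    · exact ⟨true, h⟩
    · refine ⟨false, ?_⟩
      rw [show ((SL23.qi, if false = true then SL23.qi else SL23.qi * SL23.neg) : Pr) =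
        (SL23.qi, SL23.qi) * (1, SL23.neg) from Prod.ext (mul_one _).symm rfl, map_mul, h, D'.f_neg', mul_assoc,
        show D.z * D'.z = 1 from D.z_sq, mul_one]
  have hτt : τ = true := by
    by_contra hne
    have hf : τ = false := by simpa using hne
    subst hf
    simp only [Bool.false_eq_true, if_false] at hτ
    have hσi : σ SL23.qk * σ SL23.qk = SL23.neg := by
      rw [← map_mul, show SL23.qk * SL23.qk = SL23.neg by decide +kernel, hneg]
    have hpm : SL23.PM (σ SL23.qi) SL23.qi := by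
      have h1 : D.f (SL23.qi, σ (SL23.qi * SL23.neg)) = D.t := hτ
      rcases D.eq_iff.1 h1 with h | h
      · right
        have h2 : σ (SL23.qi * SL23.neg) = SL23.qi := (congrArg Prod.snd h :)
        rw [map_mul, hneg] at h2
        conv_rhs => rw [← h2]
        rw [mul_assoc, show SL23.neg * SL23.neg = 1 by decide +kernel, mul_one]
      · exact absurd (show SL23.qi = SL23.qi * SL23.neg from (congrArg Prod.fst h :)) (by decide +kernel)
    have hnc : σ SL23.qk * SL23.qi ≠ SL23.qi * σ SL23.qk := by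
      intro h
      have h2 : σ SL23.qk * σ SL23.qi = σ SL23.qi * σ SL23.qk := by
        rcases hpm with hq | hq <;> rw [hq]
        · exact h
        · rw [← mul_assoc, h, mul_assoc, ← SL23.neg_comm, ← mul_assoc]
      rw [← map_mul, ← map_mul] at h2
      exact absurd (hinj h2) (by decide +kernel)
    have hsw : S.p * D'.f (SL23.qj, SL23.qk) * S.p⁻¹ = D.t * D'.f (SL23.qj, SL23.qk) := by
      rw [hswap, ← hτ, ← map_mul, D'.eq_iff]; exact tau_model
    have hfk : D'.f (SL23.qj, SL23.qk) = D.f (SL23.qj, σ SL23.qk) := rfl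
    rw [hfk] at hsw
    rcases sigma_model _ hσi hnc with h | h
    · exact S.p_comm _ h hsw
    · refine S.p_comm _ h ?_
      rw [show ((SL23.qj, σ SL23.qk * SL23.neg) : Pr) = (SL23.qj, σ SL23.qk) * (1, SL23.neg) by simp, D.conj_mul',
        map_mul, hsw, D.f_neg', S.p_z.eq, mul_inv_cancel_right, mul_assoc]
  subst hτt
  simp only [if_true] at hτ
  set t' : Pr := (SL23.qi, SL23.qi) with ht'
  -- the square and the conjugate
  have hTT : T * T = D'.f ((SL23.flip r1.1, SL23.flip r2.1) * (r1.1, r2.1) * t') := by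
    rw [map_mul, map_mul, hτ, ← hTconj (r1.1, r2.1), show D.t = x * x from S.pq_sq.symm, hT]; group
  have hpT : S.p * T * S.p⁻¹ = D'.f ((r2.1, r1.1) * t' * (r1.1, r2.1)⁻¹) * T := by
    rw [map_mul, map_mul, map_inv, hτ, hT, show S.p * (D'.f (r1.1, r2.1) * x) * S.p⁻¹ =
      S.p * D'.f (r1.1, r2.1) * S.p⁻¹ * (S.p * x * S.p⁻¹) by group, hswap, hpxp, hxt.eq]
    group
  have hflip : ∀ y : Pr, T * T * D'.f y * (T * T)⁻¹ = D'.f y := by
    intro y
    rw [show T * T * D'.f y * (T * T)⁻¹ = T * (T * D'.f y * T⁻¹) * T⁻¹ by group, hTconj, hTconj]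
    simp only [SL23.flip_flip]
  have hTT2 : T * T = 1 ∨ T * T = D'.z := D'.cent_Qm (hTz.mul_left hTz) (fun y _ => by
    show _ * _ = _ * _
    exact mul_inv_eq_iff_eq_mul.1 (hflip y))
  have hsamep : ∀ y ∈ Qs, S.p * T * S.p⁻¹ * D'.f y * (S.p * T * S.p⁻¹)⁻¹ = T * D'.f y * T⁻¹ := by
    intro y _
    rw [show S.p * T * S.p⁻¹ * D'.f y * (S.p * T * S.p⁻¹)⁻¹ = S.p * (T * (S.p⁻¹ * D'.f y * S.p) * T⁻¹) * S.p⁻¹ by group,
      show S.p⁻¹ * D'.f y * S.p = S.p * D'.f y * S.p⁻¹ by rw [hpi], hswap, hTconj, hswap, hTconj]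
  have hpT2 := D'.eq_of_conj_eq (((show Commute S.p D'.z from S.p_z).mul_left hTz).mul_left
      (show Commute S.p⁻¹ D'.z from S.p_z.inv_left)) hTz hsamep
  have hmodel := frame_model r1 r2
    (by
      rcases hTT2 with h | h
      · exact Or.inl (D'.eq_iff.1 (by rw [map_one]; exact hTT.symm.trans h))
      · exact Or.inr (D'.eq_iff.1 (by rw [D'.f_neg]; exact hTT.symm.trans h)))
    (by
      rcases hpT2 with h | h
      · refine Or.inl (D'.eq_iff.1 ?_)
        rw [map_one]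
        exact mul_eq_right.1 (hpT.symm.trans h)
      · refine Or.inr (D'.eq_iff.1 ?_)
        rw [D'.f_neg]
        refine mul_right_cancel (b := T) ?_
        rw [← hTz.eq]
        exact hpT.symm.trans h)
  have hT2 : T * T = D'.z := by rw [hTT, D'.eq_iff.2 hmodel.1, D'.f_neg]
  have hpTp : S.p * T * S.p = T * D'.z := by
    have h : S.p * T * S.p⁻¹ = T * D'.z := by rw [hpT, D'.eq_iff.2 hmodel.2, D'.f_neg, hTz.eq]
    rwa [hpi] at h
  -- the coset of the second involution
  have hsT : S.p * T * (S.p * T) = 1 := by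
    calc S.p * T * (S.p * T) = S.p * T * S.p * T := by group
      _ = T * D'.z * T := by rw [hpTp]
      _ = T * T * D'.z := by rw [mul_assoc T D'.z T, ← hTz.eq, ← mul_assoc]
      _ = 1 := by rw [hT2]; exact D.z_sq
  have hsTconj : ∀ y : Pr, S.p * T * D'.f y * (S.p * T)⁻¹ = D'.f (SL23.flip y.2, SL23.flip y.1) := by
    intro y
    rw [show S.p * T * D'.f y * (S.p * T)⁻¹ = S.p * (T * D'.f y * T⁻¹) * S.p⁻¹ by group, hTconj, hswap]
  have hq : S.q = D'.f (r2.1, r1.1)⁻¹ * (S.p * T) := by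
    have h : D'.f (r2.1, r1.1) = S.p * D'.f (r1.1, r2.1) * S.p⁻¹ := (hswap (r1.1, r2.1)).symm
    rw [map_inv, h, hT, hx]
    calc S.q = (S.p * S.p) * S.q := by rw [S.p_sq, one_mul]
      _ = _ := by group
  have hw : D'.f ((r2.1, r1.1)⁻¹ * (SL23.flip ((r1.1 : SL23)⁻¹), SL23.flip ((r2.1 : SL23)⁻¹))) = 1 := by
    have h0 := S.q_sq
    rw [hq, show D'.f (r2.1, r1.1)⁻¹ * (S.p * T) * (D'.f (r2.1, r1.1)⁻¹ * (S.p * T)) =
      D'.f (r2.1, r1.1)⁻¹ * (S.p * T * D'.f (r2.1, r1.1)⁻¹ * (S.p * T)⁻¹) * (S.p * T * (S.p * T)) by group,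
      hsT, mul_one, hsTconj, ← map_mul] at h0
    exact h0
  have hclass : IsConj D'.z (S.p * T) ∧ IsConj D'.z (S.p * T * D'.z) := by
    obtain ⟨hz1, hz2⟩ := S.q_conj
    have hconjq : ∃ u : G, Commute u D'.z ∧ (u * S.q * u⁻¹ = S.p * T ∨ u * S.q * u⁻¹ = S.p * T * D'.z) := by
      have hm := sT_model (r2.1)⁻¹ (r1.1)⁻¹ (D'.eq_iff.1 (hw.trans (map_one _).symm))
      have hc : D'.f ((r2.1 : SL23)⁻¹, 1) * (S.p * T) * (D'.f ((r2.1 : SL23)⁻¹, 1))⁻¹ =
          D'.f ((r2.1 : SL23)⁻¹, (SL23.flip (r2.1 : SL23)⁻¹)⁻¹) * (S.p * T) := by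
        rw [show D'.f ((r2.1 : SL23)⁻¹, 1) * (S.p * T) * (D'.f ((r2.1 : SL23)⁻¹, 1))⁻¹ =
          D'.f ((r2.1 : SL23)⁻¹, 1) * (S.p * T * (D'.f ((r2.1 : SL23)⁻¹, 1))⁻¹ * (S.p * T)⁻¹) * (S.p * T) by group,
          ← map_inv D'.f, hsTconj, ← map_mul]
        congr 2
        refine Prod.ext ?_ ?_
        · simp [show SL23.flip 1 = 1 from SL23.flipHom.map_one]
        · show (1 : SL23) * SL23.flip ((r2.1 : SL23)⁻¹)⁻¹ = _
          rw [one_mul]; exact map_inv SL23.flipHom _
      have hq' : S.q = D'.f ((r2.1 : SL23)⁻¹, (r1.1 : SL23)⁻¹) * (S.p * T) := hq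
      refine ⟨(D'.f ((r2.1 : SL23)⁻¹, 1))⁻¹, (D'.f_comm _).inv_left, ?_⟩
      rcases hm with h | h
      · left
        rw [hq', D'.eq_iff.2 h, ← hc]; group
      · right
        suffices h0 : D'.f ((r2.1 : SL23)⁻¹, 1) * (S.p * T * D'.z) * (D'.f ((r2.1 : SL23)⁻¹, 1))⁻¹ = S.q by
          rw [← h0]; group
        rw [hq', D'.eq_iff.2 h, map_mul, D'.f_neg]
        calc D'.f ((r2.1 : SL23)⁻¹, 1) * (S.p * T * D'.z) * (D'.f ((r2.1 : SL23)⁻¹, 1))⁻¹
            = D'.f ((r2.1 : SL23)⁻¹, 1) * (S.p * T) * (D'.z * (D'.f ((r2.1 : SL23)⁻¹, 1))⁻¹) := by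
              simp only [mul_assoc]
          _ = D'.f ((r2.1 : SL23)⁻¹, 1) * (S.p * T) * (D'.f ((r2.1 : SL23)⁻¹, 1))⁻¹ * D'.z := by
              rw [((D'.f_comm _).inv_left).symm.eq, ← mul_assoc]
          _ = _ := by
              rw [hc, mul_assoc, ((show Commute S.p D'.z from S.p_z).mul_left hTz).eq, ← mul_assoc]
    have hzs : (S.p * T * D'.z) * D'.z = S.p * T := by rw [mul_assoc, D'.z_sq, mul_one]
    have hqz' : ∀ c : G, c * S.q * c⁻¹ = S.p * T ∨ c * S.q * c⁻¹ = S.p * T * D'.z → Commute c D'.z →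
        IsConj D'.z (S.p * T) ∧ IsConj D'.z (S.p * T * D'.z) := by
      intro c hc hcz
      have hshift : c * (S.q * D.z) * c⁻¹ = c * S.q * c⁻¹ * D'.z := by
        rw [show c * (S.q * D.z) * c⁻¹ = c * S.q * (D.z * c⁻¹) by group,
          ← ((show Commute c D.z from hcz).inv_left).eq]
        show _ = c * S.q * c⁻¹ * D.z
        group
      have h1 : IsConj D'.z (c * S.q * c⁻¹) := hz1.trans (isConj_iff.2 ⟨c, rfl⟩)
      have h2 : IsConj D'.z (c * (S.q * D.z) * c⁻¹) := hz2.trans (isConj_iff.2 ⟨c, rfl⟩)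
      rw [hshift] at h2
      rcases hc with hc | hc <;> rw [hc] at h1 h2
      · exact ⟨h1, h2⟩
      · rw [hzs] at h2; exact ⟨h2, h1⟩
    obtain ⟨u, huz, hu⟩ := hconjq
    exact hqz' u hu huz
  exact ⟨⟨D', S.p, T, S.p_sq, S.p_z, hswap, hTz, hTconj, hT2, hpTp, S.p_conj, hclass⟩, rfl⟩

end Hyp

end CfsgLib.U43Type
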