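import Cfsg.Agent.Lib.U43Type.Coords

/-!
Groups of `U₄(3)` type: the class of the image of `(j, j)` under an element interchanging `z` and `t`.
-/

set_option autoImplicit false
set_option linter.style.haveILetI false

namespace CfsgLib.U43Type

open Subgroup

universe u

namespace SL23

theorem comm_t : ∀ a : SL23, (Equ ((a, a⁻¹) * (qi, qi)) ((qi, qi) * (a, a⁻¹)) → a ^ 4 = 1) ∧
    (Equ ((a, (flip a)⁻¹) * (qi, qi)) ((qi, qi) * (a, (flip a)⁻¹)) → a ^ 4 = 1) := by decide +kernel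

theorem q8_class : ∀ a : SL23, a ^ 4 = 1 →
    (∃ v : Fin 4, Equ (a, (flip a)⁻¹) (![1, (neg, 1), (qi, qi), (qi, qi) * (neg, 1)] v) ∨
      Equ (a, (flip a)⁻¹) (![1, (neg, 1), (qi, qi), (qi, qi) * (neg, 1)] v * (qj, qk))) ∧
    (∃ v : Fin 4, Equ (a, a⁻¹) (![1, (neg, 1), (qi, qi), (qi, qi) * (neg, 1)] v) ∨
      Equ (a, a⁻¹) (![1, (neg, 1), (qi, qi), (qi, qi) * (neg, 1)] v * (qj, qj))) := by decide +kernel

theorem jk_not : ¬ Equ ((qj, qj) * (qj, qk)) 1 ∧ ¬ Equ ((qj, qj) * (qj, qk)) (neg, 1) ∧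
    ¬ Equ ((qj, qj) * (qj, qk)) (qi, qi) ∧ ¬ Equ ((qj, qj) * (qj, qk)) ((qi, qi) * (neg, 1)) := by decide +kernel

end SL23

namespace Frame

variable {G : Type u} [Group G] (F : Frame G)

/-- The four-group `⟨z, t⟩`. -/
def VV : Subgroup G where
  carrier := {x | x = 1 ∨ x = F.D.z ∨ x = F.D.t ∨ x = F.D.t * F.D.z}
  one_mem' := Or.inl rfl
  mul_mem' := by
    intro x y hx hy
    have hz := F.D.z_sq
    have ht := F.D.t_sq
    have hc := F.D.t_z.eq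
    have hzt : F.D.z * (F.D.t * F.D.z) = F.D.t := by rw [hc, ← mul_assoc, hz, one_mul]
    have htz : F.D.t * F.D.z * F.D.z = F.D.t := by rw [mul_assoc, hz, mul_one]
    have htt : F.D.t * (F.D.t * F.D.z) = F.D.z := by rw [← mul_assoc, ht, one_mul]
    have htzt : F.D.t * F.D.z * F.D.t = F.D.z := by rw [hc, mul_assoc, ht, mul_one]
    have hsq : F.D.t * F.D.z * (F.D.t * F.D.z) = 1 := by rw [← mul_assoc, htzt, hz]
    rcases hx with rfl | rfl | rfl | rfl <;> rcases hy with rfl | rfl | rfl | rfl <;>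
      simp [hz, ht, hzt, htz, htt, htzt, hsq, ← hc]
  inv_mem' := by
    intro x hx
    rcases hx with rfl | rfl | rfl | rfl
    · exact Or.inl inv_one
    · exact Or.inr (Or.inl (inv_eq_of_mul_eq_one_right F.D.z_sq))
    · exact Or.inr (Or.inr (Or.inl (inv_eq_of_mul_eq_one_right F.D.t_sq)))
    · refine Or.inr (Or.inr (Or.inr (inv_eq_of_mul_eq_one_right ?_)))
      rw [F.D.t_z.symm.mul_mul_mul_comm, F.D.t_sq, F.D.z_sq, one_mul]

theorem v_image (v : Fin 4) :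
    F.D.f (![1, (SL23.neg, 1), (SL23.qi, SL23.qi), (SL23.qi, SL23.qi) * (SL23.neg, 1)] v) ∈ F.VV := by
  fin_cases v
  · exact Or.inl (map_one _)
  · exact Or.inr (Or.inl F.D.f_neg)
  · exact Or.inr (Or.inr (Or.inl rfl))
  · exact Or.inr (Or.inr (Or.inr (by
      show F.D.f ((SL23.qi, SL23.qi) * (SL23.neg, 1)) = _
      rw [map_mul, F.D.f_neg]; rfl)))

variable [Finite G]

/-- Involutions of the two swapping cosets which centralize `t`. -/
theorem invol_DD {w : G} (hz : Commute w F.D.z) (ht : Commute w F.D.t) (h2 : w * w = 1) (hQ : w ∉ F.D.Qm) :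
    (∃ c : G, Commute c F.D.z ∧ (w = c * F.s * c⁻¹ ∨ w = c * (F.s * F.D.z) * c⁻¹) ∧
      ∃ v ∈ F.VV, w = v * F.s ∨ w = v * F.D.f (SL23.qj, SL23.qj) * F.s) ∨
    ∃ v ∈ F.VV, w = v * (F.s * F.T) ∨ w = v * F.D.f (SL23.qj, SL23.qk) * (F.s * F.T) := by
  obtain ⟨r, i, rfl⟩ := F.decomp hz
  rw [F.sq_eq] at h2
  have hcomm : ∀ (p : Pr) (y : G), Commute y F.D.t → Commute (F.D.f p * y) F.D.t →
      Equ (p * (SL23.qi, SL23.qi)) ((SL23.qi, SL23.qi) * p) := by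
    intro p y hy h
    rw [← F.D.eq_iff, map_mul, map_mul]
    have h' := h.mul_left hy.inv_left
    rw [mul_inv_cancel_right] at h'
    exact h'.eq
  obtain ⟨-, hq1, -, hq3⟩ := F.cos_sq
  have hst : Commute F.s F.D.t := by
    show _ = _
    rw [← mul_inv_eq_iff_eq_mul, Hyp.t, F.s_conj]
  have hTt : Commute F.T F.D.t := by
    show _ = _
    rw [← mul_inv_eq_iff_eq_mul, Hyp.t, F.T_conj, F.D.eq_iff]
    decide +kernel
  fin_cases i
  · exfalso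
    change F.D.f (r * r) * (1 * 1) = 1 at h2
    rw [mul_one, mul_one] at h2
    refine hQ ?_
    show F.D.f r * 1 ∈ _
    rw [mul_one]
    rcases (F.D.ker _).1 h2 with h | h
    · exact F.D.mem_Qm ⟨SL23.sq_four _ (Or.inl (congrArg Prod.fst h :)), SL23.sq_four _ (Or.inl (congrArg Prod.snd h :))⟩
    · exact F.D.mem_Qm ⟨SL23.sq_four _ (Or.inr (congrArg Prod.fst h :)), SL23.sq_four _ (Or.inr (congrArg Prod.snd h :))⟩
  · exfalso
    change F.D.f (r * (SL23.flip r.1, SL23.flip r.2)) * (F.T * F.T) = 1 at h2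
    rw [F.T_sq, ← F.D.f_neg, ← map_mul, F.D.ker] at h2
    rcases h2 with h | h
    · have := (congrArg Prod.fst h :)
      simp only [Prod.fst_mul, Prod.fst_one] at this
      exact SL23.flip_sq r.1 ((mul_eq_one_iff_eq_inv.1 this).trans (by decide +kernel))
    · have := (congrArg Prod.snd h :)
      simp only [Prod.snd_mul, mul_one] at this
      exact SL23.flip_sq r.2 this
  · left
    change F.D.f (r * (r.2, r.1)) * (F.s * F.s) = 1 at h2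
    rw [F.s_sq, mul_one, ← map_one F.D.f, F.D.eq_iff] at h2
    change Commute (F.D.f r * F.s) F.D.t at ht
    show ∃ c : G, _ ∧ (F.D.f r * F.s = _ ∨ F.D.f r * F.s = _) ∧ _
    have hr : F.D.f r = F.D.f (r.1, r.1⁻¹) ∨ F.D.f r = F.D.f (r.1, r.1⁻¹) * F.D.z := by
      rcases SL23.swap_model _ _ h2 with h | h
      · exact Or.inl (F.D.eq_iff.2 h)
      · exact Or.inr (by rw [F.D.eq_iff.2 h, map_mul, F.D.f_neg])
    have hconj : F.D.f (r.1, 1) * F.s * (F.D.f (r.1, 1))⁻¹ = F.D.f (r.1, r.1⁻¹) * F.s := by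
      rw [show F.D.f (r.1, 1) * F.s * (F.D.f (r.1, 1))⁻¹ =
        F.D.f (r.1, 1) * (F.s * (F.D.f (r.1, 1))⁻¹ * F.s⁻¹) * F.s by group, ← map_inv F.D.f, F.s_conj, ← map_mul]
      congr 2
      exact Prod.ext (by simp) (by simp)
    have ha : r.1 ^ 4 = 1 := by
      refine (SL23.comm_t r.1).1 ?_
      rcases hr with h | h
      · exact hcomm _ F.s hst (h ▸ ht)
      · refine hcomm _ (F.D.z * F.s) (F.D.t_z.symm.mul_left hst) ?_
        rw [← mul_assoc, ← h]; exact ht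
    obtain ⟨v, hv⟩ := (SL23.q8_class r.1 ha).2
    have hv' : ∃ u ∈ F.VV, F.D.f (r.1, r.1⁻¹) = u ∨ F.D.f (r.1, r.1⁻¹) = u * F.D.f (SL23.qj, SL23.qj) := by
      refine ⟨_, F.v_image v, ?_⟩
      rcases hv with h | h
      · exact Or.inl (F.D.eq_iff.2 h)
      · exact Or.inr ((F.D.eq_iff.2 h).trans (map_mul _ _ _))
    obtain ⟨u, hu, hu'⟩ := hv'
    have hzV : F.D.z ∈ F.VV := Or.inr (Or.inl rfl)
    refine ⟨F.D.f (r.1, 1), F.D.f_comm _, ?_, ?_⟩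
    · rcases hr with h | h
      · exact Or.inl (by rw [h, hconj])
      · right
        rw [h, show F.D.f (r.1, 1) * (F.s * F.D.z) * (F.D.f (r.1, 1))⁻¹ =
          F.D.f (r.1, 1) * F.s * (F.D.z * (F.D.f (r.1, 1))⁻¹) by group, (F.D.f_comm (r.1, 1)).inv_left.symm.eq,
          ← mul_assoc, hconj, mul_assoc, mul_assoc, F.s_z.eq]
    · rcases hr with h | h <;> rcases hu' with h' | h'
      · exact ⟨u, hu, Or.inl (by rw [h, h']; rfl)⟩
      · exact ⟨u, hu, Or.inr (by rw [h, h']; rfl)⟩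
      · exact ⟨u * F.D.z, mul_mem hu hzV, Or.inl (by rw [h, h']; rfl)⟩
      · exact ⟨u * F.D.z, mul_mem hu hzV, Or.inr (by
          rw [h, h', mul_assoc u, (F.D.f_comm _).eq, ← mul_assoc u]; rfl)⟩
  · right
    change F.D.f (r * (SL23.flip r.2, SL23.flip r.1)) * (F.cos 3 * F.cos 3) = 1 at h2
    rw [hq3, mul_one, ← map_one F.D.f, F.D.eq_iff] at h2
    change Commute (F.D.f r * (F.s * F.T)) F.D.t at ht
    show ∃ v ∈ F.VV, F.D.f r * (F.s * F.T) = _ ∨ F.D.f r * (F.s * F.T) = _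
    have hr : F.D.f r = F.D.f (r.1, (SL23.flip r.1)⁻¹) ∨
        F.D.f r = F.D.f (r.1, (SL23.flip r.1)⁻¹) * F.D.z := by
      rcases sT_model _ _ h2 with h | h
      · exact Or.inl (F.D.eq_iff.2 h)
      · exact Or.inr (by rw [F.D.eq_iff.2 h, map_mul, F.D.f_neg])
    have hsT : Commute (F.s * F.T) F.D.t := hst.mul_left hTt
    have ha : r.1 ^ 4 = 1 := by
      refine (SL23.comm_t r.1).2 ?_
      rcases hr with h | h
      · exact hcomm _ _ hsT (h ▸ ht)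
      · refine hcomm _ (F.D.z * (F.s * F.T)) (F.D.t_z.symm.mul_left hsT) ?_
        rw [← mul_assoc, ← h]; exact ht
    obtain ⟨v, hv⟩ := (SL23.q8_class r.1 ha).1
    have hzV : F.D.z ∈ F.VV := Or.inr (Or.inl rfl)
    have hV := F.v_image v
    rcases hr with h | h <;> rcases hv with h' | h'
    · exact ⟨_, hV, Or.inl (by rw [h, F.D.eq_iff.2 h'])⟩
    · exact ⟨_, hV, Or.inr (by rw [h, F.D.eq_iff.2 h', map_mul])⟩
    · exact ⟨_, mul_mem hV hzV, Or.inl (by rw [h, F.D.eq_iff.2 h'])⟩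
    · exact ⟨_, mul_mem hV hzV, Or.inr (by
        rw [h, F.D.eq_iff.2 h', map_mul, mul_assoc (F.D.f _), (F.D.f_comm _).eq, ← mul_assoc (F.D.f _)])⟩

/-- An element interchanging `z` and `t` sends `(j, j)` to a conjugate of `s` or `s z`. -/
theorem exists_good_swap : ∃ g c : G, g * F.D.z * g⁻¹ = F.D.t ∧ g * F.D.t * g⁻¹ = F.D.z ∧ Commute c F.D.z ∧
    (g⁻¹ * F.D.f (SL23.qj, SL23.qj) * g = c * F.s * c⁻¹ ∨
      g⁻¹ * F.D.f (SL23.qj, SL23.qj) * g = c * (F.s * F.D.z) * c⁻¹) := by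
  classical
  obtain ⟨g, hgz, hgt⟩ := F.D.exists_swap
  obtain ⟨hED, hEE, hwD, hww, hwQ, -⟩ := F.D.e_facts hgz hgt (b := SL23.qj) (Or.inl rfl)
  obtain ⟨hFD, hFF, huD, huu, huQ, -⟩ := F.D.e_facts hgz hgt (b := SL23.qk) (Or.inr rfl)
  set E := F.D.f (SL23.qj, SL23.qj) with hE
  set Fk := F.D.f (SL23.qj, SL23.qk) with hFk
  obtain ⟨hwz, hwt⟩ := F.D.mem_DD.1 hwD
  rcases F.invol_DD hwz hwt hww hwQ with ⟨c, hc, hcw, -⟩ | ⟨v0, hv0, hw0⟩
  · refine ⟨g⁻¹, c, by rw [← hgt]; group, by rw [← hgz]; group, hc, ?_⟩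
    rw [inv_inv]; exact hcw
  exfalso
  obtain ⟨huz, hut⟩ := F.D.mem_DD.1 huD
  have hVD : F.VV ≤ F.D.DD := by
    intro x hx
    rcases hx with rfl | rfl | rfl | rfl
    · exact one_mem _
    · exact F.D.mem_DD.2 ⟨Commute.refl _, F.D.t_z.symm⟩
    · exact F.D.mem_DD.2 ⟨F.D.t_z, Commute.refl _⟩
    · exact F.D.DD.mul_mem (F.D.mem_DD.2 ⟨F.D.t_z, Commute.refl _⟩)
        (F.D.mem_DD.2 ⟨Commute.refl _, F.D.t_z.symm⟩)
  haveI hn : (F.VV.subgroupOf F.D.DD).Normal := ⟨fun a ha x => by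
    rw [mem_subgroupOf]
    show (x : G) * (a : G) * (x : G)⁻¹ ∈ F.VV
    rw [← (F.D.V_comm hgz hgt (mem_subgroupOf.1 ha) x.2).eq, mul_inv_cancel_right]
    exact mem_subgroupOf.1 ha⟩
  let π := QuotientGroup.mk' (F.VV.subgroupOf F.D.DD)
  have hcm : ∀ x y : F.D.DD, π x * π y = π y * π x := by
    intro x y
    have h : π (x * y * x⁻¹ * y⁻¹) = 1 :=
      (QuotientGroup.eq_one_iff _).2 (mem_subgroupOf.2 (show _ ∈ F.VV from F.D.comm_DD hgz hgt x.2 y.2))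
    rw [map_mul, map_mul, map_mul, map_inv, map_inv, mul_inv_eq_one, mul_inv_eq_iff_eq_mul] at h
    exact h
  have hVone : ∀ (v : G) (hv : v ∈ F.VV), π ⟨v, hVD hv⟩ = 1 := fun v hv =>
    (QuotientGroup.eq_one_iff (N := F.VV.subgroupOf F.D.DD) (⟨v, hVD hv⟩ : F.D.DD)).2 (mem_subgroupOf.2 hv)
  -- the product of the two is not in the first intersection
  have hu0 : ∃ v ∈ F.VV, g * Fk * g⁻¹ = v * F.s ∨ g * Fk * g⁻¹ = v * E * F.s := by
    rcases F.invol_DD huz hut huu huQ with ⟨c, -, -, h⟩ | ⟨v1, hv1, h1⟩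
    · exact h
    exfalso
    have hQ : g * (E * Fk) * g⁻¹ ∈ F.D.Qm := by
      have hEQ : E ∈ F.D.Qm := F.D.mem_Qm (by rw [mem_Qs]; decide +kernel)
      have hFQ : Fk ∈ F.D.Qm := F.D.mem_Qm (by rw [mem_Qs]; decide +kernel)
      have hVQ : F.VV ≤ F.D.Qm := by
        intro x hx
        rcases hx with rfl | rfl | rfl | rfl
        exacts [one_mem _, F.D.z_mem, F.D.t_mem, F.D.Qm.mul_mem F.D.t_mem F.D.z_mem]
      have hform : ∀ w : G, ∀ v ∈ F.VV, (w = v * (F.s * F.T) ∨ w = v * Fk * (F.s * F.T)) →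
          ∃ q ∈ F.D.Qm, w = q * (F.s * F.T) := by
        rintro w v hv (rfl | rfl)
        · exact ⟨v, hVQ hv, rfl⟩
        · exact ⟨v * Fk, F.D.Qm.mul_mem (hVQ hv) hFQ, rfl⟩
      obtain ⟨q, hq, hqe⟩ := hform _ v0 hv0 hw0
      obtain ⟨q', hq', hqe'⟩ := hform _ v1 hv1 h1
      rw [show g * (E * Fk) * g⁻¹ = g * E * g⁻¹ * (g * Fk * g⁻¹)⁻¹ * ((g * Fk * g⁻¹) * (g * Fk * g⁻¹)) by group,
        huu, mul_one, hqe, hqe', mul_inv_rev, mul_assoc q, ← mul_assoc (F.s * F.T), mul_inv_cancel, one_mul]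
      exact F.D.Qm.mul_mem hq (F.D.Qm.inv_mem hq')
    have hEF : E * Fk ∈ F.D.Qm := F.D.Qm.mul_mem (F.D.mem_Qm (by rw [mem_Qs]; decide +kernel))
      (F.D.mem_Qm (by rw [mem_Qs]; decide +kernel))
    have hk : g⁻¹ * (g * (E * Fk) * g⁻¹) * g = E * Fk := by group
    obtain ⟨n1, n2, n3, n4⟩ := SL23.jk_not
    have e1 : g⁻¹ * F.D.t * g = F.D.z := by rw [← hgz]; group
    have e2 : g⁻¹ * F.D.z * g = F.D.t := by rw [← hgt]; group
    have he : F.D.f ((SL23.qj, SL23.qj) * (SL23.qj, SL23.qk)) = E * Fk := map_mul _ _ _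
    rcases F.D.V_eq hgz hgt hQ (by rw [hk]; exact hEF) with h | h | h | h <;> rw [h] at hk
    · exact n1 (F.D.eq_iff.1 (he.trans (hk.symm.trans (by rw [map_one]; group))))
    · exact n3 (F.D.eq_iff.1 (he.trans (hk.symm.trans e2)))
    · exact n2 (F.D.eq_iff.1 (he.trans (hk.symm.trans (e1.trans F.D.f_neg.symm))))
    · exact n4 (F.D.eq_iff.1 (he.trans (hk.symm.trans (by
        rw [map_mul, F.D.f_neg]
        calc g⁻¹ * (F.D.t * F.D.z) * g = g⁻¹ * F.D.t * g * (g⁻¹ * F.D.z * g) := by group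
          _ = F.D.z * F.D.t := by rw [e1, e2]
          _ = _ := F.D.t_z.eq.symm))))
  obtain ⟨v1, hv1, hu1⟩ := hu0
  -- the element of order three
  set k := F.D.f (SL23.qj, 1) with hk
  have hkz : k * F.D.z * k⁻¹ = F.D.z := by rw [(F.D.f_comm _).eq, mul_inv_cancel_right]
  have hkt : k * F.D.t * k⁻¹ = F.D.t * F.D.z := by
    rw [hk, Hyp.t, ← F.D.f_neg, ← map_inv, ← map_mul, ← map_mul, ← map_mul, F.D.eq_iff]; decide +kernel
  set n := k * g with hndef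
  have hnz : n * F.D.z * n⁻¹ = F.D.t * F.D.z := by
    rw [hndef, show k * g * F.D.z * (k * g)⁻¹ = k * (g * F.D.z * g⁻¹) * k⁻¹ by group, hgz, hkt]
  have hnt : n * F.D.t * n⁻¹ = F.D.z := by
    rw [hndef, show k * g * F.D.t * (k * g)⁻¹ = k * (g * F.D.t * g⁻¹) * k⁻¹ by group, hgt, hkz]
  have hnDD : ∀ {x : G}, x ∈ F.D.DD → n * x * n⁻¹ ∈ F.D.DD := by
    intro x hx
    obtain ⟨h1, h2⟩ := F.D.mem_DD.1 hx
    have h1' := h1.map (MulAut.conj n).toMonoidHom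
    have h2' := h2.map (MulAut.conj n).toMonoidHom
    simp only [MulEquiv.coe_toMonoidHom, MulAut.conj_apply, hnz, hnt] at h1' h2'
    refine F.D.mem_DD.2 ⟨h2', ?_⟩
    have := h1'.mul_right h2'
    rwa [show F.D.t * F.D.z * F.D.z = F.D.t by rw [mul_assoc, F.D.z_sq, mul_one]] at this
  let Φ : F.D.DD →* F.D.DD :=
    { toFun := fun x => ⟨n * x * n⁻¹, hnDD x.2⟩
      map_one' := Subtype.ext (by simp)
      map_mul' := fun x y => Subtype.ext (by simp [mul_assoc]) }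
  have hVn : ∀ v ∈ F.VV, n * v * n⁻¹ ∈ F.VV := by
    intro v hv
    rcases hv with rfl | rfl | rfl | rfl
    · exact Or.inl (by group)
    · rw [hnz]; exact Or.inr (Or.inr (Or.inr rfl))
    · rw [hnt]; exact Or.inr (Or.inl rfl)
    · refine Or.inr (Or.inr (Or.inl ?_))
      rw [show n * (F.D.t * F.D.z) * n⁻¹ = n * F.D.t * n⁻¹ * (n * F.D.z * n⁻¹) by group, hnt, hnz,
        ← mul_assoc, ← F.D.t_z.eq, mul_assoc, F.D.z_sq, mul_one]
  let ψ := QuotientGroup.map (F.VV.subgroupOf F.D.DD) (F.VV.subgroupOf F.D.DD) Φ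
    (fun x hx => mem_comap.2 (mem_subgroupOf.2 (hVn _ (mem_subgroupOf.1 hx))))
  have hψ : ∀ x : F.D.DD, ψ (π x) = π (Φ x) := fun x => rfl
  have hsD : F.s ∈ F.D.DD := by
    refine F.D.mem_DD.2 ⟨F.s_z, ?_⟩
    show _ = _
    rw [← mul_inv_eq_iff_eq_mul, Hyp.t, F.s_conj]
  have hsTD : F.s * F.T ∈ F.D.DD := by
    refine F.D.DD.mul_mem hsD (F.D.mem_DD.2 ⟨F.T_z, ?_⟩)
    show _ = _
    rw [← mul_inv_eq_iff_eq_mul, Hyp.t, F.T_conj, F.D.eq_iff]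
    decide +kernel
  let e : F.D.DD := ⟨E, hED⟩
  let f : F.D.DD := ⟨Fk, hFD⟩
  let σ : F.D.DD := ⟨F.s, hsD⟩
  let τ : F.D.DD := ⟨F.s * F.T, hsTD⟩
  have hggD : g * g ∈ F.D.DD := F.D.mem_DD.2 ⟨by
      show g * g * F.D.z = F.D.z * (g * g)
      calc g * g * F.D.z = g * (g * F.D.z * g⁻¹) * g⁻¹ * (g * g) := by group
        _ = _ := by rw [hgz, hgt], by
      show g * g * F.D.t = F.D.t * (g * g)
      calc g * g * F.D.t = g * (g * F.D.t * g⁻¹) * g⁻¹ * (g * g) := by group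
        _ = _ := by rw [hgt, hgz]⟩
  have hkE : k * E * k⁻¹ = E := by
    rw [hk, hE, ← map_inv, ← map_mul, ← map_mul, F.D.eq_iff]; decide +kernel
  have hkF : k * Fk * k⁻¹ = Fk := by
    rw [hk, hFk, ← map_inv, ← map_mul, ← map_mul, F.D.eq_iff]; decide +kernel
  have hks : k * F.s * k⁻¹ = E * F.D.z * F.s := by
    rw [show k * F.s * k⁻¹ = k * (F.s * k⁻¹ * F.s⁻¹) * F.s by group, hk, ← map_inv F.D.f, F.s_conj, ← map_mul, hE,
      ← F.D.f_neg, ← map_mul]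
    congr 1
    rw [F.D.eq_iff]; decide +kernel
  have hksT : k * (F.s * F.T) * k⁻¹ = Fk * (F.s * F.T) := by
    have hc := F.cos_conj 3 (SL23.qj, 1)⁻¹
    change F.s * F.T * _ * (F.s * F.T)⁻¹ = _ at hc
    rw [show k * (F.s * F.T) * k⁻¹ = k * (F.s * F.T * k⁻¹ * (F.s * F.T)⁻¹) * (F.s * F.T) by group, hk,
      ← map_inv F.D.f, hc, ← map_mul, hFk]
    congr 1
    rw [F.D.eq_iff]; decide +kernel
  have same : ∀ a b : F.D.DD, (∃ v ∈ F.VV, (a : G) = v * b) → π a = π b := by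
    rintro a b ⟨v, hv, h⟩
    rw [show a = ⟨v, hVD hv⟩ * b from Subtype.ext h, map_mul, hVone v hv, one_mul]
  have hVk : ∀ v ∈ F.VV, k * v * k⁻¹ ∈ F.VV := by
    intro v hv
    rcases hv with rfl | rfl | rfl | rfl
    · exact Or.inl (by group)
    · rw [hkz]; exact Or.inr (Or.inl rfl)
    · rw [hkt]; exact Or.inr (Or.inr (Or.inr rfl))
    · refine Or.inr (Or.inr (Or.inl ?_))
      rw [show k * (F.D.t * F.D.z) * k⁻¹ = k * F.D.t * k⁻¹ * (k * F.D.z * k⁻¹) by group, hkt, hkz,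
        mul_assoc, F.D.z_sq, mul_one]
  have hVg : ∀ v ∈ F.VV, g * v * g⁻¹ ∈ F.VV := by
    intro v hv
    rcases hv with rfl | rfl | rfl | rfl
    · exact Or.inl (by group)
    · rw [hgz]; exact Or.inr (Or.inr (Or.inl rfl))
    · rw [hgt]; exact Or.inr (Or.inl rfl)
    · refine Or.inr (Or.inr (Or.inr ?_))
      rw [show g * (F.D.t * F.D.z) * g⁻¹ = g * F.D.t * g⁻¹ * (g * F.D.z * g⁻¹) by group, hgt, hgz,
        F.D.t_z.eq]
  -- the preimage of a basis element of the second intersection goes to the basis element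
  have back : ∀ (A : G) (hA : A ∈ F.D.DD) (x : F.D.DD), k * A * k⁻¹ = A →
      (∃ v ∈ F.VV, g * A * g⁻¹ = v * x) → π (Φ x) = π ⟨A, hA⟩ := by
    rintro A hA x hkA ⟨v, hv, hx⟩
    refine same _ _ ⟨k * (g * v⁻¹ * g⁻¹) * k⁻¹ * (k * (g * g * A * (g * g)⁻¹ * A⁻¹) * k⁻¹), ?_, ?_⟩
    · exact F.VV.mul_mem (hVk _ (hVg _ (F.VV.inv_mem hv))) (hVk _ (F.D.comm_DD hgz hgt hggD hA))
    · show n * (x : G) * n⁻¹ = _
      calc n * (x : G) * n⁻¹
          = k * (g * v⁻¹ * g⁻¹) * k⁻¹ * (k * (g * g * A * (g * g)⁻¹ * A⁻¹) * k⁻¹) * (k * A * k⁻¹) := by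
            rw [show (x : G) = v⁻¹ * (g * A * g⁻¹) by rw [hx]; group, hndef]; group
        _ = _ := by rw [hkA]
  obtain ⟨X, hX, hX'⟩ : ∃ X : F.D.DD, (∃ v ∈ F.VV, g * E * g⁻¹ = v * X) ∧
      ∃ v ∈ F.VV, k * (X : G) * k⁻¹ = v * (Fk * X) := by
    rcases hw0 with h | h
    · exact ⟨τ, ⟨v0, hv0, h⟩, 1, F.VV.one_mem, by rw [one_mul]; exact hksT⟩
    · refine ⟨f * τ, ⟨v0, hv0, by rw [h, mul_assoc]; rfl⟩, 1, F.VV.one_mem, ?_⟩
      show k * (Fk * (F.s * F.T)) * k⁻¹ = 1 * (Fk * (Fk * (F.s * F.T)))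
      rw [show k * (Fk * (F.s * F.T)) * k⁻¹ = k * Fk * k⁻¹ * (k * (F.s * F.T) * k⁻¹) by group, hkF, hksT, one_mul]
  obtain ⟨Y, hY, hY'⟩ : ∃ Y : F.D.DD, (∃ v ∈ F.VV, g * Fk * g⁻¹ = v * Y) ∧
      ∃ v ∈ F.VV, k * (Y : G) * k⁻¹ = v * (E * Y) := by
    rcases hu1 with h | h
    · exact ⟨σ, ⟨v1, hv1, h⟩, F.D.z, Or.inr (Or.inl rfl), by
        rw [hks, ← mul_assoc F.D.z E, (show Commute E F.D.z from F.D.f_comm _).eq]⟩
    · refine ⟨e * σ, ⟨v1, hv1, by rw [h, mul_assoc]; rfl⟩, F.D.z, Or.inr (Or.inl rfl), ?_⟩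
      show k * (E * F.s) * k⁻¹ = F.D.z * (E * (E * F.s))
      rw [show k * (E * F.s) * k⁻¹ = k * E * k⁻¹ * (k * F.s * k⁻¹) by group, hkE, hks, ← mul_assoc E, ← mul_assoc E,
        hEE, one_mul, ← mul_assoc E E, hEE, one_mul]
  have fwd : ∀ (A B : G) (hA : A ∈ F.D.DD) (hB : B ∈ F.D.DD) (x : F.D.DD),
      (∃ v ∈ F.VV, g * A * g⁻¹ = v * x) → (∃ v ∈ F.VV, k * (x : G) * k⁻¹ = v * (B * x)) →
      π (Φ ⟨A, hA⟩) = π ⟨B, hB⟩ * π x := by
    rintro A B hA hB x ⟨v, hv, hx⟩ ⟨v', hv', hx'⟩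
    rw [← map_mul]
    refine same _ _ ⟨k * v * k⁻¹ * v', F.VV.mul_mem (hVk _ hv) hv', ?_⟩
    show n * A * n⁻¹ = k * v * k⁻¹ * v' * (B * x)
    calc n * A * n⁻¹ = k * (g * A * g⁻¹) * k⁻¹ := by rw [hndef]; group
      _ = k * v * k⁻¹ * (k * (x : G) * k⁻¹) := by rw [hx]; group
      _ = _ := by rw [hx', ← mul_assoc]
  have he1 : ψ (π e) = π f * π X := by rw [hψ]; exact fwd E Fk hED hFD X hX hX'
  have hf1 : ψ (π f) = π e * π Y := by rw [hψ]; exact fwd Fk E hFD hED Y hY hY'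
  have hX1 : ψ (π X) = π e := by rw [hψ]; exact back E hED X hkE hX
  have hY1 : ψ (π Y) = π f := by rw [hψ]; exact back Fk hFD Y hkF hY
  have hsqe : π e * π e = 1 := by
    rw [← map_mul]
    exact (congrArg π (Subtype.ext hEE : e * e = 1)).trans (map_one π)
  have h3 : ψ (ψ (ψ (π e))) = π f := by
    rw [he1, map_mul, hf1, hX1, hcm e Y, mul_assoc, hsqe, mul_one, hY1]
  have hn3 : n * n * n ∈ F.D.DD := by
    have hmz : ∀ x : G, n * n * n * x * (n * n * n)⁻¹ = n * (n * (n * x * n⁻¹) * n⁻¹) * n⁻¹ := fun x => by group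
    have htz : n * (F.D.t * F.D.z) * n⁻¹ = F.D.t := by
      rw [show n * (F.D.t * F.D.z) * n⁻¹ = n * F.D.t * n⁻¹ * (n * F.D.z * n⁻¹) by group, hnt, hnz,
        ← mul_assoc, ← F.D.t_z.eq, mul_assoc, F.D.z_sq, mul_one]
    refine F.D.mem_DD.2 ⟨?_, ?_⟩ <;> refine mul_inv_eq_iff_eq_mul.1 ?_ <;> rw [hmz]
    · rw [hnz, htz, hnt]
    · rw [hnt, hnz, htz]
  have h3' : ψ (ψ (ψ (π e))) = π e := by
    rw [hψ, hψ, hψ, show Φ (Φ (Φ e)) = ⟨n * n * n, hn3⟩ * e * (⟨n * n * n, hn3⟩)⁻¹ from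
      Subtype.ext (by show n * (n * (n * E * n⁻¹) * n⁻¹) * n⁻¹ = n * n * n * E * (n * n * n)⁻¹; group)]
    rw [map_mul, map_mul, map_inv, hcm, mul_inv_cancel_right]
  have hef : π (e * f) = 1 := by rw [map_mul, ← h3, h3', hsqe]
  have hmem : E * Fk ∈ F.VV := mem_subgroupOf.1 ((QuotientGroup.eq_one_iff _).1 hef)
  obtain ⟨n1, n2, n3, n4⟩ := SL23.jk_not
  have he : F.D.f ((SL23.qj, SL23.qj) * (SL23.qj, SL23.qk)) = E * Fk := map_mul _ _ _
  rcases hmem with h | h | h | h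
  · exact n1 (F.D.eq_iff.1 (he.trans (h.trans (map_one _).symm)))
  · exact n2 (F.D.eq_iff.1 (he.trans (h.trans F.D.f_neg.symm)))
  · exact n3 (F.D.eq_iff.1 (he.trans h))
  · exact n4 (F.D.eq_iff.1 (he.trans (h.trans (by rw [map_mul, F.D.f_neg]; rfl))))

end Frame

end CfsgLib.U43Type
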