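import Cfsg.Agent.Lib.U43Type.Bound
import Cfsg.Agent.Lib.SchurTable.UFourThreeModel

/-!
The matrices of the letters of the presentation of `U₄(3)`.
-/

set_option autoImplicit false
set_option maxRecDepth 100000

namespace CfsgLib.U43Type.Model

open Matrix CfsgLib.SchurTable.UFourThree
open CfsgLib.CosetEnum (linv)

/-- The matrices of the letters. -/
def mats : List (List ℕ) :=
  [[4, 7, 0, 0, 8, 7, 0, 0, 0, 0, 1, 0, 0, 0, 0, 1],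
   [7, 5, 0, 0, 4, 4, 0, 0, 0, 0, 1, 0, 0, 0, 0, 1],
   [7, 7, 0, 0, 8, 4, 0, 0, 0, 0, 1, 0, 0, 0, 0, 1],
   [4, 5, 0, 0, 4, 7, 0, 0, 0, 0, 1, 0, 0, 0, 0, 1],
   [0, 6, 0, 0, 1, 0, 0, 0, 0, 0, 0, 1, 0, 0, 3, 0],
   [0, 1, 0, 0, 3, 0, 0, 0, 0, 0, 0, 6, 0, 0, 1, 0],
   [0, 0, 1, 0, 0, 0, 0, 1, 1, 0, 0, 0, 0, 1, 0, 0],
   [1, 0, 3, 7, 0, 1, 8, 6, 3, 7, 1, 0, 8, 6, 0, 1],
   [1, 0, 6, 5, 0, 1, 4, 3, 6, 5, 1, 0, 4, 3, 0, 1],
   [1, 0, 2, 4, 0, 1, 7, 1, 1, 8, 1, 0, 5, 2, 0, 1],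
   [1, 0, 1, 8, 0, 1, 5, 2, 2, 4, 1, 0, 7, 1, 0, 1],
   [1, 0, 1, 4, 0, 1, 5, 1, 2, 4, 1, 0, 5, 2, 0, 1],
   [1, 0, 2, 8, 0, 1, 7, 2, 1, 8, 1, 0, 7, 1, 0, 1],
   [1, 0, 3, 5, 0, 1, 8, 3, 3, 7, 1, 0, 4, 3, 0, 1],
   [1, 0, 6, 7, 0, 1, 4, 6, 6, 5, 1, 0, 8, 6, 0, 1]]

theorem mats_unitary : ∀ l : Fin 15, (toM (mats.getD l.val []))ᵀ * (toM (mats.getD l.val [])).map (· ^ 3) = 1 := by
  decide +kernel

theorem mats_det : ∀ l : Fin 15, (toM (mats.getD l.val [])).det = 1 := by decide +kernel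

theorem inv_check : ∀ x : Fin 15, linv Top.ip x.val < 15 ∧
    ([1, 3, 2, 6].any fun c => decide (evalM mats [linv Top.ip x.val, x.val] = scalC c)) = true := by decide +kernel

theorem rels_check : (Top.rels.all fun w => (w.all fun r => Nat.blt r 15) &&
    ([1, 3, 2, 6].any fun c => decide (evalM mats w = scalC c))) = true := by decide +kernel

/-- Words giving the two tabulated generators. -/
def genWords : List (List ℕ) := [[5, 6, 9, 12, 2, 11, 8, 13], [2, 7, 9, 0, 3, 11, 2, 6, 1]]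

theorem gens_check : ∀ l : Fin 2, ((genWords.getD l.val []).all fun r => Nat.blt r 15) = true ∧
    ([1, 3, 2, 6].any fun c => decide (evalM mats (genWords.getD l.val []) = prodC (scalC c) (genRows.getD l.val []))) = true := by
  decide +kernel

theorem gen_det : ∀ l : Fin 2, (toM (genRows.getD l.val [])).det = 1 := by decide +kernel

end CfsgLib.U43Type.Model
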