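import Cfsg.Agent.Lib.U43Type.Bound
import Cfsg.Agent.Lib.SchurTable.UFourThreeModel
import Cfsg.Agent.Lib.U43Type.ModelData

/-!
The presentation of `U₄(3)` holds in the projective special unitary group, and its letters generate.
-/

set_option autoImplicit false
set_option maxRecDepth 100000

namespace CfsgLib.U43Type.Model

open Matrix CfsgLib.SchurTable.UFourThree
open CfsgLib.CosetEnum (linv)

universe u

variable {F : Type u} [Field F] [Fintype F]

theorem exists_su_det (φ : NineF →+* F) (N : Matrix (Fin 4) (Fin 4) NineF) (hu : Nᵀ * N.map (· ^ 3) = 1)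
    (hd : N.det = 1) : ∃ m : Cfsg.SU 4 F 3, mt m = φ.mapMatrix N := by
  haveI : Fact (Nat.Prime 3) := ⟨Nat.prime_three⟩
  haveI : CharP F 3 := (CharP.charP_iff_prime_eq_zero Nat.prime_three).2
    (by rw [← map_natCast φ, three_eq_zero, map_zero])
  set M := φ.mapMatrix N with hM
  have hMd : M.det = 1 := by rw [hM, ← RingHom.map_det, hd, map_one]
  refine ⟨⟨⟨M, hMd⟩, ?_⟩, rfl⟩
  have h : Mᵀ * M.map (· ^ 3) = 1 := by
    have := congrArg φ.mapMatrix hu
    rw [map_mul, map_one] at this
    rw [← this, hM]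
    congr 1
    ext i j
    simp
  show ∀ u v, Cfsg.hermForm 4 F 3 (M *ᵥ u) (M *ᵥ v) = Cfsg.hermForm 4 F 3 u v
  intro u v
  have key : ∀ x y : Fin 4 → F, Cfsg.hermForm 4 F 3 x y = x ⬝ᵥ (fun k => y k ^ 3) := fun _ _ => rfl
  have hv : (fun k => (M *ᵥ v) k ^ 3) = M.map (· ^ 3) *ᵥ (fun k => v k ^ 3) := by
    funext k
    simp only [Matrix.mulVec, dotProduct, Matrix.map_apply]
    rw [sum_pow_char]
    exact Finset.sum_congr rfl fun j _ => mul_pow _ _ _
  rw [key, key, hv, ← Matrix.vecMul_transpose M u, ← Matrix.dotProduct_mulVec,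
    Matrix.mulVec_mulVec, h, Matrix.one_mulVec]

theorem scalar_map (φ : NineF →+* F) (c : Fin 9) :
    φ.mapMatrix (toM (scalC c.val)) = Matrix.scalar (Fin 4) (φ (dec9 c.val)) := by
  rw [toM_scal]
  ext i j
  rcases eq_or_ne i j with rfl | h <;> simp [*]

theorem cases_lt : ∀ c ∈ [1, 3, 2, 6], c < 9 := by decide

/-- The presentation holds in the projective group and the letters generate it. -/
theorem exists_sys (hF : Fintype.card F = 9) :
    ∃ g : ℕ → Cfsg.PSU 4 F 3, IsSys g ∧ span g = ⊤ := by
  obtain ⟨φ, hφ⟩ := exists_hom hF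
  have hF' : Fintype.card F = 3 ^ 2 := hF
  choose L hL using fun l : Fin 15 => exists_su_det φ _ (mats_unitary l) (mats_det l)
  let gens : ℕ → Cfsg.SU 4 F 3 := fun x => if h : x < 15 then L ⟨x, h⟩ else 1
  let π : Cfsg.SU 4 F 3 →* Cfsg.PSU 4 F 3 := QuotientGroup.mk' _
  have hword : ∀ w : List ℕ, (w.all fun r => Nat.blt r 15) = true →
      mt (wordVal gens w) = φ.mapMatrix (toM (evalM mats w)) := by
    intro w
    induction w with
    | nil => intro _; simp [wordVal, evalM, toM_one]
    | cons l w ih =>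
      intro h
      simp only [List.all_cons, Bool.and_eq_true, Nat.blt_eq] at h
      rw [show wordVal gens (l :: w) = gens l * wordVal gens w by simp [wordVal], map_mul, ih h.2, evalM, toM_prodC,
        map_mul, show gens l = L ⟨l, h.1⟩ from dif_pos h.1, hL]
  have hπ : ∀ (l : List ℕ), wordVal (fun x => π (gens x)) l = π (wordVal gens l) := fun l => by
    simp [wordVal, map_list_prod, List.map_map, Function.comp_def]
  have hkill : ∀ w : List ℕ, (w.all fun r => Nat.blt r 15) = true →
      ([1, 3, 2, 6].any fun c => decide (evalM mats w = scalC c)) = true → π (wordVal gens w) = 1 := by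
    intro w hw hc
    simp only [List.any_eq_true, decide_eq_true_eq] at hc
    obtain ⟨c, hc, he⟩ := hc
    refine (QuotientGroup.eq_one_iff _).2 (Subgroup.mem_center_iff.2 fun m => mt_injective ?_)
    rw [map_mul, map_mul, hword w hw, he, scalar_map φ ⟨c, cases_lt c hc⟩]
    exact (Matrix.scalar_commute _ (fun r => Commute.all _ r) _).eq.symm
  set g : ℕ → Cfsg.PSU 4 F 3 := fun x => π (gens x) with hg
  have hsys : IsSys g := by
    refine ⟨fun x hx => ?_, fun x hx => ?_, fun l hl => ?_⟩
    · show π (gens x) = 1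
      rw [show gens x = 1 from dif_neg (by omega), map_one]
    · rcases Nat.lt_or_ge x 15 with hx' | hx'
      · obtain ⟨h1, h2⟩ := inv_check ⟨x, hx'⟩
        have h3 := hkill [linv Top.ip x, x] (by simp [hx', h1]) h2
        rw [← hπ] at h3
        simp only [wordVal, List.map_cons, List.map_nil, List.prod_cons, List.prod_nil, mul_one] at h3
        exact eq_inv_of_mul_eq_one_left h3
      · obtain rfl : x = 15 := by omega
        rw [show linv Top.ip 15 = 15 by decide +kernel]
        show π (gens 15) = (π (gens 15))⁻¹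
        rw [show gens 15 = 1 from dif_neg (by omega), map_one, inv_one]
    · have h := List.all_eq_true.1 rels_check l hl
      simp only [Bool.and_eq_true] at h
      rw [hπ]
      exact hkill l h.1 h.2
  refine ⟨g, hsys, ?_⟩
  -- the tabulated generators lie in the span
  set R := (span g).comap π with hR
  have hgen : ∀ l : Fin 2, ∃ Xl ∈ R, mt Xl = φ.mapMatrix (toM (genRows.getD l.val [])) := by
    intro l
    obtain ⟨h1, h2⟩ := gens_check l
    simp only [List.any_eq_true, decide_eq_true_eq] at h2
    obtain ⟨c, hc, he⟩ := h2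
    obtain ⟨Xl, hXl⟩ := exists_su_det φ (toM (genRows.getD l.val [])) (gen_unitary l) (gen_det l)
    refine ⟨Xl, ?_, hXl⟩
    show π Xl ∈ span g
    have hW : π (wordVal gens (genWords.getD l.val [])) = π Xl := by
      set W := wordVal gens (genWords.getD l.val []) with hW
      have hWX : mt W = Matrix.scalar (Fin 4) (φ (dec9 c)) * mt Xl := by
        rw [hW, hword _ h1, he, toM_prodC, map_mul, scalar_map φ ⟨c, cases_lt c hc⟩, hXl]
      have e : mt (W * Xl⁻¹) = Matrix.scalar (Fin 4) (φ (dec9 c)) := by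
        rw [map_mul, hWX, mul_assoc, ← map_mul, mul_inv_cancel, map_one, mul_one]
      have hWc : W * Xl⁻¹ ∈ Subgroup.center (Cfsg.SU 4 F 3) := Subgroup.mem_center_iff.2 fun m => mt_injective (by
        rw [map_mul mt m, map_mul mt (W * Xl⁻¹) m, e]
        exact (Matrix.scalar_commute _ (fun r => Commute.all _ r) _).eq.symm)
      exact QuotientGroup.eq_iff_div_mem.2 (by rw [div_eq_mul_inv]; exact hWc)
    rw [← hW, ← hπ]
    exact wordVal_mem fun x hx => by
      have := List.all_eq_true.1 h1 x hx
      simp only [Nat.blt_eq] at this; omega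
  obtain ⟨X, hXR, hX⟩ := hgen 0
  obtain ⟨Y, hYR, hY⟩ := hgen 1
  have horb : ∀ j < 2240, ∃ h ∈ R, mt h *ᵥ (φ ∘ decV (isoVec.get 16 0)) = φ ∘ decV (isoVec.get 16 j) := by
    intro j
    induction j using Nat.strong_induction_on with
    | _ j ih =>
    intro hj
    by_cases h0 : j = 0
    · subst h0
      exact ⟨1, one_mem _, by simp⟩
    obtain ⟨hp, he⟩ := checkOrbit_spec _ _ orbit_true j (by omega) (by omega)
    obtain ⟨h, hh, hhv⟩ := ih _ hp (by omega)
    have hstep : ∀ k, k < 2 → ∃ Z ∈ R, mt Z = φ.mapMatrix (toM (genRows.getD k [])) := by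
      intro k hk
      interval_cases k
      exacts [⟨X, hXR, hX⟩, ⟨Y, hYR, hY⟩]
    obtain ⟨Z, hZR, hZ⟩ := hstep (isoPar.get 20 j % 2) (by omega)
    refine ⟨Z * h, mul_mem hZR hh, ?_⟩
    rw [map_mul, ← Matrix.mulVec_mulVec, hhv, hZ, ← he, decV_actC]
    funext i
    exact (RingHom.map_mulVec φ _ _ i).symm
  have hwordR : ∀ w : List ℕ, (w.all fun r => Nat.blt r 4) = true →
      ∃ Z ∈ R, mt Z = φ.mapMatrix (toM (evalM genRows w)) := by
    have hev : ∀ (A : List ℕ) (k : ℕ), toM (evalM [A] (List.replicate k 0)) = toM A ^ k := by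
      intro A k
      induction k with
      | zero => rw [pow_zero, List.replicate_zero, evalM, toM_one]
      | succ k ih =>
        rw [List.replicate_succ, evalM, toM_prodC, ih, pow_succ']
        rfl
    intro w
    induction w with
    | nil => intro _; exact ⟨1, one_mem _, by simp [evalM, toM_one]⟩
    | cons l w ih =>
      intro h
      simp only [List.all_cons, Bool.and_eq_true, Nat.blt_eq] at h
      obtain ⟨Z, hZ, hZe⟩ := ih h.2
      obtain ⟨A, hA, hAe⟩ : ∃ A ∈ R, mt A = φ.mapMatrix (toM (genRows.getD l [])) := by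
        have hl := h.1
        interval_cases l
        · exact ⟨X, hXR, hX⟩
        · exact ⟨Y, hYR, hY⟩
        · refine ⟨X ^ 4, pow_mem hXR 4, ?_⟩
          show _ = φ.mapMatrix (toM (evalM [matX] (List.replicate 4 0)))
          rw [hev, map_pow, map_pow, hX]; rfl
        · refine ⟨Y ^ 6, pow_mem hYR 6, ?_⟩
          show _ = φ.mapMatrix (toM (evalM [matY] (List.replicate 6 0)))
          rw [hev, map_pow, map_pow, hY]; rfl
      exact ⟨A * Z, mul_mem hA hZ, by rw [map_mul, hAe, hZe, evalM, toM_prodC, map_mul]⟩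
  have hbase : ∀ c : F, c + c ^ 3 = 0 → ∃ T ∈ R,
      mt T = Cfsg.unitaryTransvection 4 3 (φ ∘ decV (isoVec.get 16 0)) c := by
    intro c hc
    obtain ⟨c, rfl⟩ := hφ.2 c
    have hc' : c + c ^ 3 = 0 := hφ.1 (by rw [map_add, map_pow, map_zero, hc])
    rcases isotropic_coeff c hc' with rfl | hk
    · exact ⟨1, one_mem _, by simp [Cfsg.unitaryTransvection]⟩
    obtain ⟨k, rfl⟩ : ∃ k : Fin 2, dec9 (3 * (k.val + 1)) = c := by
      rcases hk with rfl | rfl
      exacts [⟨0, rfl⟩, ⟨1, rfl⟩]
    obtain ⟨T, hT, hTe⟩ := hwordR (tvWords.getD k.val [])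
      (List.all_eq_true.1 tv_check _ (by fin_cases k <;> simp [tvWords]))
    refine ⟨T, hT, ?_⟩
    rw [hTe, base_tv k]
    ext i j
    simp [Cfsg.unitaryTransvection, Matrix.vecMulVec_apply, Matrix.one_apply, apply_ite φ]
  have hall : R = ⊤ := by
    rw [eq_top_iff, ← CfsgLib.Classical.Herm.su_generated_transvections hF' (n := 4) (by norm_num) (by simp),
      Subgroup.closure_le]
    rintro A ⟨v, c, hv, hA⟩
    by_cases hv0 : v = 0
    · subst hv0
      rw [show A = 1 from mt_injective (by rw [map_one]; exact hA.trans (by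
        ext i j; simp [Cfsg.unitaryTransvection, Matrix.vecMulVec_apply]))]
      exact one_mem _
    have hc : c + c ^ 3 = 0 :=
      (CfsgLib.Classical.Herm.shear_isometry_iff hF' hv0 hv c).1 fun x y => by
        rw [← show mt A = _ from hA]; exact mt_isometry A x y
    choose d hd using fun i => hφ.2 (v i)
    choose a ha using fun i => dec9_surj (d i)
    set code := (a 0).val + 9 * (a 1).val + 81 * (a 2).val + 729 * (a 3).val with hcode
    have hdec : decV code = d := by
      funext i
      rw [← ha i]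
      show dec9 (code / 9 ^ i.val % 9) = _
      congr 1
      have := (a 0).2; have := (a 1).2; have := (a 2).2; have := (a 3).2
      fin_cases i <;> simp [hcode] <;> omega
    have hvd : φ ∘ decV code = v := by rw [hdec]; funext i; exact hd i
    have hn : normC code = 0 := by
      have h1 : φ (dec9 (normC code)) = 0 := by
        rw [dec9_normC, map_sum, ← hv, ← hvd]
        simp [Cfsg.hermForm]
      have h2 : dec9 (normC code) = 0 := hφ.1 (by rw [h1, map_zero])
      have h3 : ∀ n : Fin 9, dec9 n.val = 0 → n.val = 0 := by decide +kernel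
      exact h3 ⟨normC code, addC_lt _ _⟩ h2
    have hne : code ≠ 0 := by
      intro h
      refine hv0 ?_
      rw [← hvd, h]
      funext i
      simp [decV, dec9]
      exact map_zero φ
    obtain ⟨j, hj, hjv⟩ := checkListed_spec _ _ listed_true code (Nat.zero_le _)
      (by have := (a 0).2; have := (a 1).2; have := (a 2).2; have := (a 3).2; omega) hne hn
    obtain ⟨h, hh, hhv⟩ := horb j hj
    obtain ⟨T, hT, hTm⟩ := hbase c hc
    have : A = h * T * h⁻¹ := mt_injective (by
      rw [conj_transvection h T _ c hTm, hhv, hjv, hvd]; exact hA)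
    rw [this]
    exact mul_mem (mul_mem hh hT) (inv_mem hh)
  rw [eq_top_iff]
  intro y _
  obtain ⟨x, rfl⟩ := QuotientGroup.mk_surjective y
  exact (hall ▸ Subgroup.mem_top x : x ∈ R)

end CfsgLib.U43Type.Model
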