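import Cfsg.Agent.Lib.U43Type.Basic
import Mathlib.GroupTheory.GroupAction.Quotient
import Mathlib.GroupTheory.PGroup

/-!
Groups of `U₄(3)` type: the centralizer of a four-group inside `Q`.
-/

set_option autoImplicit false
set_option linter.style.haveILetI false

namespace CfsgLib.U43Type

open Subgroup

/-- The elements of the quaternion group. -/
abbrev Q8 : Type := {a : SL23 // a ^ 4 = 1}

theorem SL23.q8_words : ∀ a : SL23, a ^ 4 = 1 → ∃ m n : Fin 4, a = SL23.qi ^ (m : ℕ) * SL23.qj ^ (n : ℕ) := by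
  decide +kernel

universe u

namespace Hyp

variable {G : Type u} [Group G] (D : Hyp G)

/-- The involution `t`. -/
def t : G := D.f (SL23.qi, SL23.qi)

theorem t_mem : D.t ∈ D.Qm := D.mem_Qm (by rw [mem_Qs]; decide +kernel)

theorem t_z : Commute D.t D.z := D.f_comm _

theorem t_ne : D.t ≠ 1 := fun h => by
  rcases (D.ker _).1 h with h | h <;> exact absurd h (by decide +kernel)

theorem t_ne_z : D.t ≠ D.z := fun h => by
  rw [t, ← D.f_neg, D.eq_iff] at h
  exact absurd h (by decide +kernel)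

theorem t_sq : D.t * D.t = 1 := by
  rw [t, ← map_mul, D.ker]; decide +kernel

theorem qs_invol : ∀ a b : Q8, Equ ((a.1, b.1) * (a.1, b.1)) 1 → ¬ Equ (a.1, b.1) 1 →
    ¬ Equ (a.1, b.1) (SL23.neg, 1) → a.1 * a.1 = SL23.neg ∧ b.1 * b.1 = SL23.neg := by decide +kernel

/-- The non-central involutions of `Q` are conjugate to `t`. -/
theorem invol_conj {x : G} (hx : x ∈ D.Qm) (h2 : x * x = 1) (h1 : x ≠ 1) (hz : x ≠ D.z) :
    ∃ r, D.f r * D.t * (D.f r)⁻¹ = x := by
  obtain ⟨p, hp, rfl⟩ := hx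
  obtain ⟨ha, hb⟩ := qs_invol ⟨p.1, hp.1⟩ ⟨p.2, hp.2⟩ (D.eq_iff.1 (by rw [map_mul, map_one]; exact h2))
    (fun h => h1 ((D.eq_iff.2 h).trans (map_one D.f))) (fun h => hz ((D.eq_iff.2 h).trans D.f_neg))
  obtain ⟨c, hc⟩ := SL23.four_conj _ ha
  obtain ⟨d, hd⟩ := SL23.four_conj _ hb
  exact ⟨(c, d), by rw [t, ← map_inv, ← map_mul, ← map_mul]; exact congrArg D.f (Prod.ext hc hd)⟩

/-- Some element interchanges `z` and `t`. -/
theorem exists_g0 : ∃ g : G, g * D.z * g⁻¹ = D.t := by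
  obtain ⟨g, p, hp, hpg, hne⟩ := D.nwc
  have h1 : g * D.z * g⁻¹ ≠ 1 := fun h => D.z_ne (by rwa [mul_inv_eq_one, mul_eq_left] at h)
  obtain ⟨r, hr⟩ := D.invol_conj (hpg ▸ D.mem_Qm hp)
    (by rw [show g * D.z * g⁻¹ * (g * D.z * g⁻¹) = g * (D.z * D.z) * g⁻¹ by group, D.z_sq]; group) h1 hne
  exact ⟨(D.f r)⁻¹ * g, by
    calc (D.f r)⁻¹ * g * D.z * ((D.f r)⁻¹ * g)⁻¹ = (D.f r)⁻¹ * (g * D.z * g⁻¹) * D.f r := by group
      _ = D.t := by rw [← hr]; group⟩

/-- The centralizer of `z` and `t`. -/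
def DD : Subgroup G := centralizer ({D.z} : Set G) ⊓ centralizer ({D.t} : Set G)

theorem mem_DD {x : G} : x ∈ D.DD ↔ Commute x D.z ∧ Commute x D.t := by
  simp only [DD, Subgroup.mem_inf, mem_centralizer_singleton_iff]; rfl

variable [Finite G]

theorem card_Qm : Nat.card D.Qm = 32 := by
  let φ : Qs →* G := D.f.comp Qs.subtype
  have hr : φ.range = D.Qm := by
    rw [Qm, MonoidHom.range_comp, range_subtype]
  have hk : Nat.card φ.ker = 2 := by
    rw [Nat.card_eq_two_iff]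
    refine ⟨⟨1, one_mem _⟩, ⟨⟨(SL23.neg, SL23.neg), by rw [mem_Qs]; decide +kernel⟩,
      MonoidHom.mem_ker.2 ((D.ker _).2 (Or.inr rfl))⟩, ?_, ?_⟩
    · intro h
      have h' := congrArg (fun x : φ.ker => ((x : Qs) : Pr)) h
      exact absurd (show (1 : Pr) = (SL23.neg, SL23.neg) from h') (by decide +kernel)
    · ext ⟨⟨x, hx⟩, hxk⟩
      simp only [Set.mem_insert_iff, Set.mem_singleton_iff, Set.mem_univ, iff_true]
      rcases (D.ker x).1 hxk with h | h
      · exact Or.inl (Subtype.ext (Subtype.ext h))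
      · exact Or.inr (Subtype.ext (Subtype.ext h))
  have h := Subgroup.card_eq_card_quotient_mul_card_subgroup φ.ker
  rw [hk, card_Qs, Nat.card_congr (QuotientGroup.quotientKerEquivRange φ).toEquiv, hr] at h
  omega

theorem card_DD : Nat.card D.DD = 64 := by
  classical
  letI : MulAction (centralizer ({D.z} : Set G)) G :=
    { smul := fun c x => (c : G) * x * (c : G)⁻¹
      one_smul := fun x => by show (1 : G) * x * (1 : G)⁻¹ = x; group
      mul_smul := fun c d x => by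
        show ((c * d : centralizer ({D.z} : Set G)) : G) * x * ((c * d : centralizer ({D.z} : Set G)) : G)⁻¹ =
          (c : G) * ((d : G) * x * (d : G)⁻¹) * (c : G)⁻¹
        rw [Subgroup.coe_mul]; group }
  have hsm : ∀ (c : centralizer ({D.z} : Set G)) (x : G), c • x = (c : G) * x * (c : G)⁻¹ := fun _ _ => rfl
  have hS : MulAction.stabilizer (centralizer ({D.z} : Set G)) D.t ≃ D.DD :=
    { toFun := fun c => ⟨c.1, D.mem_DD.2 ⟨mem_centralizer_singleton_iff.1 c.1.2, by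
          have := c.2; rw [MulAction.mem_stabilizer_iff, hsm, mul_inv_eq_iff_eq_mul] at this; exact this⟩⟩
      invFun := fun x => ⟨⟨x.1, x.2.1⟩, by
        rw [MulAction.mem_stabilizer_iff, hsm, mul_inv_eq_iff_eq_mul]; exact (D.mem_DD.1 x.2).2⟩
      left_inv := fun _ => rfl
      right_inv := fun _ => rfl }
  let φ : Fin 3 × {a : SL23 // a * a = SL23.neg} → MulAction.orbit (centralizer ({D.z} : Set G)) D.t :=
    fun v => ⟨D.f (![SL23.qi, SL23.qj, SL23.qk] v.1, v.2.1), by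
      obtain ⟨c, hc⟩ := SL23.four_conj (![SL23.qi, SL23.qj, SL23.qk] v.1) (by
        exact (show ∀ x : Fin 3, ![SL23.qi, SL23.qj, SL23.qk] x * ![SL23.qi, SL23.qj, SL23.qk] x = SL23.neg from by decide +kernel) v.1)
      obtain ⟨d, hd⟩ := SL23.four_conj _ v.2.2
      refine ⟨⟨D.f (c, d), mem_centralizer_singleton_iff.2 (D.f_comm _)⟩, ?_⟩
      show D.f (c, d) * D.f (SL23.qi, SL23.qi) * (D.f (c, d))⁻¹ = _
      rw [← map_inv, ← map_mul, ← map_mul]
      exact congrArg D.f (Prod.ext hc hd)⟩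
  have hφ : Function.Bijective φ := by
    constructor
    · rintro ⟨x, a⟩ ⟨y, b⟩ h
      have h' : D.f (![SL23.qi, SL23.qj, SL23.qk] x, a.1) = D.f (![SL23.qi, SL23.qj, SL23.qk] y, b.1) :=
        congrArg Subtype.val h
      rcases D.eq_iff.1 h' with h' | h'
      · obtain rfl := SL23.six_inj x y (Or.inl (congrArg Prod.fst h'))
        exact Prod.ext rfl (Subtype.ext (congrArg Prod.snd h'))
      · obtain rfl := SL23.six_inj x y (Or.inr (congrArg Prod.fst h'))
        exact absurd (left_eq_mul.1 (congrArg Prod.fst h')) (by decide +kernel)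
    · rintro ⟨y, c, rfl⟩
      have hcz : Commute (c : G) D.z := mem_centralizer_singleton_iff.1 c.2
      have hm : (c : G) * D.t * (c : G)⁻¹ ∈ D.Qm := D.Qm_normal hcz D.t_mem
      obtain ⟨p, hp, hpe⟩ := hm
      obtain ⟨ha, hb⟩ := qs_invol ⟨p.1, hp.1⟩ ⟨p.2, hp.2⟩ (D.eq_iff.1 (by
          rw [map_mul, map_one, show D.f (p.1, p.2) = _ from hpe,
            show (c : G) * D.t * (c : G)⁻¹ * ((c : G) * D.t * (c : G)⁻¹) = (c : G) * (D.t * D.t) * (c : G)⁻¹ by group,
            D.t_sq]; group))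
        (fun h => D.t_ne (by
          have h' := hpe.symm.trans ((D.eq_iff.2 h).trans (map_one D.f))
          rwa [mul_inv_eq_one, mul_eq_left] at h'))
        (fun h => D.t_ne_z (by
          have h' := hpe.symm.trans ((D.eq_iff.2 h).trans D.f_neg)
          rw [mul_inv_eq_iff_eq_mul, ← hcz.eq] at h'
          exact mul_left_cancel h'))
      obtain ⟨x, hx | hx⟩ := SL23.six_cases _ ha
      · refine ⟨(x, ⟨p.2, hb⟩), Subtype.ext ?_⟩
        show D.f _ = (c : G) * D.t * (c : G)⁻¹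
        rw [← hpe, ← hx]
      · refine ⟨(x, ⟨p.2 * SL23.neg, neg_six _ hb⟩), Subtype.ext ?_⟩
        show D.f _ = (c : G) * D.t * (c : G)⁻¹
        rw [← hpe]
        exact (D.eq_iff.2 (Or.inr (Prod.ext hx (by
          show p.2 = p.2 * SL23.neg * SL23.neg
          rw [mul_assoc, show SL23.neg * SL23.neg = 1 by decide +kernel, mul_one])))).symm
  have h18 : Nat.card (MulAction.orbit (centralizer ({D.z} : Set G)) D.t) = 18 := by
    rw [← Nat.card_eq_of_bijective φ hφ, Nat.card_prod, Nat.card_fin, Nat.card_eq_fintype_card, SL23.six_card]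
  have h := Nat.card_congr (MulAction.orbitEquivQuotientStabilizer (centralizer ({D.z} : Set G)) D.t)
  have h2 := Subgroup.card_eq_card_quotient_mul_card_subgroup
    (MulAction.stabilizer (centralizer ({D.z} : Set G)) D.t)
  rw [D.card_C, ← h, h18, Nat.card_congr hS] at h2
  omega

/-- A commutator of elements of a subgroup of order 64 of the centralizer lies in `Q`. -/
theorem comm_mem_Qm {S : Subgroup G} (hS : S ≤ centralizer ({D.z} : Set G)) (hc : Nat.card S = 64)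
    {x y : G} (hx : x ∈ S) (hy : y ∈ S) : x * y * x⁻¹ * y⁻¹ ∈ D.Qm := by
  have hle : D.Qm ≤ centralizer ({D.z} : Set G) := fun a ha => mem_centralizer_singleton_iff.2 (D.Qm_comm ha)
  haveI : (D.Qm.subgroupOf (centralizer ({D.z} : Set G))).Normal :=
    ⟨fun a ha c => mem_subgroupOf.2 (D.Qm_normal (mem_centralizer_singleton_iff.1 c.2) (mem_subgroupOf.1 ha))⟩
  let N := D.Qm.subgroupOf (centralizer ({D.z} : Set G))
  let φ : S →* (centralizer ({D.z} : Set G)) ⧸ N := (QuotientGroup.mk' N).comp (Subgroup.inclusion hS)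
  have h1 : Nat.card φ.range ∣ 36 := by
    have h : Nat.card ((centralizer ({D.z} : Set G)) ⧸ N) = 36 := by
      have h' := Subgroup.card_eq_card_quotient_mul_card_subgroup N
      rw [D.card_C, Nat.card_congr (subgroupOfEquivOfLe hle).toEquiv, D.card_Qm] at h'
      omega
    exact h ▸ Subgroup.card_subgroup_dvd_card φ.range
  have h2 : Nat.card φ.range ∣ 64 := hc ▸ Subgroup.card_range_dvd φ
  have h4 : Nat.card φ.range ∣ 4 := Nat.dvd_gcd h1 h2
  have hcomm : ∀ a b : φ.range, a * b = b * a := by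
    obtain ⟨k, hk, hk'⟩ := (Nat.dvd_prime_pow Nat.prime_two).1 (show Nat.card φ.range ∣ 2 ^ 2 from h4)
    interval_cases k
    · haveI := (Nat.card_eq_one_iff_unique.1 hk').1
      exact fun a b => Subsingleton.elim _ _
    · haveI : Fact (Nat.Prime 2) := ⟨Nat.prime_two⟩
      haveI := isCyclic_of_prime_card (p := 2) (α := φ.range) (by simpa using hk')
      exact fun a b => mul_comm' a b
    · haveI : Fact (Nat.Prime 2) := ⟨Nat.prime_two⟩
      exact IsPGroup.commutative_of_card_eq_prime_sq hk'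
  have h := congrArg Subtype.val (hcomm ⟨φ ⟨x, hx⟩, ⟨_, rfl⟩⟩ ⟨φ ⟨y, hy⟩, ⟨_, rfl⟩⟩)
  have h' : φ (⟨x, hx⟩ * ⟨y, hy⟩ * ⟨x, hx⟩⁻¹ * ⟨y, hy⟩⁻¹) = 1 := by
    have h0 : φ ⟨x, hx⟩ * φ ⟨y, hy⟩ = φ ⟨y, hy⟩ * φ ⟨x, hx⟩ := h
    rw [map_mul, map_mul, map_mul, map_inv, map_inv, h0]; group
  exact mem_subgroupOf.1 ((QuotientGroup.eq_one_iff (N := N) _).1 h')

/-- `z` lies in the conjugate of `Q` attached to `t`, and some element swaps `z` and `t`. -/
theorem exists_swap : ∃ g : G, g * D.z * g⁻¹ = D.t ∧ g * D.t * g⁻¹ = D.z := by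
  obtain ⟨g, hg⟩ := D.exists_g0
  let S := D.DD.map (MulAut.conj g⁻¹).toMonoidHom
  have hcard : Nat.card S = 64 := by
    rw [← D.card_DD]; exact (Nat.card_congr (D.DD.equivMapOfInjective _ (MulEquiv.injective _)).toEquiv).symm
  have hS : S ≤ centralizer ({D.z} : Set G) := by
    rintro - ⟨x, hx, rfl⟩
    have h := ((D.mem_DD.1 hx).2).map (MulAut.conj g⁻¹).toMonoidHom
    rw [mem_centralizer_singleton_iff]
    have e : (MulAut.conj g⁻¹).toMonoidHom D.t = D.z := by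
      simp only [MulEquiv.coe_toMonoidHom, MulAut.conj_apply]; rw [← hg]; group
    rw [e] at h
    exact h
  have ha : D.f (SL23.qi, 1) ∈ D.DD := D.mem_DD.2 ⟨D.f_comm _, by
    show _ * _ = _ * _
    rw [t, ← map_mul, ← map_mul, D.eq_iff]; decide +kernel⟩
  have hb : D.f (SL23.qj, SL23.qj) ∈ D.DD := D.mem_DD.2 ⟨D.f_comm _, by
    show _ * _ = _ * _
    rw [t, ← map_mul, ← map_mul, D.eq_iff]; decide +kernel⟩
  have h := D.comm_mem_Qm hS hcard (mem_map_of_mem _ ha) (mem_map_of_mem _ hb)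
  rw [← map_inv (MulAut.conj g⁻¹).toMonoidHom, ← map_inv (MulAut.conj g⁻¹).toMonoidHom,
    ← map_mul (MulAut.conj g⁻¹).toMonoidHom, ← map_mul (MulAut.conj g⁻¹).toMonoidHom,
    ← map_mul (MulAut.conj g⁻¹).toMonoidHom] at h
  have hz : D.f (SL23.qi, 1) * D.f (SL23.qj, SL23.qj) * (D.f (SL23.qi, 1))⁻¹ * (D.f (SL23.qj, SL23.qj))⁻¹ = D.z := by
    rw [← map_inv, ← map_inv, ← map_mul, ← map_mul, ← map_mul, ← D.f_neg, D.eq_iff]; decide +kernel
  rw [hz] at h
  change MulAut.conj g⁻¹ D.z ∈ D.Qm at h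
  rw [MulAut.conj_apply] at h
  have hne : g⁻¹ * D.z * g⁻¹⁻¹ ≠ D.z := fun he => D.t_ne_z (by
    calc D.t = g * D.z * g⁻¹ := hg.symm
      _ = g * (g⁻¹ * D.z * g⁻¹⁻¹) * g⁻¹ := by rw [he]
      _ = D.z := by group)
  obtain ⟨r, hr⟩ := D.invol_conj h
    (by rw [show g⁻¹ * D.z * g⁻¹⁻¹ * (g⁻¹ * D.z * g⁻¹⁻¹) = g⁻¹ * (D.z * D.z) * g⁻¹⁻¹ by group, D.z_sq]; group)
    (fun h => D.z_ne (by rwa [mul_inv_eq_one, mul_eq_left] at h)) hne
  refine ⟨g * D.f r, ?_, ?_⟩
  · calc g * D.f r * D.z * (g * D.f r)⁻¹ = g * (D.f r * D.z) * (D.f r)⁻¹ * g⁻¹ := by group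
      _ = g * D.z * g⁻¹ := by rw [(D.f_comm r).eq]; group
      _ = D.t := hg
  · calc g * D.f r * D.t * (g * D.f r)⁻¹ = g * (D.f r * D.t * (D.f r)⁻¹) * g⁻¹ := by group
      _ = D.z := by rw [hr]; group

end Hyp

end CfsgLib.U43Type
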