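import Cfsg.Agent.Lib.U43Type.Bound

/-!
The permutations of the 280 cosets given by the table of the enumeration.
-/

set_option autoImplicit false
set_option maxRecDepth 100000

namespace CfsgLib.U43Type.PermRep

open CfsgLib.CosetEnum

/-- The image of a point under a letter. -/
noncomputable def step (x k : ℕ) : ℕ :=
  Nat.mod ((Top.cert.T.getD (linv Top.ip x) (Tr.leaf 0)).get 20 k) 280

/-- The image of a point under a word. -/
noncomputable def act (w : List ℕ) (k : ℕ) : ℕ := w.foldr step k

/-- The class of a point under the point stabiliser. -/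
noncomputable def lab (k : ℕ) : ℕ := (Tr.leaf 0x1010101010101010101010101010101010101010101010101010101010101010101010101010101010101010101010101010101010101010101010101010101010101010202020201010101010101010101010101020101010201010101020201010101010101010101010101010101010101010101010101010101010101010101010101010101010101010101010101010101010101010202020201010101010101010101010101010101020202020101010101010101010101010101010101010101010101010202020201010201010201010101020101010102010101010101010101010101010101010101010102020202010101010101010102020202020101010101010101020101010101010101020102010100).get 8 k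

/-- The rank of a point in its class. -/
noncomputable def rank (k : ℕ) : ℕ := (Tr.leaf 0xa50a304d0510a90a705905d0a405e0a605a0a80520aa04e0d00cd0e00dd0cf0c80df0d80e10d90e20d40d10c90d20c30650870750890f10e606b0830790850f20ed06605306c05f07605407a06006f07b0ea0f007105507d05607007c0e30e707206107e06201a01b01001108b0b80860ac0970840e90ef0eb0e408f0ba08a0200b00990880210e50ec0ee0e80220230ab08c0630640c50af09006906a0d50980b70730740cb09a0b90770780db0930bd0c60b509b0c40c70cc0ce0ca0b309504b04c09d0bb04f0500940be0d60b609c0d30de0da0d70dc0b409605705809e0bc05b05c01301401c01d0a109f0a20a003303403703808e09202f03009108d03103201801601901702302708107f01908208001f02404104202804504606806e01a03d03e06d06702003f04000b00c00900503504801f04403901e0c10bf02902a0120c20c002d02e01504303602102203a0470250260ae0b20170180150160b10ad01d01e01b01c00e00f00600a03c03b00d00e00b00c00900a00d00800700100202c02b01301401101200f01000304a049007008005006003004004001000002000000).get 12 k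

theorem inv_check : ∀ x < 15, ∀ k < 280, step (linv Top.ip x) (step x k) = k := by decide +kernel

theorem ip_lt : ∀ x < 15, linv Top.ip x < 15 ∧ linv Top.ip (linv Top.ip x) = x := by decide +kernel

theorem rel_check : (Top.rels.all fun l => allFrom (fun k => Nat.beq (act l k) k) 280 0) = true := by decide +kernel

theorem trans_check : ∀ k < 280, k = 0 ∨ ∃ x < 15, step x k < k := by decide +kernel

theorem fix_check : ∀ x < 14, act (keyMid x) 0 = 0 := by decide +kernel

theorem lab_check : ∀ x < 14, ∀ k < 280, lab (act (keyMid x) k) = lab k := by decide +kernel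

theorem rank_check : ∀ k < 280, k = 0 ∨ k = 1 ∨ k = 3 ∨ ∃ x < 14, rank (act (keyMid x) k) < rank k := by
  decide +kernel

theorem lab_count : ((List.range 280).filter fun k => Nat.beq (lab k) 2).length = 36 ∧
    ((List.range 280).filter fun k => Nat.beq (lab k) 1).length = 243 ∧
    (∀ k < 280, (lab k = 0 → k = 0) ∧ lab k < 3) ∧ lab 1 = 1 ∧ lab 3 = 2 := by
  decide +kernel

theorem fix_three : act [0] 3 = 3 ∧ act [6, 0, 6] 3 = 3 ∧ act [7] 3 = 3 ∧ act [9] 3 = 3 := by decide +kernel

/-- A word carrying `z` into `Q`, as a relation of the group. -/
def fuseWord : List ℕ := [2, 11, 10, 2, 13, 7]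

/-- The permutations of the letters. -/
noncomputable def perm (x : ℕ) : Equiv.Perm (Fin 280) :=
  if h : x < 15 then
    { toFun := fun k => ⟨step x k, Nat.mod_lt _ (by norm_num)⟩
      invFun := fun k => ⟨step (linv Top.ip x) k, Nat.mod_lt _ (by norm_num)⟩
      left_inv := fun k => Fin.ext (inv_check x h k k.2)
      right_inv := fun k => Fin.ext (by
        have h2 := inv_check _ (ip_lt x h).1 k k.2
        rw [(ip_lt x h).2] at h2
        exact h2) }
  else 1

theorem perm_val {x : ℕ} (h : x < 15) (k : Fin 280) : ((perm x k : Fin 280) : ℕ) = step x k := by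
  rw [perm, dif_pos h]; rfl

theorem act_lt (w : List ℕ) {k : ℕ} (hk : k < 280) : act w k < 280 := by
  cases w with
  | nil => exact hk
  | cons x w => exact Nat.mod_lt _ (by norm_num)

theorem word_val {w : List ℕ} (hw : ∀ x ∈ w, x < 15) (k : Fin 280) :
    (((wordVal perm w) k : Fin 280) : ℕ) = act w k := by
  induction w with
  | nil => rfl
  | cons x w ih =>
    rw [show wordVal perm (x :: w) = perm x * wordVal perm w by simp [wordVal], Equiv.Perm.mul_apply,
      perm_val (hw x (List.mem_cons_self ..)), ih fun y hy => hw y (List.mem_cons_of_mem _ hy)]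
    rfl

theorem isSys_perm : IsSys perm := by
  refine ⟨fun x hx => dif_neg (by omega), fun x hx => ?_, fun l hl => ?_⟩
  · rcases Nat.lt_or_ge x 15 with hx' | hx'
    · refine eq_inv_of_mul_eq_one_left (Equiv.ext fun k => Fin.ext ?_)
      rw [Equiv.Perm.mul_apply, perm_val (ip_lt x hx').1, perm_val hx', inv_check x hx' k k.2]
      rfl
    · obtain rfl : x = 15 := by omega
      rw [show linv Top.ip 15 = 15 by decide +kernel, show perm 15 = 1 from dif_neg (by omega), inv_one]
  · refine Equiv.ext fun k => Fin.ext ?_
    rw [word_val ((show ∀ l ∈ Top.rels, ∀ x ∈ l, x < 15 by decide +kernel) l hl)]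
    exact Nat.eq_of_beq_eq_true
      (allFrom_spec _ _ _ (List.all_eq_true.1 rel_check l hl) k (Nat.zero_le _) (by have := k.2; omega))

end CfsgLib.U43Type.PermRep
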