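import Cfsg.Agent.Lib.U43Type.EBasis
import Cfsg.Agent.Lib.Invol.GlaubermanZStar

/-!
Groups of `U₄(3)` type: the odd core of the centralizer of `x₁`.
-/

set_option autoImplicit false
set_option linter.style.haveILetI false

namespace CfsgLib.U43Type

open Subgroup

universe u

namespace SL23

theorem comm_four : ∀ b : SL23, b = 1 ∨ b = neg ∨ b * b = neg ∨
    ∃ q : SL23, b * q * b⁻¹ * q⁻¹ * (b * q * b⁻¹ * q⁻¹) = neg := by decide +kernel

theorem quat : qi * qi = neg ∧ qj * qj = neg ∧ qk * qk = neg ∧ qi * qj = qk ∧ qj * qi = neg * qk ∧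
    qj * qk = qi ∧ qk * qj = neg * qi ∧ qk * qi = qj ∧ qi * qk = neg * qj := by decide +kernel

theorem quat_rot : xx * qi * xx⁻¹ = qj ∧ xx * qj * xx⁻¹ = qk ∧ xx * qk * xx⁻¹ = qi := by decide +kernel

theorem quat_flip : flip qi = neg * qi ∧ flip qj = neg * qk ∧ flip qk = neg * qj := by decide +kernel

theorem pow_xx_mod : ∀ i : Fin 3, xx ^ (i : ℕ) * neg ≠ 1 := by decide +kernel

end SL23

namespace Frame

variable {G : Type u} [Group G] (F : Frame G)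

/-- The root group of `x₁`. -/
def AA : Subgroup G := zpowers F.xa

theorem xel_pow (i : Fin 3) : F.xel i 0 = F.xa ^ (i : ℕ) := by
  rw [xel, xa, ← map_pow]
  exact congrArg F.D.f (Prod.ext rfl (by simp))

theorem mem_AA {x : G} : x ∈ F.AA ↔ ∃ i : Fin 3, x = F.xel i 0 := by
  constructor
  · intro hx
    obtain ⟨k, rfl⟩ := mem_zpowers_iff.1 hx
    have h3 : F.xa ^ (3 : ℤ) = 1 := by
      rw [show (3 : ℤ) = ((3 : ℕ) : ℤ) from rfl, zpow_natCast]; exact F.XX_cube F.xa_mem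
    refine ⟨⟨(k % 3).toNat, by omega⟩, ?_⟩
    rw [F.xel_pow, ← zpow_natCast]
    show F.xa ^ k = F.xa ^ (((k % 3).toNat : ℕ) : ℤ)
    rw [Int.toNat_of_nonneg (by omega)]
    conv_lhs => rw [← Int.mul_ediv_add_emod k 3, zpow_add, zpow_mul, h3, one_zpow, one_mul]
  · rintro ⟨i, rfl⟩
    rw [F.xel_pow]
    exact pow_mem (mem_zpowers _) _

theorem AA_le : F.AA ≤ F.XX := zpowers_le.2 F.xa_mem

theorem AA_comm {x y : G} (hx : x ∈ F.AA) (hy : Commute y F.xa) : Commute y x := by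
  obtain ⟨k, rfl⟩ := mem_zpowers_iff.1 hx
  exact hy.zpow_right k

theorem z_xa : Commute F.D.z F.xa := (F.D.f_comm _).symm

/-- The lift of a quaternion to the second side. -/
def q2 (q : SL23) : G := F.D.f (1, q)

theorem q2_mul (p q : SL23) : F.q2 p * F.q2 q = F.q2 (p * q) := by
  rw [q2, q2, q2, ← map_mul, Prod.mk_mul_mk, one_mul]

theorem q2_xa (q : SL23) : Commute (F.q2 q) F.xa := by
  show _ * _ = _ * _
  rw [q2, xa, ← map_mul, ← map_mul, Prod.mk_mul_mk, Prod.mk_mul_mk, one_mul, mul_one, one_mul, mul_one]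

theorem q2_z (q : SL23) : Commute (F.q2 q) F.D.z := F.D.f_comm _

theorem q2_neg : F.q2 SL23.neg = F.D.z := F.D.f_neg'

theorem q2_conj (p q : SL23) : F.q2 p * F.q2 q * (F.q2 p)⁻¹ = F.q2 (p * q * p⁻¹) := by
  rw [q2, q2, q2, ← map_inv, ← map_mul, ← map_mul]
  exact congrArg F.D.f (Prod.ext (by simp) rfl)

/-- The odd core of the centralizer of `x₁`. -/
def NN : Subgroup G :=
  (Cfsg.pPrimeCore 2 (centralizer ({F.xa} : Set G))).map (centralizer ({F.xa} : Set G)).subtype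

theorem NN_xa {x : G} (hx : x ∈ F.NN) : Commute x F.xa := by
  obtain ⟨y, -, rfl⟩ := hx
  exact mem_centralizer_singleton_iff.1 y.2

theorem NN_conj {c x : G} (hc : Commute c F.xa) (hx : x ∈ F.NN) : c * x * c⁻¹ ∈ F.NN := by
  obtain ⟨y, hy, rfl⟩ := hx
  let c' : centralizer ({F.xa} : Set G) := ⟨c, mem_centralizer_singleton_iff.2 hc.eq⟩
  exact ⟨c' * y * c'⁻¹, (CfsgLib.Solvable.pPrimeCore_normal 2 _).conj_mem y hy c', rfl⟩

variable [Finite G]

theorem NN_odd {x : G} (hx : x ∈ F.NN) : Odd (orderOf x) := by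
  obtain ⟨y, hy, rfl⟩ := hx
  rw [Subgroup.coe_subtype, Subgroup.orderOf_coe]
  exact (Nat.coprime_two_right.1 (CfsgLib.Solvable.pPrimeCore_card_coprime 2 _)).of_dvd_nat
    (Subgroup.orderOf_dvd_natCard _ hy)

theorem z_notMem : F.D.z ∉ F.NN := fun h => F.D.z_ne (odd_sq_one (F.NN_odd h) F.D.z_sq)

theorem NN_comm_z {x : G} (hx : Commute x F.xa) : F.D.z * x * F.D.z * x⁻¹ ∈ F.NN := by
  let z' : centralizer ({F.xa} : Set G) := ⟨F.D.z, mem_centralizer_singleton_iff.2 F.z_xa.eq⟩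
  have hz' : Cfsg.IsIsolatedInvolution z' := by
    refine ⟨orderOf_eq_prime (Subtype.ext (by rw [pow_two]; exact F.D.z_sq))
      (fun h => F.D.z_ne (congrArg Subtype.val h)), fun g hg => ?_⟩
    have h1 : g * z' * g⁻¹ * (g * z' * g⁻¹) = 1 := by
      have : z' * z' = 1 := Subtype.ext F.D.z_sq
      rw [show g * z' * g⁻¹ * (g * z' * g⁻¹) = g * (z' * z') * g⁻¹ by group, this]; group
    rcases F.invol_xa (congrArg Subtype.val hg.symm.eq : _ = _) (mem_centralizer_singleton_iff.1 (g * z' * g⁻¹).2)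
      (congrArg Subtype.val h1) with h | h
    · have h' : g * z' * g⁻¹ = 1 := Subtype.ext h
      rw [mul_inv_eq_one, mul_eq_left] at h'
      exact absurd (congrArg Subtype.val h') F.D.z_ne
    · exact Subtype.ext h
  refine ⟨_, CfsgLib.Invol.zStar hz' ⟨x, mem_centralizer_singleton_iff.2 hx.eq⟩, ?_⟩
  show F.D.z * x * F.D.z⁻¹ * x⁻¹ = _
  rw [F.z_inv]

/-- Inverted elements of odd order lie in the core. -/
theorem inverted_mem {x : G} (hx : Commute x F.xa) (ho : Odd (orderOf x)) (hi : F.D.z * x * F.D.z = x⁻¹) :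
    x ∈ F.NN := by
  have h := F.NN_comm_z hx
  rw [hi] at h
  obtain ⟨k, hk⟩ := ho
  have h2 : x = ((x⁻¹ * x⁻¹)⁻¹) ^ (k + 1) := by
    rw [mul_inv_rev, inv_inv, ← pow_two, ← pow_mul, show 2 * (k + 1) = orderOf x + 1 by omega, pow_succ,
      pow_orderOf_eq_one, one_mul]
  rw [h2]
  exact pow_mem (inv_mem h) _

/-- The centralizer of `z` in the core. -/
theorem NN_cent {x : G} (hx : x ∈ F.NN) (hz : Commute x F.D.z) : x ∈ F.AA := by
  obtain ⟨⟨r1, r2⟩, ⟨i, hi⟩, rfl⟩ := F.cent_xa hz (F.NN_xa hx)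
  have hX : r2 = 1 ∨ r2 = SL23.neg := by
    rcases SL23.comm_four r2 with h | h | h | ⟨q, hq⟩
    · exact Or.inl h
    · exact Or.inr h
    · exfalso
      apply F.z_notMem
      have key : ∀ (i : Fin 3) (r1 r2 : SL23), (r1 = SL23.xx ^ (i : ℕ) ∨ r1 = SL23.xx ^ (i : ℕ) * SL23.neg) →
          r2 * r2 = SL23.neg → ((r1, r2) : Pr) ^ 6 = (1, SL23.neg) := by decide +kernel
      rw [← F.q2_neg, q2, ← key i r1 r2 hi h, map_pow]
      exact pow_mem hx 6
    · exfalso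
      apply F.z_notMem
      have hy : F.q2 (r2 * q * r2⁻¹ * q⁻¹) ∈ F.NN := by
        have e : F.q2 (r2 * q * r2⁻¹ * q⁻¹) = F.D.f (r1, r2) * (F.q2 q * (F.D.f (r1, r2))⁻¹ * (F.q2 q)⁻¹) := by
          rw [q2, q2, ← map_inv, ← map_inv, ← map_mul, ← map_mul, ← map_mul]
          exact congrArg F.D.f (Prod.ext (by simp) (by simp [mul_assoc]))
        rw [e]
        exact mul_mem hx (F.NN_conj (F.q2_xa q) (inv_mem hx))
      rw [← F.q2_neg, ← hq, ← F.q2_mul]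
      exact mul_mem hy hy
  have hj : ∃ j : Fin 3, r2 = SL23.xx ^ (j : ℕ) ∨ r2 = SL23.xx ^ (j : ℕ) * SL23.neg :=
    ⟨0, by simpa using hX⟩
  have hX' : r2 = SL23.xx ^ ((0 : Fin 3) : ℕ) ∨ r2 = SL23.xx ^ ((0 : Fin 3) : ℕ) * SL23.neg := by
    simpa using hX
  rcases F.f_form hi hX' with h | h
  · exact F.mem_AA.2 ⟨i, h⟩
  · exfalso
    apply F.z_notMem
    rw [h] at hx
    have ha : F.xel i 0 ^ 2 ∈ F.AA := F.mem_AA.2 ⟨i + i, by rw [pow_two, F.xel_add, add_zero]⟩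
    have h2 : (F.xel i 0 * F.D.z) ^ 3 = F.D.z := by
      rw [(F.XX_z (F.xel_mem i 0)).mul_pow, F.XX_cube (F.xel_mem i 0), one_mul, pow_succ, pow_two, F.D.z_sq, one_mul]
    rw [← h2]
    exact pow_mem hx 3

theorem AA_z {x : G} (hx : x ∈ F.AA) : F.D.z * x * F.D.z = x := by
  rw [← (F.XX_z (F.AA_le hx)).eq, mul_assoc, F.D.z_sq, mul_one]

theorem AA_mem_NN {x : G} (hx : x ∈ F.AA) : x ∈ F.NN := by
  have hN : (zpowers (⟨F.xa, mem_centralizer_singleton_iff.2 rfl⟩ : centralizer ({F.xa} : Set G))).Normal :=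
    ⟨fun y hy c => by
      obtain ⟨k, rfl⟩ := mem_zpowers_iff.1 hy
      have hc : Commute c ⟨F.xa, mem_centralizer_singleton_iff.2 rfl⟩ :=
        Subtype.ext (mem_centralizer_singleton_iff.1 c.2)
      rw [(hc.zpow_right k).eq, mul_inv_cancel_right]
      exact zpow_mem (mem_zpowers _) k⟩
  have ho : (Nat.card (zpowers (⟨F.xa, mem_centralizer_singleton_iff.2 rfl⟩ :
      centralizer ({F.xa} : Set G)))).Coprime 2 := by
    rw [Nat.card_zpowers, Subgroup.orderOf_mk, Nat.coprime_two_right]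
    exact Odd.of_dvd_nat (n := 3) (by decide) (orderOf_dvd_of_pow_eq_one (F.XX_cube F.xa_mem))
  obtain ⟨k, rfl⟩ := mem_zpowers_iff.1 hx
  refine zpow_mem ?_ k
  exact ⟨⟨F.xa, mem_centralizer_singleton_iff.2 rfl⟩, le_sSup (s := {N : Subgroup (centralizer ({F.xa} : Set G)) | N.Normal ∧ (Nat.card N).Coprime 2}) ⟨hN, ho⟩ (mem_zpowers _), rfl⟩

/-- The involution inverts the core modulo the root group. -/
theorem NN_inv {x : G} (hx : x ∈ F.NN) : ∃ a ∈ F.AA, F.D.z * x * F.D.z = x⁻¹ * a := by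
  set c := x * (F.D.z * x⁻¹ * F.D.z) with hc
  have hcN : c ∈ F.NN := mul_mem hx (by
    have := F.NN_conj F.z_xa (inv_mem hx)
    rwa [F.z_inv] at this)
  have hzz : ∀ u : G, F.D.z * (F.D.z * u) = u := fun u => by rw [← mul_assoc, F.D.z_sq, one_mul]
  have hcI : F.D.z * c * F.D.z = c⁻¹ := by
    rw [hc]
    simp only [mul_inv_rev, inv_inv, F.z_inv, mul_assoc, hzz, F.D.z_sq, mul_one]
  obtain ⟨k, hk⟩ := F.NN_odd hcN
  set e := c ^ (k + 1) with he
  have hee : e * e = c := by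
    rw [he, ← pow_add, show k + 1 + (k + 1) = orderOf c + 1 by omega, pow_succ, pow_orderOf_eq_one, one_mul]
  have heI : F.D.z * e * F.D.z = e⁻¹ := by
    calc F.D.z * c ^ (k + 1) * F.D.z = F.D.z * c ^ (k + 1) * F.D.z⁻¹ := by rw [F.z_inv]
      _ = (F.D.z * c * F.D.z⁻¹) ^ (k + 1) := (conj_pow).symm
      _ = _ := by rw [F.z_inv, hcI, inv_pow]
  have h1 : F.D.z * x * F.D.z = c⁻¹ * x := by
    rw [hc]
    simp only [mul_inv_rev, inv_inv, F.z_inv, mul_assoc, hzz, inv_mul_cancel, mul_one, F.D.z_sq]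
  have h3 : F.D.z * (e⁻¹ * x) * F.D.z = e⁻¹ * x := by
    calc F.D.z * (e⁻¹ * x) * F.D.z = (F.D.z * e * F.D.z)⁻¹ * (F.D.z * x * F.D.z) := by
          simp only [mul_inv_rev, F.z_inv, mul_assoc, hzz]
      _ = e * ((e * e)⁻¹ * x) := by rw [heI, h1, hee, inv_inv]
      _ = _ := by group
  have ha : e⁻¹ * x ∈ F.AA := F.NN_cent (mul_mem (inv_mem (pow_mem hcN _)) hx) (by
    show _ = _
    conv_lhs => rw [← h3]
    rw [mul_assoc _ F.D.z F.D.z, F.D.z_sq, mul_one])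
  refine ⟨(e⁻¹ * x) * (e⁻¹ * x), mul_mem ha ha, ?_⟩
  have hc' : Commute e⁻¹ (e⁻¹ * x) := F.AA_comm ha (F.NN_xa (pow_mem hcN _)).inv_left
  have hxe : x = e * (e⁻¹ * x) := (mul_inv_cancel_left e x).symm
  calc F.D.z * x * F.D.z = c⁻¹ * x := h1
    _ = e⁻¹ * (e⁻¹ * x) := by rw [← hee]; group
    _ = (e⁻¹ * x)⁻¹ * ((e⁻¹ * x) * e⁻¹) * (e⁻¹ * x) := by group
    _ = (e⁻¹ * x)⁻¹ * (e⁻¹ * (e⁻¹ * x)) * (e⁻¹ * x) := by rw [hc'.eq]
    _ = _ := by group

/-- The core is commutative modulo the root group. -/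
theorem NN_comm {x y : G} (hx : x ∈ F.NN) (hy : y ∈ F.NN) : ∃ a ∈ F.AA, x * y = y * x * a := by
  obtain ⟨a, ha, hza⟩ := F.NN_inv hx
  obtain ⟨b, hb, hzb⟩ := F.NN_inv hy
  obtain ⟨c, hc, hzc⟩ := F.NN_inv (mul_mem hx hy)
  have hzz : ∀ u : G, F.D.z * (F.D.z * u) = u := fun u => by rw [← mul_assoc, F.D.z_sq, one_mul]
  have h : x⁻¹ * y⁻¹ * (a * b) = y⁻¹ * x⁻¹ * c := by
    rw [show y⁻¹ * x⁻¹ * c = F.D.z * (x * y) * F.D.z by rw [hzc, mul_inv_rev]]
    calc x⁻¹ * y⁻¹ * (a * b) = x⁻¹ * (y⁻¹ * a) * b := by group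
      _ = x⁻¹ * a * (y⁻¹ * b) := by rw [(F.AA_comm ha (F.NN_xa hy).inv_left).eq]; group
      _ = _ := by rw [← hza, ← hzb]; simp only [mul_assoc, hzz]
  set d := c * (a * b)⁻¹ with hd
  have hdA : d ∈ F.AA := mul_mem hc (inv_mem (mul_mem ha hb))
  refine ⟨d, hdA, ?_⟩
  have h' : x⁻¹ * y⁻¹ = y⁻¹ * x⁻¹ * d := by rw [hd, ← mul_assoc, ← h]; group
  calc x * y = d * (d⁻¹ * (x * y)) := by group
    _ = d * (y⁻¹ * x⁻¹ * d)⁻¹ := by group
    _ = d * (y * x) := by rw [← h']; group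
    _ = _ := (F.AA_comm hdA ((F.NN_xa hy).mul_left (F.NN_xa hx))).eq.symm

/-- The elements centralizing `X` and the first generator lie in the group of order 81. -/
theorem isE_of_cent {B : F.EBase} {x : G} (h1 : Commute x F.xa) (h2 : Commute x F.xb) (h3 : Commute x B.v) :
    F.IsE x := by
  set c := F.D.z * x * F.D.z * x⁻¹ with hc
  have hz2 : Commute F.D.z F.xb := (F.D.f_comm _).symm
  have hcE : F.IsE c := ⟨F.NN_xa (F.NN_comm_z h1), ((hz2.mul_left h2).mul_left hz2).mul_left h2.inv_left,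
    F.NN_odd (F.NN_comm_z h1)⟩
  have hzz : ∀ u : G, F.D.z * (F.D.z * u) = u := fun u => by rw [← mul_assoc, F.D.z_sq, one_mul]
  have hcI : F.D.z * c * F.D.z = c⁻¹ := by
    rw [hc]
    simp only [mul_inv_rev, inv_inv, F.z_inv, mul_assoc, hzz]
  obtain ⟨k, hk⟩ := hcE.2.2
  set i := c ^ (k + 1) with hi
  have hiI : F.IsI i := F.isI_pow ⟨hcE, hcI⟩ _
  have hii : i * i = c := by
    rw [hi, ← pow_add, show k + 1 + (k + 1) = orderOf c + 1 by omega, pow_succ, pow_orderOf_eq_one, one_mul]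
  have hy : F.D.z * (i * x) * F.D.z = i * x := by
    calc F.D.z * (i * x) * F.D.z = (F.D.z * i * F.D.z) * (F.D.z * x * F.D.z) := by simp only [mul_assoc, hzz]
      _ = i⁻¹ * (c * x) := by rw [hiI.2, hc]; group
      _ = _ := by rw [← hii]; group
  obtain ⟨y, hyX, hy' | hy'⟩ := F.cent_XX (c := i * x) (by
      show _ = _
      conv_lhs => rw [← hy]
      rw [mul_assoc _ F.D.z F.D.z, F.D.z_sq, mul_one])
    (hiI.1.1.mul_left h1) (hiI.1.2.1.mul_left h2)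
  · rw [show x = i⁻¹ * (i * x) by group, hy']
    exact F.isE_mul (F.isE_inv hiI.1) (F.isE_XX hyX)
  · exfalso
    have hzv : Commute F.D.z B.v := by
      have h : Commute (i⁻¹ * y)⁻¹ B.v := (B.isE_comm (F.isE_mul (F.isE_inv hiI.1) (F.isE_XX hyX)) B.v_isI.1).inv_left
      have := h.mul_left h3
      rwa [show (i⁻¹ * y)⁻¹ * x = F.D.z by
        rw [show x = i⁻¹ * (i * x) by group, hy']; group] at this
    have h := B.v_isI.2
    rw [hzv.eq, mul_assoc, F.D.z_sq, mul_one] at h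
    exact B.v_ne (odd_sq_one B.v_isI.1.2.2 (by nth_rw 2 [h]; exact mul_inv_cancel B.v))

end Frame

end CfsgLib.U43Type
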