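import Cfsg.Agent.Lib.U43Type.RGroup

/-!
Groups of `U₄(3)` type: the action of the quaternion group on the core of the centralizer of `x₁`.
-/

set_option autoImplicit false
set_option linter.style.haveILetI false

namespace CfsgLib.U43Type

open Subgroup

universe u

namespace SL23

theorem pair_sq : ∀ α β : Fin 3, ((α : ℕ) * α + (β : ℕ) * β) % 3 = 0 → α = 0 ∧ β = 0 := by decide

end SL23

namespace Frame

/-- Nine terms of the squared sum of a representation of the quaternions. -/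
theorem quat_sum {M : Type*} [AddCommGroup M] (Li Lj Lk : M →+ M) (ii : ∀ x, Li (Li x) = -x)
    (jj : ∀ x, Lj (Lj x) = -x) (kk : ∀ x, Lk (Lk x) = -x) (ij : ∀ x, Li (Lj x) = Lk x)
    (ji : ∀ x, Lj (Li x) = -Lk x) (jk : ∀ x, Lj (Lk x) = Li x) (kj : ∀ x, Lk (Lj x) = -Li x)
    (ki : ∀ x, Lk (Li x) = Lj x) (ik : ∀ x, Li (Lk x) = -Lj x) (x : M) :
    Li (Li x + Lj x + Lk x) + Lj (Li x + Lj x + Lk x) + Lk (Li x + Lj x + Lk x) = -(3 • x) := by
  simp only [map_add, ii, jj, kk, ij, ji, jk, kj, ki, ik]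
  abel

/-- The relation forced by a fixed plane without invariant lines. -/
theorem quat_main {M : Type*} [AddCommGroup M] (Li Lj Lk : M →+ M) (ii : ∀ x, Li (Li x) = -x)
    (jj : ∀ x, Lj (Lj x) = -x) (kk : ∀ x, Lk (Lk x) = -x) (ij : ∀ x, Li (Lj x) = Lk x)
    (ji : ∀ x, Lj (Li x) = -Lk x) (jk : ∀ x, Lj (Lk x) = Li x) (kj : ∀ x, Lk (Lj x) = -Li x)
    (ki : ∀ x, Lk (Li x) = Lj x) (ik : ∀ x, Li (Lk x) = -Lj x) {V W : M} (hV : 3 • V = 0)
    (hVn : ∀ n : ℕ, n • V = 0 → n % 3 = 0) (α β : Fin 3)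
    (hPV : Li V + Lj V + Lk V = (α : ℕ) • V + (β : ℕ) • W)
    (hPW : Li W + Lj W + Lk W = (β : ℕ) • V - (α : ℕ) • W) :
    Lj V = Li V + V := by
  have h := quat_sum Li Lj Lk ii jj kk ij ji jk kj ki ik V
  rw [hV, neg_zero, hPV] at h
  simp only [map_add, map_nsmul] at h
  have h' : (α : ℕ) • (Li V + Lj V + Lk V) + (β : ℕ) • (Li W + Lj W + Lk W) = 0 := by
    rw [← h]; simp only [nsmul_add]; abel
  rw [hPV, hPW] at h'
  have hsum : ((α : ℕ) * α + (β : ℕ) * β) • V = 0 := by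
    rw [← h']
    simp only [nsmul_add, smul_sub, add_smul, mul_smul]
    rw [smul_comm (α : ℕ) (β : ℕ) W]
    abel
  obtain ⟨rfl, rfl⟩ := SL23.pair_sq α β (hVn _ hsum)
  simp only [Fin.val_zero, zero_smul, add_zero] at hPV
  have hi := congrArg Li hPV
  simp only [map_add, ii, ij, ik, map_zero] at hi
  have h3 : 3 • Lj V = 0 := by rw [← map_nsmul, hV, map_zero]
  have e1 : Lk V = Lj V + V := by
    rw [← sub_eq_zero, ← hi]; abel
  rw [e1] at hPV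
  rw [← sub_eq_zero, ← neg_eq_zero, ← hPV]
  calc -(Lj V - (Li V + V)) = Li V + V - Lj V + 3 • Lj V := by rw [h3]; abel
    _ = _ := by abel

variable {G : Type u} [Group G] (F : Frame G)

/-- The three quaternion conjugations. -/
def qc (q : SL23) (x : G) : G := F.q2 q * x * (F.q2 q)⁻¹

theorem qc_mul (p q : SL23) (x : G) : F.qc p (F.qc q x) = F.qc (p * q) x := by
  rw [qc, qc, qc, ← F.q2_mul]; group

theorem qc_map_mul (q : SL23) (x y : G) : F.qc q (x * y) = F.qc q x * F.qc q y := by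
  rw [qc, qc, qc]; group

theorem T_qc (q : SL23) (x : G) : F.T * F.qc q x * F.T⁻¹ = F.qc (SL23.flip q) (F.T * x * F.T⁻¹) := by
  have h : F.T * F.q2 q * F.T⁻¹ = F.q2 (SL23.flip q) := by
    rw [q2, F.T_conj, q2]
    exact congrArg F.D.f (Prod.ext SL23.cos_mul.1 rfl)
  rw [qc, qc, ← h]; group

variable [Finite G]

theorem qc_mem (q : SL23) {x : G} (hx : x ∈ F.NN) : F.qc q x ∈ F.NN := F.NN_conj (F.q2_xa q) hx

theorem qc_neg {x : G} (hx : x ∈ F.NN) : ∃ a ∈ F.AA, F.qc SL23.neg x = x⁻¹ * a := by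
  rw [qc, F.q2_neg, F.z_inv]
  exact F.NN_inv hx

variable (B : F.EBase)

theorem v_mem : B.v ∈ F.NN := F.inverted_mem B.v_isI.1.1 B.v_isI.1.2.2 B.v_isI.2

theorem w_mem : B.w ∈ F.NN := F.inverted_mem B.w_isI.1.1 B.w_isI.1.2.2 B.w_isI.2

/-- A core element centralized by `x₂` modulo the root group. -/
theorem fixed_form {m : G} (hm : m ∈ F.NN) {t : G} (ht : t ∈ F.AA) (hb : F.xb * m * F.xb⁻¹ = m * t) :
    ∃ i α β : Fin 3, m = B.el i 0 α β := by
  obtain ⟨l, hl, hzl⟩ := F.NN_inv hm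
  have hzb : Commute F.D.z F.xb := (F.D.f_comm _).symm
  have h1 : F.xb * (m⁻¹ * l) * F.xb⁻¹ = m⁻¹ * l * t := by
    rw [← hzl]
    calc F.xb * (F.D.z * m * F.D.z) * F.xb⁻¹ = (F.xb * F.D.z) * m * (F.D.z * F.xb⁻¹) := by group
      _ = (F.D.z * F.xb) * m * (F.xb⁻¹ * F.D.z) := by rw [hzb.eq, hzb.inv_right.eq]
      _ = F.D.z * (F.xb * m * F.xb⁻¹) * F.D.z := by group
      _ = _ := by
        rw [hb]
        calc F.D.z * (m * t) * F.D.z = F.D.z * m * (t * F.D.z) := by group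
          _ = _ := by rw [(F.XX_z (F.AA_le ht)).eq]; group
  have h2 : F.xb * (m⁻¹ * l) * F.xb⁻¹ = t⁻¹ * m⁻¹ * l := by
    have hlb : Commute F.xb l := F.XX_comm F.xb_mem (F.AA_le hl)
    calc F.xb * (m⁻¹ * l) * F.xb⁻¹ = (F.xb * m * F.xb⁻¹)⁻¹ * (F.xb * l * F.xb⁻¹) := by group
      _ = _ := by rw [hb, hlb.eq, mul_inv_cancel_right]; group
  have ht1 : t = 1 := by
    have hct : Commute (m⁻¹ * l) t := F.AA_comm ht ((F.NN_xa hm).inv_left.mul_left (F.XX_comm (F.AA_le hl) F.xa_mem))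
    have h3 : t * (m⁻¹ * l) = t⁻¹ * (m⁻¹ * l) := by rw [← hct.eq, ← h1, h2, mul_assoc]
    have h4 := mul_right_cancel h3
    exact odd_sq_one (F.isE_XX (F.AA_le ht)).2.2 (by nth_rw 2 [h4]; exact mul_inv_cancel t)
  rw [ht1, mul_one, mul_inv_eq_iff_eq_mul] at hb
  have hE : F.IsE m := ⟨F.NN_xa hm, hb.symm, F.NN_odd hm⟩
  obtain ⟨i, j, α, β, rfl⟩ := B.all_E hE
  refine ⟨i, α, β, ?_⟩
  have hj : j = 0 := by
    obtain ⟨i', hi'⟩ := F.mem_AA.1 hl
    have hI := (B.isI_vw α β).2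
    have h5 : F.D.z * B.el i j α β * F.D.z = B.el i j (-α) (-β) := by
      have hinv : (B.v ^ (α : ℕ) * B.w ^ (β : ℕ))⁻¹ = B.v ^ ((-α : Fin 3) : ℕ) * B.w ^ ((-β : Fin 3) : ℕ) := by
        have hn : ∀ {g : G}, g ^ 3 = 1 → ∀ a : Fin 3, (g ^ (a : ℕ))⁻¹ = g ^ ((-a : Fin 3) : ℕ) := fun hg a => by
          refine inv_eq_of_mul_eq_one_right ?_
          rw [← pow_add, pow_eq_pow_mod _ hg, ← Fin.val_add, add_neg_cancel]
          exact pow_zero _
        rw [mul_inv_rev, hn B.v_cube, hn B.w_cube]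
        exact (B.comm.pow_pow _ _).symm.eq
      rw [EBase.el, EBase.el, ← hinv, ← hI]
      calc F.D.z * (F.xel i j * (B.v ^ (α : ℕ) * B.w ^ (β : ℕ))) * F.D.z
          = F.D.z * F.xel i j * (B.v ^ (α : ℕ) * B.w ^ (β : ℕ)) * F.D.z := by group
        _ = _ := by rw [← (F.XX_z (F.xel_mem i j)).eq]; group
    have h6 : B.el i j α β * B.el i j (-α) (-β) = l := by rw [← h5, hzl, mul_inv_cancel_left]
    rw [B.el_mul, hi', show F.xel i' 0 = B.el i' 0 0 0 by rw [EBase.el]; simp] at h6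
    exact double_inj ((B.el_inj h6).2.1.trans (add_zero 0).symm)
  rw [hj]

/-- The conjugate of `v` by `j` is the conjugate by `i` times `v`. -/
theorem qj_v : ∃ a ∈ F.AA, F.qc SL23.qj B.v = F.qc SL23.qi B.v * B.v * a := by
  classical
  let C1 : Subgroup G := centralizer ({F.xa} : Set G)
  let A' : Subgroup C1 := F.AA.subgroupOf C1
  haveI hA' : A'.Normal := ⟨fun y hy c => by
    rw [mem_subgroupOf] at hy ⊢
    have h : Commute (c : G) y := F.AA_comm hy (mem_centralizer_singleton_iff.1 c.2)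
    show (c : G) * y * (c : G)⁻¹ ∈ F.AA
    rw [h.eq, mul_inv_cancel_right]
    exact hy⟩
  let π := QuotientGroup.mk' A'
  have hNle : F.NN ≤ C1 := fun x hx => mem_centralizer_singleton_iff.2 (F.NN_xa hx).eq
  let N' : Subgroup C1 := F.NN.subgroupOf C1
  haveI hN' : N'.Normal := ⟨fun y hy c => by
    rw [mem_subgroupOf] at hy ⊢
    exact F.NN_conj (mem_centralizer_singleton_iff.1 c.2) hy⟩
  let M : Subgroup (C1 ⧸ A') := N'.map π
  haveI hM : M.Normal := Subgroup.Normal.map hN' π (QuotientGroup.mk'_surjective A')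
  letI : CommGroup M :=
    { (inferInstance : Group M) with
      mul_comm := by
        rintro ⟨_, x, hx, rfl⟩ ⟨_, y, hy, rfl⟩
        apply Subtype.ext
        show π x * π y = π y * π x
        rw [← map_mul, ← map_mul]
        obtain ⟨a, ha, h⟩ := F.NN_comm (x := (x : G)) (y := (y : G)) hx hy
        refine (QuotientGroup.eq.2 (?_ : (x * y)⁻¹ * (y * x) ∈ A'))
        rw [mem_subgroupOf]
        show ((x : G) * y)⁻¹ * ((y : G) * x) ∈ F.AA
        rw [h, mul_inv_rev, mul_assoc, inv_mul_cancel, mul_one]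
        exact inv_mem ha }
  let mk : {x : G // x ∈ F.NN} → Additive M := fun x =>
    Additive.ofMul ⟨π ⟨x.1, hNle x.2⟩, ⟨x.1, hNle x.2⟩, x.2, rfl⟩
  have mk_eq : ∀ x y : {x : G // x ∈ F.NN}, mk x = mk y ↔ (x.1)⁻¹ * y.1 ∈ F.AA := by
    intro x y
    constructor
    · intro h
      exact mem_subgroupOf.1 (QuotientGroup.eq.1 (congrArg Subtype.val (Additive.ofMul.injective h)))
    · intro h
      exact congrArg Additive.ofMul (Subtype.ext (QuotientGroup.eq.2 (mem_subgroupOf.2 h)))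
  have mk_surj : ∀ X : Additive M, ∃ x, mk x = X := by
    rintro ⟨_, x, hx, rfl⟩
    exact ⟨⟨x, hx⟩, rfl⟩
  have mk_mul : ∀ {x y : G} (hx : x ∈ F.NN) (hy : y ∈ F.NN),
      mk ⟨x * y, mul_mem hx hy⟩ = mk ⟨x, hx⟩ + mk ⟨y, hy⟩ := fun _ _ => rfl
  have mk_pow : ∀ {x : G} (hx : x ∈ F.NN) (n : ℕ), mk ⟨x ^ n, pow_mem hx n⟩ = n • mk ⟨x, hx⟩ := fun _ _ => rfl
  let L : SL23 → Additive M →+ Additive M := fun q =>
    MonoidHom.toAdditive (MulAut.conjNormal (π ⟨F.q2 q, mem_centralizer_singleton_iff.2 (F.q2_xa q).eq⟩) :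
      MulAut M).toMonoidHom
  have L_mk : ∀ q x, L q (mk x) = mk ⟨F.qc q x.1, F.qc_mem q x.2⟩ := fun q x => rfl
  have L_mul : ∀ p q X, L p (L q X) = L (p * q) X := by
    intro p q X
    obtain ⟨x, rfl⟩ := mk_surj X
    rw [L_mk, L_mk, L_mk]
    exact congrArg mk (Subtype.ext (F.qc_mul p q x.1))
  have L_neg : ∀ X, L SL23.neg X = -X := by
    intro X
    obtain ⟨x, rfl⟩ := mk_surj X
    rw [L_mk]
    obtain ⟨a, ha, h⟩ := F.qc_neg x.2
    show mk _ = mk ⟨(x.1)⁻¹, inv_mem x.2⟩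
    rw [mk_eq]
    show (F.qc SL23.neg x.1)⁻¹ * x.1⁻¹ ∈ F.AA
    rw [h]
    show (x.1⁻¹ * a)⁻¹ * x.1⁻¹ ∈ F.AA
    rw [mul_inv_rev, inv_mul_cancel_right]
    exact inv_mem ha
  have L_negmul : ∀ q X, L (SL23.neg * q) X = -L q X := fun q X => by rw [← L_mul, L_neg]
  obtain ⟨qii, qjj, qkk, qij, qji, qjk, qkj, qki, qik⟩ := SL23.quat
  obtain ⟨hf1, hf2, hf3⟩ := SL23.quat_flip
  obtain ⟨hr1, hr2, hr3⟩ := SL23.quat_rot
  have hvN := F.v_mem B
  have hwN := F.w_mem B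
  set V := mk ⟨B.v, hvN⟩ with hVdef
  set W := mk ⟨B.w, hwN⟩ with hWdef
  set I' := SL23.qi
  set J' := SL23.qj
  set K' := SL23.qk
  -- the sum is fixed by `x₂`
  let m := F.qc I' B.v * F.qc J' B.v * F.qc K' B.v
  have hi := F.qc_mem I' hvN
  have hj := F.qc_mem J' hvN
  have hk := F.qc_mem K' hvN
  have hmN : m ∈ F.NN := mul_mem (mul_mem hi hj) hk
  have hxb : F.q2 SL23.xx = F.xb := rfl
  have hbv : F.qc SL23.xx B.v = B.v := by rw [qc, hxb, ← B.v_isI.1.2.1.eq, mul_inv_cancel_right]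
  have hrot : ∀ p q, SL23.xx * p * SL23.xx⁻¹ = q → F.qc SL23.xx (F.qc p B.v) = F.qc q B.v := by
    intro p q h
    conv_rhs => rw [← hbv, F.qc_mul, ← h, inv_mul_cancel_right]
    rw [F.qc_mul]
  obtain ⟨t, ht, hmt⟩ := F.NN_comm hi (mul_mem hj hk)
  have hbm : F.xb * m * F.xb⁻¹ = m * t⁻¹ := by
    show F.qc SL23.xx m = _
    rw [F.qc_map_mul, F.qc_map_mul, hrot _ _ hr1, hrot _ _ hr2, hrot _ _ hr3]
    calc F.qc J' B.v * F.qc K' B.v * F.qc I' B.v = F.qc J' B.v * F.qc K' B.v * F.qc I' B.v * t * t⁻¹ := by group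
      _ = _ := by simp only [m]; rw [← hmt]; group
  obtain ⟨i0, α, β, hm⟩ := F.fixed_form B hmN (inv_mem ht) hbm
  have hel : ∀ (i : Fin 3) (x : G) (hx : x ∈ F.NN) (h : F.xel i 0 * x ∈ F.NN),
      mk ⟨F.xel i 0 * x, h⟩ = mk ⟨x, hx⟩ := by
    intro i x hx h
    rw [mk_eq]
    show (F.xel i 0 * x)⁻¹ * x ∈ F.AA
    have hA : F.xel i 0 ∈ F.AA := F.mem_AA.2 ⟨i, rfl⟩
    rw [mul_inv_rev, mul_assoc, show x⁻¹ * ((F.xel i 0)⁻¹ * x) = (F.xel i 0)⁻¹ * (x⁻¹ * x) by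
      rw [← mul_assoc, (F.AA_comm (inv_mem hA) (F.NN_xa hx).inv_left).eq, mul_assoc], inv_mul_cancel, mul_one]
    exact inv_mem hA
  have hPV : L I' V + L J' V + L K' V = (α : ℕ) • V + (β : ℕ) • W := by
    rw [hVdef, hWdef, L_mk, L_mk, L_mk, ← mk_pow hvN, ← mk_pow hwN, ← mk_mul, ← mk_mul, ← mk_mul,
      ← hel i0 (B.v ^ (α : ℕ) * B.w ^ (β : ℕ)) (mul_mem (pow_mem hvN _) (pow_mem hwN _))
        (mul_mem (F.AA_mem_NN (F.mem_AA.2 ⟨i0, rfl⟩)) (mul_mem (pow_mem hvN _) (pow_mem hwN _)))]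
    exact congrArg mk (Subtype.ext hm)
  -- apply `T`
  have hTm := congrArg (MulAut.conj F.T) hm
  simp only [m, EBase.el, map_mul, map_pow, MulAut.conj_apply, F.T_qc, B.T_w] at hTm
  rw [hf1, hf2, hf3, show F.T * B.v * F.T⁻¹ = B.w from rfl] at hTm
  have hTa : F.T * F.xel i0 0 * F.T⁻¹ = F.xel (-i0) 0 := by
    have : ∀ i : Fin 3, Equ (SL23.flip (SL23.xx ^ (i : ℕ)), SL23.flip (SL23.xx ^ ((0 : Fin 3) : ℕ)))
        (SL23.xx ^ ((-i : Fin 3) : ℕ), SL23.xx ^ ((0 : Fin 3) : ℕ)) := by decide +kernel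
    rw [xel, xel, F.T_conj]
    exact F.D.eq_iff.2 (this i0)
  rw [hTa] at hTm
  have hPW : L I' W + L J' W + L K' W = (β : ℕ) • V - (α : ℕ) • W := by
    have h1 : L (SL23.neg * I') W + L (SL23.neg * K') W + L (SL23.neg * J') W =
        (α : ℕ) • W + (β : ℕ) • (-V) := by
      rw [hWdef, hVdef, L_mk, L_mk, L_mk, show -mk ⟨B.v, hvN⟩ = mk ⟨B.v⁻¹, inv_mem hvN⟩ from rfl,
        ← mk_pow hwN, ← mk_pow (inv_mem hvN), ← mk_mul, ← mk_mul, ← mk_mul,
        ← hel (-i0) (B.w ^ (α : ℕ) * B.v⁻¹ ^ (β : ℕ)) (mul_mem (pow_mem hwN _) (pow_mem (inv_mem hvN) _))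
          (mul_mem (F.AA_mem_NN (F.mem_AA.2 ⟨-i0, rfl⟩)) (mul_mem (pow_mem hwN _) (pow_mem (inv_mem hvN) _)))]
      exact congrArg mk (Subtype.ext hTm)
    rw [L_negmul, L_negmul, L_negmul, smul_neg] at h1
    rw [← neg_inj, neg_sub, sub_eq_add_neg, ← h1]
    abel
  have hV3 : 3 • V = 0 := by
    rw [hVdef, ← mk_pow hvN]
    show _ = mk ⟨1, one_mem _⟩
    exact congrArg mk (Subtype.ext B.v_cube)
  have hVn : ∀ n : ℕ, n • V = 0 → n % 3 = 0 := by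
    intro n hn
    rw [hVdef, ← mk_pow hvN] at hn
    have h := (mk_eq _ ⟨1, one_mem _⟩).1 hn
    simp only [mul_one] at h
    have h1 := F.isI_XX (F.isI_pow B.v_isI n) (F.AA_le (inv_mem_iff.1 h))
    exact Nat.mod_eq_zero_of_dvd (by rw [← orderOf_eq_prime B.v_cube B.v_ne]; exact orderOf_dvd_of_pow_eq_one h1)
  have hmain := quat_main (L I') (L J') (L K') (fun X => by rw [L_mul, qii, L_neg])
    (fun X => by rw [L_mul, qjj, L_neg]) (fun X => by rw [L_mul, qkk, L_neg]) (fun X => by rw [L_mul, qij])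
    (fun X => by rw [L_mul, qji, L_negmul]) (fun X => by rw [L_mul, qjk])
    (fun X => by rw [L_mul, qkj, L_negmul]) (fun X => by rw [L_mul, qki])
    (fun X => by rw [L_mul, qik, L_negmul]) hV3 hVn α β hPV hPW
  rw [hVdef, L_mk, L_mk, ← mk_mul, eq_comm, mk_eq] at hmain
  exact ⟨_, hmain, (mul_inv_cancel_left _ _).symm⟩

end Frame

end CfsgLib.U43Type
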