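import Cfsg.Agent.Lib.U43Type.UParam
import Cfsg.Agent.Lib.U43Type.Bound

/-!
Groups of `U₄(3)` type: the relations of the presentation hold.
-/

set_option autoImplicit false
set_option linter.style.haveILetI false
set_option linter.unusedSimpArgs false
set_option linter.unreachableTactic false
set_option linter.unusedTactic false

namespace CfsgLib.U43Type

open Subgroup

universe u

namespace Frame

variable {G : Type u} [Group G] {F : Frame G}

/-- The lower root element of the first side. -/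
def ya (F : Frame G) : G := F.D.f (SL23.yy, 1)

/-- The lower root element of the second side. -/
def yb (F : Frame G) : G := F.D.f (1, SL23.yy)

theorem of_conj {x y r : G} (h : x * y * x⁻¹ = r) : x * (y * (x⁻¹ * r⁻¹)) = 1 := by
  rw [← h]; group

theorem of_comm {x y : G} (h : Commute x y) : x * (y * (x⁻¹ * y⁻¹)) = 1 := by
  rw [← mul_assoc, h.eq]; group

theorem s_ya : F.s * F.ya * F.s = F.yb ∧ F.s * F.ya⁻¹ * F.s = F.yb⁻¹ := by
  have h : ∀ p, F.s * F.D.f p * F.s = F.D.f (p.2, p.1) := fun p => by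
    conv_lhs => arg 2; rw [← F.s_inv]
    exact F.s_conj p
  exact ⟨h _, by rw [ya, yb, ← map_inv, ← map_inv, h]; exact congrArg F.D.f (Prod.ext (by simp) (by simp))⟩

theorem T_ya : F.T * F.ya * F.T⁻¹ = F.ya⁻¹ ∧ F.T * F.yb * F.T⁻¹ = F.yb⁻¹ := by
  rw [ya, yb, F.T_conj, F.T_conj, ← map_inv, ← map_inv]
  refine ⟨congrArg F.D.f ?_, congrArg F.D.f ?_⟩ <;> decide +kernel

namespace EBase

variable (B : F.EBase) [Finite G]

/-- The element with a vector of exponents. -/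
def elv (e : Fin 3 × Fin 3 × Fin 3 × Fin 3) : G := B.el e.1 e.2.1 e.2.2.1 e.2.2.2

/-- Conjugation acts by a given map. -/
def Acts (g : G) (φ : Fin 3 × Fin 3 × Fin 3 × Fin 3 → Fin 3 × Fin 3 × Fin 3 × Fin 3) : Prop :=
  ∀ e, g * B.elv e * g⁻¹ = B.elv (φ e)

omit [Finite G] in
theorem acts_mul {g h : G} {φ ψ} (hg : B.Acts g φ) (hh : B.Acts h ψ) : B.Acts (g * h) (φ ∘ ψ) := fun e => by
  rw [show g * h * B.elv e * (g * h)⁻¹ = g * (h * B.elv e * h⁻¹) * g⁻¹ by group, hh, hg]; rfl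

omit [Finite G] in
theorem acts_pow {g : G} {φ} (hg : B.Acts g φ) : ∀ n : ℕ, B.Acts (g ^ n) (φ^[n])
  | 0 => fun e => by simp
  | n + 1 => by
    rw [pow_succ, Function.iterate_succ]
    exact B.acts_mul (acts_pow hg n) hg

/-- The action of `u`. -/
def φu (e : Fin 3 × Fin 3 × Fin 3 × Fin 3) : Fin 3 × Fin 3 × Fin 3 × Fin 3 :=
  (e.1 + e.2.1 + e.2.2.1, e.2.1, e.2.2.1 + 2 * e.2.1, e.2.2.2)

/-- The action of `s`. -/
def φs (e : Fin 3 × Fin 3 × Fin 3 × Fin 3) : Fin 3 × Fin 3 × Fin 3 × Fin 3 :=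
  (e.2.1, e.1, e.2.2.1, -e.2.2.2)

/-- The action of `T`. -/
def φT (e : Fin 3 × Fin 3 × Fin 3 × Fin 3) : Fin 3 × Fin 3 × Fin 3 × Fin 3 :=
  (-e.1, -e.2.1, -e.2.2.2, e.2.2.1)

theorem acts_u : B.Acts B.u φu := by
  obtain ⟨ua, ub, uv, uw⟩ := B.u_act B.rel_one
  intro e
  obtain ⟨i, j, k, l⟩ := e
  show B.u * B.el i j k l * B.u⁻¹ = _
  rw [B.conj_el (g := B.u) (A := ![![1, 0, 0, 0], ![1, 1, 2, 0], ![1, 0, 1, 0], ![0, 0, 0, 1]]) ua ub uv uw]
  refine B.el_congr ?_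
  revert i j k l
  decide

theorem acts_s : B.Acts F.s φs := fun e => by
  obtain ⟨i, j, k, l⟩ := e
  show F.s * B.el i j k l * F.s⁻¹ = _
  rw [F.s_inv, B.s_el]
  rfl

theorem acts_T : B.Acts F.T φT := by
  intro e
  obtain ⟨i, j, k, l⟩ := e
  obtain ⟨Ta, Tb⟩ := F.T_xa
  show F.T * B.el i j k l * F.T⁻¹ = _
  rw [B.conj_el (g := F.T) (A := ![![2, 0, 0, 0], ![0, 2, 0, 0], ![0, 0, 0, 1], ![0, 0, 2, 0]])
    (by rw [Ta, B.xa_el, B.el_inv]; rfl) (by rw [Tb, B.xb_el, B.el_inv]; rfl)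
    (show B.w = _ from B.w_el) (by rw [B.T_w, B.v_el, B.el_inv]; rfl)]
  refine B.el_congr ?_
  revert i j k l
  decide

/-- An element of order five on the group of order 81 without fixed points has order five. -/
theorem pow_five {g : G} {φ} (hg : B.Acts g φ) (h5 : ∀ e, φ^[5] e = e) (hfix : ∀ e, φ e = e → e = 0) :
    g ^ 5 = 1 := by
  have hc : ∀ e, Commute (g ^ 5) (B.elv e) := fun e => by
    have := B.acts_pow hg 5 e
    rwa [h5, mul_inv_eq_iff_eq_mul] at this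
  have hE : F.IsE (g ^ 5) := F.isE_of_cent (B := B) (by rw [B.xa_el]; exact hc (1, 0, 0, 0))
    (by rw [B.xb_el]; exact hc (0, 1, 0, 0)) (by rw [B.v_el]; exact hc (0, 0, 1, 0))
  obtain ⟨i, j, k, l, he⟩ := B.all_E hE
  have h1 : B.elv (φ (i, j, k, l)) = B.elv (i, j, k, l) := by
    rw [← hg]
    show g * B.el i j k l * g⁻¹ = B.el i j k l
    rw [← he, ← pow_succ', pow_succ, mul_inv_cancel_right]
  obtain ⟨e1, e2, e3, e4⟩ := B.el_inj h1
  have h2 := hfix _ (Prod.ext e1 (Prod.ext e2 (Prod.ext e3 e4)))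
  simp only [Prod.ext_iff, Prod.fst_zero, Prod.snd_zero] at h2
  obtain ⟨rfl, rfl, rfl, rfl⟩ := h2
  rw [he, el]
  simp [xel, Prod.mk_one_one]

theorem uts_five : (B.u * F.T * F.s) ^ 5 = 1 :=
  B.pow_five (B.acts_mul (B.acts_mul B.acts_u B.acts_T) B.acts_s) (by decide +kernel) (by decide +kernel)

theorem sustU_five : (F.s * B.u * F.s * F.T * (B.u * B.u)) ^ 5 = 1 :=
  B.pow_five (B.acts_mul (B.acts_mul (B.acts_mul (B.acts_mul B.acts_s B.acts_u) B.acts_s) B.acts_T)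
    (B.acts_mul B.acts_u B.acts_u)) (by decide +kernel) (by decide +kernel)

/-- The letters of the presentation. -/
def lett : ℕ → G := letters F.xa F.ya F.T F.s B.v B.w B.u B.p

/-- Closes relators inside the image of the pairs. -/
local macro "fpure" : tactic => `(tactic| (
  simp only [Frame.xa, Frame.ya, Frame.xb, Frame.yb, ← map_inv, ← map_mul]
  rw [← map_one F.D.f, F.D.eq_iff]
  decide +kernel))

theorem rels_lett : ∀ l ∈ Top.rels, wordVal B.lett l = 1 := by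
  have hr := B.rel_one
  obtain ⟨sxa, -⟩ := F.s_xa
  rw [F.s_inv] at sxa
  obtain ⟨sya, sya'⟩ := F.s_ya
  have sxa' : F.s * F.xa⁻¹ * F.s = F.xb⁻¹ := by rw [← sxa, mul_inv_rev, mul_inv_rev, F.s_inv, ← mul_assoc]
  have hss : ∀ x : G, F.s * (F.s * x) = x := fun x => by rw [← mul_assoc, F.s_sq, one_mul]
  have c0 : F.s * (F.xa * F.s) = F.xb := by rw [← mul_assoc, sxa]
  have C0 : F.s * (F.xa⁻¹ * F.s) = F.xb⁻¹ := by rw [← mul_assoc, sxa']
  have d0 : F.s * (F.ya * F.s) = F.yb := by rw [← mul_assoc, sya]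
  have D0 : F.s * (F.ya⁻¹ * F.s) = F.yb⁻¹ := by rw [← mul_assoc, sya']
  have cx : ∀ x : G, F.s * (F.xa * (F.s * x)) = F.xb * x := fun x => by rw [← c0]; group
  have Cx : ∀ x : G, F.s * (F.xa⁻¹ * (F.s * x)) = F.xb⁻¹ * x := fun x => by rw [← C0]; group
  have dx : ∀ x : G, F.s * (F.ya * (F.s * x)) = F.yb * x := fun x => by rw [← d0]; group
  have Dx : ∀ x : G, F.s * (F.ya⁻¹ * (F.s * x)) = F.yb⁻¹ * x := fun x => by rw [← D0]; group
  have n0 : F.s * (F.xa⁻¹ * (F.ya * (F.xa⁻¹ * F.s))) = F.q2 SL23.qi := by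
    rw [xa, ya, q2, ← F.s_inv, ← map_inv, ← mul_assoc (F.D.f _) (F.D.f _), ← map_mul, ← mul_assoc (F.D.f _),
      ← map_mul, ← mul_assoc, F.s_inv]
    conv_lhs => arg 2; rw [← F.s_inv]
    rw [F.s_conj]
    exact congrArg F.D.f (by decide +kernel)
  have nx : ∀ x : G, F.s * (F.xa⁻¹ * (F.ya * (F.xa⁻¹ * (F.s * x)))) = F.q2 SL23.qi * x := fun x => by
    rw [← n0]; group
  have N0 : F.s * (F.xa * (F.ya⁻¹ * (F.xa * F.s))) = (F.q2 SL23.qi)⁻¹ := by
    rw [← n0, mul_inv_rev, mul_inv_rev, mul_inv_rev, mul_inv_rev, F.s_inv, inv_inv]; group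
  have Nx : ∀ x : G, F.s * (F.xa * (F.ya⁻¹ * (F.xa * (F.s * x)))) = (F.q2 SL23.qi)⁻¹ * x := fun x => by
    rw [← N0]; group
  have hA : F.xel 1 0 = F.xa := by rw [F.xel_pow]; exact pow_one _
  have pE : F.T * (B.u⁻¹ * F.T⁻¹) = B.p := by rw [← inv_inv B.p, ← hr.Tu]; group
  have c3 : ∀ {x : G}, x ^ 3 = 1 → x * (x * x) = 1 := fun h => by rwa [pow_succ', pow_two] at h
  have cube_a := c3 (F.XX_cube F.xa_mem)
  have cube_c := c3 (F.XX_cube F.xb_mem)
  have cube_v := c3 B.v_cube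
  have cube_w := c3 B.w_cube
  have cube_u := c3 B.u_cube
  have cube_p := c3 B.p_cube
  have cube_b : F.ya * (F.ya * F.ya) = 1 := by fpure
  have cube_d : F.yb * (F.yb * F.yb) = 1 := by fpure
  have pwA : B.p * (B.w * (B.p⁻¹ * (B.w⁻¹ * F.xa⁻¹))) = 1 := by
    rw [← (B.w_isI.1.1.inv_inv.symm).eq, ← mul_inv_rev, ← hA]; exact of_conj hr.pw
  have bpA : F.xb * (B.p * (F.xb⁻¹ * (F.xa⁻¹ * (B.w⁻¹ * B.p⁻¹)))) = 1 := by
    simpa [mul_inv_rev, mul_assoc, hA] using of_conj hr.bp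
  have uu : B.u * B.u = B.u⁻¹ := eq_inv_of_mul_eq_one_left (by rw [mul_assoc]; exact cube_u)
  -- the conjugations by the second lower root element
  have hyb : F.yb = F.xb * F.q2 SL23.qi * F.xb := by
    rw [yb, xb, q2, ← map_mul, ← map_mul]
    exact congrArg F.D.f (by decide +kernel)
  have cj : ∀ x : G, F.yb * x * F.yb⁻¹ = F.xb * (F.qc SL23.qi (F.xb * x * F.xb⁻¹)) * F.xb⁻¹ := fun x => by
    rw [hyb, Frame.qc]; group
  have qA : F.qc SL23.qi F.xa = F.xa := by rw [Frame.qc, (F.q2_xa _).eq, mul_inv_cancel_right]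
  have dv' : F.yb * B.v * F.yb⁻¹ = B.u * B.v * F.xel 1 0 := by
    rw [cj, B.v_isI.1.2.1.symm.eq, mul_inv_cancel_right]; exact hr.bu
  have dv := dv'
  have dw' : F.yb * B.w * F.yb⁻¹ = B.p * B.w * F.xel 1 0 := by
    rw [cj, B.w_isI.1.2.1.symm.eq, mul_inv_cancel_right]; exact hr.bp
  have dw : F.yb * (B.w * (F.yb⁻¹ * (F.xa⁻¹ * (B.w⁻¹ * B.p⁻¹)))) = 1 := by
    simpa [mul_inv_rev, mul_assoc, hA] using of_conj dw'
  have du : Commute F.yb B.u := by
    have e : F.yb * B.u * F.yb⁻¹ = B.u := by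
      rw [cj, hr.bu, hA, F.qc_map_mul, F.qc_map_mul, qA, hr.qu, show F.qc SL23.qi B.v = B.u from rfl]
      have hba : Commute F.xb F.xa := F.XX_comm F.xb_mem F.xa_mem
      calc F.xb * (B.v⁻¹ * B.u * F.xa) * F.xb⁻¹
          = (F.xb * B.v⁻¹ * F.xb⁻¹) * (F.xb * B.u * F.xb⁻¹) * (F.xb * F.xa * F.xb⁻¹) := by group
        _ = B.v⁻¹ * (B.u * B.v * F.xa) * F.xa := by
            rw [hr.bu, hA, B.v_isI.1.2.1.symm.inv_right.eq, mul_inv_cancel_right, hba.eq, mul_inv_cancel_right]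
        _ = B.v⁻¹ * (B.u * B.v * B.u⁻¹) * (B.u * (F.xa * F.xa)) := by group
        _ = F.xa * B.u * (F.xa * F.xa) := by rw [hr.uv, hA]; group
        _ = B.u * (F.xa * (F.xa * F.xa)) := by rw [← B.u_xa.eq]; group
        _ = _ := by rw [cube_a, mul_one]
    rwa [mul_inv_eq_iff_eq_mul] at e
  have dp : Commute F.yb B.p := by
    have h := du.inv_inv.map (MulAut.conj F.T).toMonoidHom
    simp only [MulEquiv.coe_toMonoidHom, MulAut.conj_apply, ← conj_inv, hr.Tu, F.T_ya.2, inv_inv] at h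
    exact h
  intro l hl
  simp only [Top.rels, List.mem_cons, List.not_mem_nil, or_false] at hl
  rcases hl with rfl | rfl | rfl | rfl | rfl | rfl | rfl | rfl | rfl | rfl | rfl | rfl | rfl | rfl | rfl | rfl | rfl | rfl | rfl | rfl | rfl | rfl | rfl | rfl | rfl | rfl | rfl | rfl | rfl | rfl | rfl | rfl | rfl | rfl | rfl | rfl | rfl | rfl | rfl | rfl | rfl | rfl | rfl | rfl | rfl | rfl | rfl | rfl | rfl | rfl | rfl | rfl | rfl | rfl | rfl | rfl | rfl | rfl | rfl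
  all_goals simp only [wordVal, List.map_cons, List.map_nil, List.prod_cons, List.prod_nil, mul_one, lett, letters,
    cx, Cx, dx, Dx, nx, Nx, c0, C0, d0, D0, n0, N0, hss]
  · -- aaa
    exact cube_a
  · -- bbb
    exact cube_b
  · -- ss
    exact F.s_sq
  · -- tttt
    rw [← mul_assoc F.T F.T, F.T_sq, F.D.z_sq]
  · -- aBabAb
    fpure
  · -- taTa
    exact (by simpa using of_conj F.T_xa.1)
  · -- tbTb
    exact (by simpa using of_conj F.T_ya.1)
  · -- asasAsAs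
    fpure
  · -- asbsAsBs
    fpure
  · -- bsbsBsBs
    fpure
  · -- stst
    rw [← mul_assoc]
    exact F.cos_sq.2.2.2
  · -- ttaBaaBa
    rw [← mul_assoc F.T, F.T_sq, ← F.D.f_neg]
    fpure
  · -- vvv
    exact cube_v
  · -- tvTW
    exact of_conj (show F.T * B.v * F.T⁻¹ = B.w from rfl)
  · -- twTv
    exact (by simpa using of_conj B.T_w)
  · -- vwVW
    exact of_comm B.comm
  · -- avAV
    exact of_comm B.v_isI.1.1.symm
  · -- awAW
    exact of_comm B.w_isI.1.1.symm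
  · -- svsV
    rw [← mul_assoc F.s, ← mul_assoc (F.s * B.v), B.v_s', mul_inv_cancel]
  · -- swsw
    rw [← mul_assoc F.s, ← mul_assoc (F.s * B.w), B.w_s, inv_mul_cancel]
  · -- sasvsAsV
    exact of_comm B.v_isI.1.2.1.symm
  · -- saswsAsW
    exact of_comm B.w_isI.1.2.1.symm
  · -- sAbAsvsaBasU
    exact of_conj (show F.q2 SL23.qi * B.v * (F.q2 SL23.qi)⁻¹ = B.u from rfl)
  · -- sAbAswsaBasP
    exact of_conj (show F.q2 SL23.qi * B.w * (F.q2 SL23.qi)⁻¹ = B.p from rfl)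
  · -- uvUVA
    simpa [mul_inv_rev, mul_assoc, hA, B.v_isI.1.1.inv_inv.symm.eq] using of_conj hr.uv
  · -- pwPWA
    simpa [mul_inv_rev, mul_assoc, hA, B.w_isI.1.1.inv_inv.symm.eq] using of_conj hr.pw
  · -- uwUW
    exact of_comm hr.uw
  · -- pvPV
    exact of_comm hr.pv
  · -- upUP
    exact of_comm hr.up
  · -- sasusAsAVU
    simpa [mul_inv_rev, mul_assoc, hA] using of_conj hr.bu
  · -- saspsAsAWP
    simpa [mul_inv_rev, mul_assoc, hA] using of_conj hr.bp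
  · -- sAbAsusaBasv
    simpa using of_conj (show F.q2 SL23.qi * B.u * (F.q2 SL23.qi)⁻¹ = B.v⁻¹ from hr.qu)
  · -- sAbAspsaBasw
    simpa using of_conj (show F.q2 SL23.qi * B.p * (F.q2 SL23.qi)⁻¹ = B.w⁻¹ from hr.qp)
  · -- tuTp
    simpa using of_conj hr.Tu
  · -- tpTU
    exact of_conj hr.Tp
  · -- utsutsutsutsuts
    simpa [pow_succ, mul_assoc] using B.uts_five
  · -- sustUsustUsustUsustUsustU
    simpa [pow_succ, mul_assoc, uu] using B.sustU_five
  · -- www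
    exact cube_w
  · -- uuu
    exact cube_u
  · -- ppp
    exact cube_p
  · -- auAU
    exact of_comm B.u_xa.symm
  · -- apAP
    exact of_comm B.p_xa.symm
  · -- tUUUT
    rw [show B.u⁻¹ * (B.u⁻¹ * (B.u⁻¹ * F.T⁻¹)) = (B.u * (B.u * B.u))⁻¹ * F.T⁻¹ by group, cube_u, inv_one, one_mul, mul_inv_cancel]
  · -- atUTAtuT
    refine Eq.trans ?_ (of_comm B.p_xa.symm)
    rw [← pE]
    group
  · -- tUTwtuTWA
    refine Eq.trans ?_ (pwA)
    rw [← pE]
    group
  · -- tUTvtuTV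
    refine Eq.trans ?_ (of_comm hr.pv)
    rw [← pE]
    group
  · -- utUTUtuT
    refine Eq.trans ?_ (of_comm hr.up)
    rw [← pE]
    group
  · -- sassassas
    exact cube_c
  · -- sbssbssbs
    exact cube_d
  · -- sassBssassbssAssbs
    fpure
  · -- ttsassBssassassBssas
    rw [← mul_assoc F.T, F.T_sq, ← F.D.f_neg']
    fpure
  · -- tsasTsas
    exact (by simpa using of_conj F.T_xa.2)
  · -- tsbsTsbs
    exact (by simpa using of_conj F.T_ya.2)
  · -- sastUTsAsAWtuT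
    refine Eq.trans ?_ (bpA)
    rw [← pE]
    group
  · -- sbsvsBsAVU
    simpa [mul_inv_rev, mul_assoc, hA] using of_conj dv
  · -- sbswsBsAWtuT
    refine Eq.trans ?_ (dw)
    rw [← pE]
    group
  · -- sbsusBsU
    exact of_comm du
  · -- sbstUTsBstuT
    refine Eq.trans ?_ (of_comm dp)
    rw [← pE]
    group
  · -- ttUTTU
    refine Eq.trans ?_ (of_conj hr.Tp)
    rw [← pE]
    group

end EBase

end Frame

end CfsgLib.U43Type
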