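import Mathlib

/-!
Facts about `SL(2, 3)` used for groups of `U₄(3)` type.
-/

set_option autoImplicit false

namespace CfsgLib.U43Type

/-- `SL(2, 3)`. -/
abbrev SL23 : Type := Matrix.SpecialLinearGroup (Fin 2) (ZMod 3)

namespace SL23

/-- A matrix with determinant one from its entries. -/
def mk (a b c d : ZMod 3) (h : a * d - b * c = 1) : SL23 :=
  ⟨!![a, b; c, d], by rw [Matrix.det_fin_two_of]; exact h⟩

/-- Minus one. -/
def neg : SL23 := mk 2 0 0 2 (by decide)

/-- The element of order four `i`. -/
def qi : SL23 := mk 0 2 1 0 (by decide)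

/-- The element of order four `j`. -/
def qj : SL23 := mk 1 1 1 2 (by decide)

/-- The element of order four `k`. -/
def qk : SL23 := qi * qj

/-- The upper root element. -/
def xx : SL23 := mk 1 1 0 1 (by decide)

/-- The lower root element. -/
def yy : SL23 := mk 1 0 1 1 (by decide)

/-- Conjugation by `diag(1, -1)`. -/
def flip (a : SL23) : SL23 :=
  mk (a.1 0 0) (-a.1 0 1) (-a.1 1 0) (a.1 1 1) (by
    have h := a.2
    rw [Matrix.det_fin_two] at h
    rw [neg_mul_neg]; exact h)

theorem card_eq : Fintype.card SL23 = 24 := by decide +kernel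

theorem unique_invol : ∀ a : SL23, a * a = 1 → a = 1 ∨ a = neg := by decide +kernel

theorem neg_comm : ∀ a : SL23, neg * a = a * neg := by decide +kernel

theorem four_mul : ∀ a b : SL23, a ^ 4 = 1 → b ^ 4 = 1 → (a * b) ^ 4 = 1 := by decide +kernel

theorem four_card : Fintype.card {a : SL23 // a ^ 4 = 1} = 8 := by decide +kernel

theorem four_conj : ∀ a : SL23, a * a = neg → ∃ c, c * qi * c⁻¹ = a := by decide +kernel

theorem six_card : Fintype.card {a : SL23 // a * a = neg} = 6 := by decide +kernel

theorem flip_mul : ∀ a b : SL23, flip (a * b) = flip a * flip b := by decide +kernel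

theorem cases_gen : ∀ a : SL23, ∃ (u v : Fin 3) (q : SL23), q ^ 4 = 1 ∧ a = q * xx ^ (u : ℕ) ∧ v = 0 := by
  decide +kernel

theorem cent_four : ∀ a : SL23, a * qi = qi * a → a * qj = qj * a → a = 1 ∨ a = neg := by decide +kernel

end SL23

end CfsgLib.U43Type
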