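import Cfsg.Agent.Lib.U43Type.Model
import Cfsg.Agent.Lib.Classical.Herm.Std

/-!
The projective special unitary group is universal for the presentation of `U₄(3)`.
-/

set_option autoImplicit false

namespace CfsgLib.U43Type

open CfsgLib.CosetEnum

universe u v

variable {F : Type v} [Field F] [Fintype F]

/-- A system in the projective group which maps to every system. -/
structure Univ (F : Type v) [Field F] [Fintype F] : Type v where
  g : ℕ → Cfsg.PSU 4 F 3
  sys : IsSys g
  span_top : span g = ⊤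
  card : Nat.card (Cfsg.PSU 4 F 3) = 3265920
  simple : IsSimpleGroup (Cfsg.PSU 4 F 3)

theorem exists_univ (hF : Fintype.card F = 9) : Nonempty (Univ F) := by
  obtain ⟨g, hg, hs⟩ := Model.exists_sys hF
  exact ⟨⟨g, hg, hs, CfsgLib.SchurTable.UFourThree.card_psu_four_three hF,
    CfsgLib.Classical.Herm.isSimpleGroup_psu (q := 3) hF (by norm_num) (by simp)⟩⟩

variable {G : Type u} [Group G]

theorem wordVal_map {X Y : Type*} [Group X] [Group Y] (φ : X →* Y) (g : ℕ → X) (l : List ℕ) :
    φ (wordVal g l) = wordVal (fun x => φ (g x)) l := by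
  simp [wordVal, map_list_prod, List.map_map, Function.comp_def]

theorem wordVal_pair {X Y : Type*} [Group X] [Group Y] (g : ℕ → X) (h : ℕ → Y) (l : List ℕ) :
    wordVal (fun x => (g x, h x)) l = (wordVal g l, wordVal h l) := by
  induction l with
  | nil => rfl
  | cons x l ih => simp only [wordVal, List.map_cons, List.prod_cons] at ih ⊢; rw [ih]; rfl

namespace Univ

variable (U : Univ F)

/-- Every system is an image of the universal one. -/
theorem exists_hom {g : ℕ → G} (h : IsSys g) :
    ∃ φ : Cfsg.PSU 4 F 3 →* G, (∀ x, φ (U.g x) = g x) ∧ φ.range = span g := by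
  let gp : ℕ → G × Cfsg.PSU 4 F 3 := fun x => (g x, U.g x)
  have hsys : IsSys gp :=
    ⟨fun x hx => Prod.ext (h.high x hx) (U.sys.high x hx), fun x hx => Prod.ext (h.inv x hx) (U.sys.inv x hx),
      fun l hl => by rw [wordVal_pair, h.rel l hl, U.sys.rel l hl]; rfl⟩
  obtain ⟨hfin, hle⟩ := card_span_le hsys
  set K := span gp with hK
  have hmap₁ : K.map (MonoidHom.fst G (Cfsg.PSU 4 F 3)) = span g := by
    rw [hK, span, MonoidHom.map_closure, ← Set.image_comp]; rfl
  have hmap₂ : K.map (MonoidHom.snd G (Cfsg.PSU 4 F 3)) = ⊤ := by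
    rw [hK, span, MonoidHom.map_closure, ← Set.image_comp, ← U.span_top]; rfl
  let f₁ : K →* G := (MonoidHom.fst G (Cfsg.PSU 4 F 3)).comp K.subtype
  let f₂ : K →* Cfsg.PSU 4 F 3 := (MonoidHom.snd G (Cfsg.PSU 4 F 3)).comp K.subtype
  have hs₂ : Function.Surjective f₂ := by
    intro y
    obtain ⟨z, hz, rfl⟩ : y ∈ K.map (MonoidHom.snd G (Cfsg.PSU 4 F 3)) := hmap₂ ▸ Subgroup.mem_top y
    exact ⟨⟨z, hz⟩, rfl⟩
  haveI : Finite K := hfin
  have hb₂ : Function.Bijective f₂ := (Nat.bijective_iff_surjective_and_card f₂).mpr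
    ⟨hs₂, le_antisymm (hle.trans_eq U.card.symm) (Nat.card_le_card_of_surjective f₂ hs₂)⟩
  let e := MulEquiv.ofBijective f₂ hb₂
  have hx : ∀ x, gp x ∈ K := by
    intro x
    rcases Nat.lt_or_ge x 16 with h16 | h16
    · exact mem_span h16
    · rw [show gp x = 1 from Prod.ext (h.high x (by omega)) (U.sys.high x (by omega))]
      exact one_mem _
  refine ⟨f₁.comp e.symm.toMonoidHom, fun x => ?_, ?_⟩
  · show f₁ (e.symm (U.g x)) = g x
    rw [show U.g x = e ⟨gp x, hx x⟩ from rfl, MulEquiv.symm_apply_apply]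
    rfl
  · rw [MonoidHom.range_eq_map, ← Subgroup.map_map, Subgroup.map_top_of_surjective _ e.symm.surjective, ← hmap₁,
      ← MonoidHom.range_eq_map, MonoidHom.range_comp, Subgroup.range_subtype]

include U in
/-- A nontrivial system generates a copy of the projective group. -/
theorem span_equiv {g : ℕ → G} (h : IsSys g) (hne : g 0 ≠ 1) : Nonempty (Cfsg.PSU 4 F 3 ≃* span g) := by
  haveI := U.simple
  obtain ⟨φ, hφ, hr⟩ := U.exists_hom h
  have hinj : Function.Injective φ := by
    rcases (inferInstance : φ.ker.Normal).eq_bot_or_eq_top with hk | hk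
    · exact φ.ker_eq_bot_iff.1 hk
    · exact absurd ((hφ 0).symm.trans (MonoidHom.mem_ker.1 (hk ▸ Subgroup.mem_top (U.g 0)))) hne
  exact ⟨(MonoidHom.ofInjective hinj).trans (MulEquiv.subgroupCongr hr)⟩

end Univ

end CfsgLib.U43Type
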