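import Cfsg.Agent.Lib.U43Type.Rels
import Cfsg.Agent.Lib.U43Type.PermRep
import Cfsg.Agent.Lib.U43Type.Universal
import Cfsg.Agent.Lib.Leech.Triangle.K9

/-!
Groups of `U₄(3)` type: the subgroup generated by the letters.
-/

set_option autoImplicit false
set_option linter.style.haveILetI false

namespace CfsgLib.U43Type

open Subgroup

universe u

theorem fuse_check : CfsgLib.CosetEnum.allFrom (fun k => Nat.beq (PermRep.act (PermRep.fuseWord ++ [4, 4]) k)
    (PermRep.act ([1, 2, 1, 6, 1, 2, 1, 6] ++ PermRep.fuseWord) k)) 280 0 = true := by decide +kernel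

theorem fuse_perm :
    wordVal PermRep.perm (PermRep.fuseWord ++ [4, 4]) = wordVal PermRep.perm ([1, 2, 1, 6, 1, 2, 1, 6] ++ PermRep.fuseWord) :=
  Equiv.ext fun k => Fin.ext (by
    rw [PermRep.word_val (by decide +kernel), PermRep.word_val (by decide +kernel)]
    exact Nat.eq_of_beq_eq_true
      (CfsgLib.CosetEnum.allFrom_spec _ _ _ fuse_check k (Nat.zero_le _) (by have := k.2; omega)))

theorem perm_ne : PermRep.perm 0 ≠ 1 := fun h => by
  have := congrArg (fun p : Equiv.Perm (Fin 280) => (p 1 : ℕ)) h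
  simp only [PermRep.perm_val (show 0 < 15 by norm_num), Equiv.Perm.one_apply] at this
  exact absurd this (by decide +kernel)

theorem inj_of_ne {X : Type*} [Group X] {F : Type} [Field F] [Fintype F] (U : Univ F)
    (θ : Cfsg.PSU 4 F 3 →* X) (hne : θ (U.g 0) ≠ 1) : Function.Injective θ := by
  haveI := U.simple
  rcases (inferInstance : θ.ker.Normal).eq_bot_or_eq_top with hk | hk
  · exact θ.ker_eq_bot_iff.1 hk
  · exact absurd (MonoidHom.mem_ker.1 (hk ▸ Subgroup.mem_top (U.g 0))) hne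

namespace Frame

variable {G : Type u} [Group G] {F : Frame G}

namespace EBase

variable (B : F.EBase)

/-- The subgroup generated by the letters. -/
def H0 : Subgroup G := CfsgLib.U43Type.span B.lett

variable [Finite G]

theorem isSys_lett : IsSys B.lett := isSys_letters F.s_sq B.rels_lett

theorem xa_ne : F.xa ≠ 1 := by
  rw [xa, ← map_one F.D.f, Ne, F.D.eq_iff]; decide +kernel

theorem exists_iso (K : Type) [Field K] [Fintype K] (hK : Fintype.card K = 9) :
    Nonempty (Cfsg.PSU 4 K 3 ≃* B.H0) := by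
  obtain ⟨U⟩ := exists_univ hK
  exact U.span_equiv B.isSys_lett (xa_ne (F := F))

theorem card_H0 : Nat.card B.H0 = 3265920 := by
  obtain ⟨U⟩ := exists_univ (F := CfsgLib.Leech.Triangle.K9) CfsgLib.Leech.Triangle.K9.card_K9
  obtain ⟨e⟩ := U.span_equiv B.isSys_lett (xa_ne (F := F))
  rw [← U.card]
  exact (Nat.card_congr e.toEquiv).symm

/-- The action on the cosets of a subgroup of index 280. -/
theorem exists_action : ∃ ψ : B.H0 →* Equiv.Perm (Fin 280), Function.Injective ψ ∧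
    ∀ (x : ℕ) (h : B.lett x ∈ B.H0), ψ ⟨B.lett x, h⟩ = PermRep.perm x := by
  obtain ⟨U⟩ := exists_univ (F := CfsgLib.Leech.Triangle.K9) CfsgLib.Leech.Triangle.K9.card_K9
  haveI := U.simple
  obtain ⟨φ, hφ, hr⟩ := U.exists_hom B.isSys_lett
  obtain ⟨ρ, hρ, -⟩ := U.exists_hom PermRep.isSys_perm
  have hi1 : Function.Injective φ := inj_of_ne U φ (by rw [hφ]; exact xa_ne (F := F))
  have hi2 : Function.Injective ρ := inj_of_ne U ρ (by rw [hρ]; exact perm_ne)
  let e := (MonoidHom.ofInjective hi1).trans (MulEquiv.subgroupCongr hr)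
  refine ⟨ρ.comp e.symm.toMonoidHom, hi2.comp e.symm.injective, fun x h => ?_⟩
  have h' : e.symm ⟨B.lett x, h⟩ = U.g x :=
    (MulEquiv.symm_apply_eq e).2 (Subtype.ext (hφ x).symm)
  exact (congrArg ρ h').trans (hρ x)

theorem lett_mem (x : ℕ) : B.lett x ∈ B.H0 := by
  rcases Nat.lt_or_ge x 16 with h | h
  · exact mem_span h
  · rw [show B.lett x = 1 from B.isSys_lett.high x (by omega)]; exact one_mem _

theorem word_mem (l : List ℕ) : wordVal B.lett l ∈ B.H0 :=
  list_prod_mem fun y hy => by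
    obtain ⟨x, -, rfl⟩ := List.mem_map.1 hy
    exact B.lett_mem x

theorem f_mem (p : Pr) : F.D.f p ∈ B.H0 := by
  have hs : F.s ∈ B.H0 := B.lett_mem 6
  have ha : F.xa ∈ B.H0 := B.lett_mem 0
  have hb : F.ya ∈ B.H0 := B.lett_mem 2
  have hleft : ∀ a : SL23, F.D.f (a, 1) ∈ B.H0 := by
    intro a
    obtain ⟨e, he⟩ := SL23.word4 a
    have : F.D.f (a, 1) = F.xa ^ (e.1 : ℕ) * F.ya ^ (e.2.1 : ℕ) * F.xa ^ (e.2.2.1 : ℕ) * F.ya ^ (e.2.2.2 : ℕ) := by
      rw [xa, ya, ← map_pow, ← map_pow, ← map_pow, ← map_pow, ← map_mul, ← map_mul, ← map_mul]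
      exact congrArg F.D.f (Prod.ext (by simpa using he) (by simp))
    rw [this]
    exact mul_mem (mul_mem (mul_mem (pow_mem ha _) (pow_mem hb _)) (pow_mem ha _)) (pow_mem hb _)
  have hright : ∀ a : SL23, F.D.f (1, a) ∈ B.H0 := by
    intro a
    rw [show F.D.f (1, a) = F.s * F.D.f (a, 1) * F.s⁻¹ from (F.s_conj (a, 1)).symm]
    exact mul_mem (mul_mem hs (hleft a)) (inv_mem hs)
  obtain ⟨a, b⟩ := p
  rw [show ((a, b) : Pr) = (a, 1) * (1, b) by simp, map_mul]
  exact mul_mem (hleft a) (hright b)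

theorem cent_mem {c : G} (hc : Commute c F.D.z) : c ∈ B.H0 := by
  obtain ⟨r, i, rfl⟩ := F.decomp hc
  refine mul_mem (B.f_mem r) ?_
  fin_cases i
  · exact one_mem _
  · exact B.lett_mem 4
  · exact B.lett_mem 6
  · exact mul_mem (B.lett_mem 6) (B.lett_mem 4)

theorem fuse_mem : ∃ g ∈ B.H0, g * F.D.z * g⁻¹ = F.D.t := by
  obtain ⟨ψ, hψ, hψl⟩ := B.exists_action
  have hw : ∀ l : List ℕ, ψ ⟨wordVal B.lett l, B.word_mem l⟩ = wordVal PermRep.perm l := by
    intro l
    induction l with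
    | nil =>
      rw [show (⟨wordVal B.lett [], B.word_mem []⟩ : B.H0) = 1 from Subtype.ext rfl, map_one]; rfl
    | cons x l ih =>
      rw [show (⟨wordVal B.lett (x :: l), B.word_mem (x :: l)⟩ : B.H0) =
        ⟨B.lett x, B.lett_mem x⟩ * ⟨wordVal B.lett l, B.word_mem l⟩ from Subtype.ext (by simp [wordVal]),
        map_mul, ih, hψl]
      simp [wordVal]
  have h := congrArg Subtype.val (hψ ((hw _).trans (fuse_perm.trans (hw _).symm)))
  change wordVal B.lett _ = wordVal B.lett _ at h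
  rw [wordVal, wordVal, List.map_append, List.map_append, List.prod_append, List.prod_append] at h
  have e1 : ([4, 4].map B.lett).prod = F.D.z := by
    simp [lett, letters, F.T_sq]
  have e2 : ([1, 2, 1, 6, 1, 2, 1, 6].map B.lett).prod = F.D.t := by
    simp only [List.map_cons, List.map_nil, List.prod_cons, List.prod_nil, mul_one, lett, letters]
    have h2 : F.s * (F.xa⁻¹ * (F.ya * (F.xa⁻¹ * F.s))) = F.D.f (1, SL23.xx⁻¹ * SL23.yy * SL23.xx⁻¹) := by
      rw [show F.s * (F.xa⁻¹ * (F.ya * (F.xa⁻¹ * F.s))) = F.s * (F.xa⁻¹ * F.ya * F.xa⁻¹) * F.s⁻¹ by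
        rw [F.s_inv]; group, xa, ya, ← map_inv, ← map_mul, ← map_mul, F.s_conj]
      exact congrArg F.D.f (Prod.ext (by simp) (by simp))
    rw [h2, xa, ya, ← map_inv, ← map_mul, ← map_mul, ← map_mul, Hyp.t, F.D.eq_iff]
    decide +kernel
  rw [e1, e2] at h
  exact ⟨_, B.word_mem PermRep.fuseWord, mul_inv_eq_iff_eq_mul.2 h⟩

/-- The data restricted to the subgroup. -/
theorem exists_hyp_H0 : ∃ D' : Hyp B.H0, (D'.z : G) = F.D.z := by
  obtain ⟨g, hg, hgz⟩ := B.fuse_mem
  let z' : B.H0 := ⟨F.D.z, B.cent_mem (Commute.refl _)⟩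
  let f' : Pr →* B.H0 := F.D.f.codRestrict B.H0 B.f_mem
  have hsub : ∀ {a b : B.H0}, Commute a b → Commute (a : G) b := fun h => h.map B.H0.subtype
  have hQ : (Qs.map f').map B.H0.subtype = Qs.map F.D.f := by
    rw [Subgroup.map_map]; rfl
  have hcard : Nat.card (centralizer ({z'} : Set B.H0)) = 1152 := by
    rw [← F.D.card_C]
    refine Nat.card_congr
      { toFun := fun c => ⟨(c : B.H0), mem_centralizer_singleton_iff.2
          (congrArg Subtype.val (mem_centralizer_singleton_iff.1 c.2))⟩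
        invFun := fun c => ⟨⟨c, B.cent_mem (mem_centralizer_singleton_iff.1 c.2)⟩,
          mem_centralizer_singleton_iff.2 (Subtype.ext (mem_centralizer_singleton_iff.1 c.2))⟩
        left_inv := fun _ => rfl
        right_inv := fun _ => rfl }
  have hinter : ∀ h : B.H0, h * z' * h⁻¹ ∈ Qs.map f' → h * z' * h⁻¹ ≠ z' →
      Nat.card ↥(Qs.map f' ⊓ (Qs.map f').map (MulAut.conj h).toMonoidHom) = 4 := by
    intro h h1 h2
    obtain ⟨p, hp, hpe⟩ := h1
    rw [← F.D.inter (h : G) ⟨p, hp, congrArg Subtype.val hpe⟩ (fun e => h2 (Subtype.ext e)),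
      ← Subgroup.card_map_of_injective (K := _) B.H0.subtype_injective,
      Subgroup.map_inf _ _ _ B.H0.subtype_injective, hQ, Subgroup.map_map,
      show B.H0.subtype.comp (MulAut.conj h).toMonoidHom = (MulAut.conj (h : G)).toMonoidHom.comp B.H0.subtype from
        MonoidHom.ext fun x => by simp,
      ← Subgroup.map_map, hQ]
  refine ⟨{
    z := z'
    f := f'
    z_ne := fun h => F.D.z_ne (congrArg Subtype.val h)
    z_sq := Subtype.ext F.D.z_sq
    ker := fun p => by rw [← F.D.ker p, Subtype.ext_iff]; rfl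
    f_neg := Subtype.ext F.D.f_neg
    f_comm := fun p => Subtype.ext (F.D.f_comm p).eq
    card_C := hcard
    normal := fun c hc p => by
      obtain ⟨p', hp'⟩ := F.D.normal c (hsub hc) p
      exact ⟨p', Subtype.ext hp'⟩
    odd_mem := fun c hc ho => by
      obtain ⟨p, hp⟩ := F.D.odd_mem c (hsub hc) (by rwa [Subgroup.orderOf_coe])
      exact ⟨p, Subtype.ext hp⟩
    cent := fun c hc h => by
      obtain ⟨p, hp, hpe⟩ := F.D.cent c (hsub hc) (fun p hp => hsub (h p hp))
      exact ⟨p, hp, Subtype.ext hpe⟩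
    nwc := ⟨⟨g, hg⟩, (SL23.qi, SL23.qi), mem_Qs.2 ⟨by decide +kernel, by decide +kernel⟩,
      Subtype.ext hgz.symm, fun h => by
        have h' : F.D.t = F.D.z := hgz.symm.trans (congrArg Subtype.val h)
        rw [Hyp.t, ← F.D.f_neg, F.D.eq_iff] at h'
        exact absurd h' (by decide +kernel)⟩
    inter := hinter }, rfl⟩

/-- All involutions of the subgroup are conjugate in it. -/
theorem invol_H0 {x : G} (hx : x ∈ B.H0) (h2 : x * x = 1) (h1 : x ≠ 1) :
    ∃ h ∈ B.H0, h * F.D.z * h⁻¹ = x := by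
  obtain ⟨D', hD'⟩ := B.exists_hyp_H0
  obtain ⟨F', hF'⟩ := D'.exists_frame
  obtain ⟨c, hc⟩ := isConj_iff.1 (F'.one_class (x := (⟨x, hx⟩ : B.H0)) (Subtype.ext h2)
    (fun h => h1 (congrArg Subtype.val h)))
  refine ⟨c, c.2, ?_⟩
  have h := congrArg Subtype.val hc
  rw [Subgroup.coe_mul, Subgroup.coe_mul, Subgroup.coe_inv, hF', hD'] at h
  exact h

/-- The centralizers of the involutions of the subgroup lie in it. -/
theorem cent_invol {x c : G} (hx : x ∈ B.H0) (h2 : x * x = 1) (h1 : x ≠ 1) (hc : Commute c x) : c ∈ B.H0 := by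
  obtain ⟨h, hh, rfl⟩ := B.invol_H0 hx h2 h1
  have h' := hc.map (MulAut.conj h⁻¹).toMonoidHom
  simp only [MulEquiv.coe_toMonoidHom, MulAut.conj_apply, inv_inv] at h'
  rw [show h⁻¹ * (h * F.D.z * h⁻¹) * h = F.D.z by group] at h'
  have := mul_mem (mul_mem hh (B.cent_mem h')) (inv_mem hh)
  rwa [show h * (h⁻¹ * c * h) * h⁻¹ = c by group] at this

end EBase

end Frame

end CfsgLib.U43Type
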