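import Cfsg.Agent.Lib.U43Type.Swapper

/-!
Groups of `U₄(3)` type: two commuting-modulo-`⟨t⟩` involutions which interchange the factors.
-/

set_option autoImplicit false
set_option linter.style.haveILetI false

namespace CfsgLib.U43Type

open Subgroup

universe u

/-- Two involutions swapping the factors and their product. -/
structure Swappers {G : Type u} [Group G] (D : Hyp G) where
  p : G
  q : G
  p_sq : p * p = 1
  q_sq : q * q = 1
  p_z : Commute p D.z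
  q_z : Commute q D.z
  p_t : Commute p D.t
  q_t : Commute q D.t
  p_swp : D.Swp p
  q_swp : D.Swp q
  pq_fix : D.Fix (p * q)
  pq_sq : p * q * (p * q) = D.t
  pq_out : ∃ a a' b b', SL23.PM a SL23.qi ∧ SL23.PM a' SL23.qi ∧ SL23.PM b SL23.qk ∧ SL23.PM b' SL23.qk ∧
    Equ (a, a') (SL23.qi, SL23.qi) ∧
    p * q * D.f (SL23.qi, 1) * (p * q)⁻¹ = D.f (a, 1) ∧ p * q * D.f (1, SL23.qi) * (p * q)⁻¹ = D.f (1, a') ∧
    p * q * D.f (SL23.qj, 1) * (p * q)⁻¹ = D.f (b, 1) ∧ p * q * D.f (1, SL23.qj) * (p * q)⁻¹ = D.f (1, b')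
  p_comm : ∀ b, SL23.IsJK b → p * D.f (SL23.qj, b) * p⁻¹ ≠ D.t * D.f (SL23.qj, b)
  p_conj : IsConj D.z p ∧ IsConj D.z (p * D.z)
  q_conj : IsConj D.z q ∧ IsConj D.z (q * D.z)

namespace Hyp

variable {G : Type u} [Group G] (D : Hyp G)

/-- A composite of swaps fixes. -/
theorem swp_swp {c d : G} (hd : Commute d D.z) (hc : Commute c D.z) (h1 : D.Swp c) (h2 : D.Swp d) : D.Fix (c * d) := by
  intro a
  obtain ⟨b, hb⟩ := h2 a
  obtain ⟨r, r1, r2⟩ := D.side_image hc true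
  have hr : r = false := by
    cases r
    · rfl
    · exfalso
      obtain ⟨x, hx⟩ := r1 SL23.qi
      obtain ⟨y, hy⟩ := h1 SL23.qi
      obtain ⟨w, hw⟩ := r1 SL23.qj
      have hx' : c * D.f (SL23.qi, 1) * c⁻¹ = D.f (side true x) := hx
      have hw' : c * D.f (SL23.qj, 1) * c⁻¹ = D.f (side true w) := hw
      have hcm : Commute (c * D.f (SL23.qi, 1) * c⁻¹) (c * D.f (SL23.qj, 1) * c⁻¹) := by
        rw [hy, hw']; exact D.side_comm false y w
      have h0 := hcm.eq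
      rw [← D.conj_mul', ← D.conj_mul', mul_left_inj, mul_right_inj] at h0
      exact absurd (D.side_inj (s := true) (by simpa [side] using h0) :
        SL23.qi * SL23.qj = SL23.qj * SL23.qi) (by decide +kernel)
  subst hr
  obtain ⟨e, he⟩ := r2 b
  exact ⟨e, by
    calc c * d * D.f (a, 1) * (c * d)⁻¹ = c * (d * D.f (a, 1) * d⁻¹) * c⁻¹ := by group
      _ = _ := by rw [hb]; exact he⟩

theorem fix_fix {c d : G} (h1 : D.Fix c) (h2 : D.Fix d) : D.Fix (c * d) := by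
  intro a
  obtain ⟨b, hb⟩ := h2 a
  obtain ⟨e, he⟩ := h1 b
  exact ⟨e, by
    calc c * d * D.f (a, 1) * (c * d)⁻¹ = c * (d * D.f (a, 1) * d⁻¹) * c⁻¹ := by group
      _ = _ := by rw [hb, he]⟩

theorem jk_sq : ∀ b : SL23, SL23.IsJK b →
    ((SL23.qj, b) : Pr).1 ^ 4 = 1 ∧ ((SL23.qj, b) : Pr).2 ^ 4 = 1 ∧ Equ ((SL23.qj, b) * (SL23.qj, b)) 1 ∧
    Equ ((SL23.qj, b) * (SL23.qi, SL23.qi)) ((SL23.qi, SL23.qi) * (SL23.qj, b)) ∧
    ¬ Equ (SL23.qj, b) 1 ∧ ¬ Equ (SL23.qj, b) (SL23.neg, 1) ∧ ¬ Equ (SL23.qj, b) (SL23.qi, SL23.qi) ∧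
    ¬ Equ (SL23.qj, b) ((SL23.qi, SL23.qi) * (SL23.neg, 1)) := by decide +kernel

variable [Finite G]

variable {g : G} (hgz : g * D.z * g⁻¹ = D.t) (hgt : g * D.t * g⁻¹ = D.z)
include hgz hgt

theorem e_facts {b : SL23} (hb : SL23.IsJK b) :
    D.f (SL23.qj, b) ∈ D.DD ∧ D.f (SL23.qj, b) * D.f (SL23.qj, b) = 1 ∧
    (g * D.f (SL23.qj, b) * g⁻¹ ∈ D.DD) ∧
    g * D.f (SL23.qj, b) * g⁻¹ * (g * D.f (SL23.qj, b) * g⁻¹) = 1 ∧
    g * D.f (SL23.qj, b) * g⁻¹ ∉ D.Qm ∧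
    IsConj D.z (g * D.f (SL23.qj, b) * g⁻¹) ∧ IsConj D.z (g * D.f (SL23.qj, b) * g⁻¹ * D.z) := by
  obtain ⟨h1, h2, h3, h4, n1, n2, n3, n4⟩ := jk_sq b hb
  have hQ : D.f (SL23.qj, b) ∈ D.Qm := D.Qs_of_four h1 h2
  have ht : Commute (D.f (SL23.qj, b)) D.t := by
    show _ * _ = _ * _
    rw [t, ← map_mul, ← map_mul, D.eq_iff]; exact h4
  have hsq : D.f (SL23.qj, b) * D.f (SL23.qj, b) = 1 := by
    rw [← map_mul, ← map_one D.f, D.eq_iff]; exact h3
  have hR := D.conj_R hgz hgt (p := (SL23.qj, b)) ⟨h1, h2⟩ ht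
  refine ⟨D.mem_DD.2 ⟨D.f_comm _, ht⟩, hsq, D.mem_DD.2 hR, ?_, ?_, ?_, ?_⟩
  · calc g * D.f (SL23.qj, b) * g⁻¹ * (g * D.f (SL23.qj, b) * g⁻¹)
        = g * (D.f (SL23.qj, b) * D.f (SL23.qj, b)) * g⁻¹ := by group
      _ = 1 := by rw [hsq]; group
  · intro hmem
    have e1 : g⁻¹ * D.t * g = D.z := by rw [← hgz]; group
    have e2 : g⁻¹ * D.z * g = D.t := by rw [← hgt]; group
    have key : g⁻¹ * (g * D.f (SL23.qj, b) * g⁻¹) * g = D.f (SL23.qj, b) := by group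
    rcases D.V_eq hgz hgt hmem (by rw [key]; exact hQ) with h | h | h | h <;> rw [h] at key
    · exact n1 (D.eq_iff.1 (key.symm.trans (by rw [map_one]; group)))
    · exact n3 (D.eq_iff.1 (key.symm.trans e2))
    · exact n2 (D.eq_iff.1 (key.symm.trans (e1.trans D.f_neg.symm)))
    · exact n4 (D.eq_iff.1 (key.symm.trans (by
        rw [map_mul, D.f_neg]
        calc g⁻¹ * (D.t * D.z) * g = g⁻¹ * D.t * g * (g⁻¹ * D.z * g) := by group
          _ = D.z * D.t := by rw [e1, e2]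
          _ = _ := D.t_z.eq.symm)))
  · obtain ⟨r, hr⟩ := D.invol_conj hQ hsq (fun h => n1 (D.eq_iff.1 (h.trans (map_one _).symm)))
      (fun h => n2 (D.eq_iff.1 (h.trans D.f_neg.symm)))
    refine isConj_iff.2 ⟨g * D.f r * g, ?_⟩
    calc g * D.f r * g * D.z * (g * D.f r * g)⁻¹ = g * D.f r * (g * D.z * g⁻¹) * (D.f r)⁻¹ * g⁻¹ := by group
      _ = g * (D.f r * D.t * (D.f r)⁻¹) * g⁻¹ := by rw [hgz]; group
      _ = _ := by rw [hr]
  · obtain ⟨r, hr⟩ := D.invol_conj (x := D.f (SL23.qj, b) * D.t) (D.Qm.mul_mem hQ D.t_mem)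
      (by rw [ht.symm.mul_mul_mul_comm, hsq, D.t_sq, mul_one])
      (fun h => n3 (D.eq_iff.1 ((eq_inv_of_mul_eq_one_left h).trans (inv_eq_of_mul_eq_one_right D.t_sq))))
      (fun h => n4 (D.eq_iff.1 (by
        rw [map_mul, D.f_neg, ← h]
        show _ = D.t * (D.f (SL23.qj, b) * D.t)
        rw [ht.eq, ← mul_assoc, D.t_sq, one_mul])))
    refine isConj_iff.2 ⟨g * D.f r * g, ?_⟩
    calc g * D.f r * g * D.z * (g * D.f r * g)⁻¹ = g * D.f r * (g * D.z * g⁻¹) * (D.f r)⁻¹ * g⁻¹ := by group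
      _ = g * (D.f r * D.t * (D.f r)⁻¹) * g⁻¹ := by rw [hgz]; group
      _ = g * D.f (SL23.qj, b) * g⁻¹ * (g * D.t * g⁻¹) := by rw [hr]; group
      _ = _ := by rw [hgt]

theorem V_comm {v x : G} (hv : v = 1 ∨ v = D.z ∨ v = D.t ∨ v = D.t * D.z) (hx : x ∈ D.DD) : Commute v x := by
  obtain ⟨h1, h2⟩ := D.mem_DD.1 hx
  rcases hv with rfl | rfl | rfl | rfl
  exacts [Commute.one_left _, h1.symm, h2.symm, h2.symm.mul_left h1.symm]

/-- How a fixing element of the second intersection acts. -/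
theorem fix_outer {b : SL23} (hb : SL23.IsJK b) (h : D.Fix (g * D.f (SL23.qj, b) * g⁻¹)) :
    ∃ a a' c c', SL23.PM a SL23.qi ∧ SL23.PM a' SL23.qi ∧ SL23.PM c SL23.qk ∧ SL23.PM c' SL23.qk ∧
      Equ (a, a') (SL23.qi, SL23.qi) ∧
      g * D.f (SL23.qj, b) * g⁻¹ * D.f (SL23.qi, 1) * (g * D.f (SL23.qj, b) * g⁻¹)⁻¹ = D.f (a, 1) ∧
      g * D.f (SL23.qj, b) * g⁻¹ * D.f (1, SL23.qi) * (g * D.f (SL23.qj, b) * g⁻¹)⁻¹ = D.f (1, a') ∧
      g * D.f (SL23.qj, b) * g⁻¹ * D.f (SL23.qj, 1) * (g * D.f (SL23.qj, b) * g⁻¹)⁻¹ = D.f (c, 1) ∧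
      g * D.f (SL23.qj, b) * g⁻¹ * D.f (1, SL23.qj) * (g * D.f (SL23.qj, b) * g⁻¹)⁻¹ = D.f (1, c') := by
  obtain ⟨-, -, hd, -, hn, -⟩ := D.e_facts hgz hgt hb
  obtain ⟨hz, ht⟩ := D.mem_DD.1 hd
  have hjj : D.f (SL23.qj, SL23.qj) ∈ D.DD := (D.e_facts hgz hgt (b := SL23.qj) (Or.inl rfl)).1
  have hv := D.comm_DD hgz hgt hd hjj
  refine (D.fix_type hz ht h ⟨_, hv, ?_⟩).resolve_left hn
  rw [← (D.V_comm hgz hgt hv hjj).eq]; group

/-- An involution swapping the factors does not send `(j, b)` to `z (j, b)`. -/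
theorem swp_not_z {b : SL23} (_hb : SL23.IsJK b) {q : G} (hqD : q ∈ D.DD) (hqq : q * q = 1) (hq : D.Swp q)
    (hqe : q * D.f (SL23.qj, b) * q⁻¹ = D.z * D.f (SL23.qj, b)) : False := by
  -- a swap fixes `e`
  obtain ⟨r, r1, r2⟩ := D.side_image (mem_centralizer_singleton_iff.1 hqD.1) true
  obtain ⟨γ, hγ⟩ := hq SL23.qj
  have hqi : q⁻¹ = q := inv_eq_of_mul_eq_one_right hqq
  have hγ' : q * D.f (1, γ) * q⁻¹ = D.f (SL23.qj, 1) := by
    rw [← hγ]
    calc q * (q * D.f (SL23.qj, 1) * q⁻¹) * q⁻¹ = (q * q) * D.f (SL23.qj, 1) * (q * q)⁻¹ := by group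
      _ = _ := by rw [hqq]; group
  have hr : r = false := by
    cases r
    · rfl
    · exfalso
      obtain ⟨x, hx⟩ := r1 SL23.qj
      obtain ⟨w, hw'⟩ := r1 SL23.qi
      have hx' : q * D.f (SL23.qj, 1) * q⁻¹ = D.f (side true x) := hx
      have hw'' : q * D.f (SL23.qi, 1) * q⁻¹ = D.f (side true w) := hw'
      have hcm : Commute (q * D.f (SL23.qj, 1) * q⁻¹) (q * D.f (SL23.qi, 1) * q⁻¹) := by
        rw [hγ, hw'']; exact D.side_comm false γ w
      have h0 := hcm.eq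
      rw [← D.conj_mul', ← D.conj_mul', mul_left_inj, mul_right_inj] at h0
      exact absurd (D.side_inj (s := true) (by simpa [side] using h0) :
        SL23.qj * SL23.qi = SL23.qi * SL23.qj) (by decide +kernel)
  subst hr
  obtain ⟨δ, hδ⟩ := r2 b
  have hδ' : q * D.f (1, b) * q⁻¹ = D.f (δ, 1) := hδ
  have hqe' : D.f (δ, γ) = D.z * D.f (SL23.qj, b) := by
    rw [← hqe, show ((SL23.qj, b) : Pr) = (SL23.qj, 1) * (1, b) by simp, D.conj_mul', hγ, hδ', ← map_mul]; simp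
  rw [← D.f_neg, ← map_mul, D.eq_iff] at hqe'
  have hγb : D.f (1, b) = D.f (1, γ) ∨ D.f (1, b) = D.f (1, γ) * D.z := by
    rcases hqe' with h | h
    · left; congr 1; exact Prod.ext rfl (by simpa using (congrArg Prod.snd h).symm)
    · right
      rw [← D.f_neg', ← map_mul]; congr 1
      refine Prod.ext (by simp) ?_
      have h2 := congrArg Prod.snd h
      simp only [Prod.snd_mul, one_mul] at h2 ⊢
      rw [h2, mul_assoc, show SL23.neg * SL23.neg = 1 by decide +kernel, mul_one]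
  have hfix : q * D.f (SL23.qj, b) * q⁻¹ = D.f (SL23.qj, b) := by
    have hsplit : D.f (SL23.qj, b) = D.f (SL23.qj, 1) * D.f (1, b) := by rw [← map_mul]; simp
    have hγc : Commute (D.f (1, γ)) (D.f (SL23.qj, 1)) := D.side_comm false γ SL23.qj
    rw [hsplit, show q * (D.f (SL23.qj, 1) * D.f (1, b)) * q⁻¹ =
      q * D.f (SL23.qj, 1) * q⁻¹ * (q * D.f (1, b) * q⁻¹) by group, hγ]
    rcases hγb with h | h <;> rw [h]
    · rw [hγ', hγc.eq]
    · rw [show q * (D.f (1, γ) * D.z) * q⁻¹ = q * D.f (1, γ) * q⁻¹ * D.z from by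
          rw [mul_assoc _ q⁻¹ D.z, (Commute.inv_right (D.mem_DD.1 hqD).1.symm).symm.eq]; group, hγ',
        ← mul_assoc (D.f (1, γ)), hγc.eq, mul_assoc]
  rw [hfix, eq_comm, mul_eq_right] at hqe
  exact D.z_ne hqe

/-- The fixing element cannot be an involution. -/
theorem caseB {b b' : SL23} (hb : SL23.IsJK b) (hb' : SL23.IsJK b') (hne : b ≠ b')
    (hd : D.Fix (g * D.f (SL23.qj, b) * g⁻¹)) (hq : D.Swp (g * D.f (SL23.qj, b') * g⁻¹)) : False := by
  obtain ⟨heD, hee, hdD, hdd, -, -⟩ := D.e_facts hgz hgt hb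
  obtain ⟨hfD, hff, hqD, hqq, -, -⟩ := D.e_facts hgz hgt hb'
  obtain ⟨a, a', c, c', pa, pa', pc, pc', haa, h1, h2, h3, h4⟩ := D.fix_outer hgz hgt hb hd
  set d := g * D.f (SL23.qj, b) * g⁻¹ with hdef
  set q := g * D.f (SL23.qj, b') * g⁻¹ with qdef
  -- the image of `e`
  have hB : d * D.f (SL23.qj, b) * d⁻¹ = D.f (c, if b = SL23.qj then c' else a' * c') := by
    rw [show ((SL23.qj, b) : Pr) = (SL23.qj, 1) * (1, b) by simp, D.conj_mul', h3]
    rcases hb with rfl | rfl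
    · rw [if_pos rfl, h4, ← map_mul]; simp
    · rw [if_neg (by decide +kernel), show ((1 : SL23), SL23.qk) = ((1, SL23.qi) : Pr) * (1, SL23.qj) from
        Prod.ext (by simp) rfl, D.conj_mul', h2, h4, ← map_mul, ← map_mul]; simp
  -- the commutator is fixed by `g`
  set c0 := d * D.f (SL23.qj, b) * d⁻¹ * (D.f (SL23.qj, b))⁻¹ with hc0
  have hc0V := D.comm_DD hgz hgt hdD heD
  rw [← hc0] at hc0V
  have hggD : g * g ∈ D.DD := D.mem_DD.2 ⟨by
      show g * g * D.z = D.z * (g * g)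
      calc g * g * D.z = g * (g * D.z * g⁻¹) * g⁻¹ * (g * g) := by group
        _ = _ := by rw [hgz, hgt], by
      show g * g * D.t = D.t * (g * g)
      calc g * g * D.t = g * (g * D.t * g⁻¹) * g⁻¹ * (g * g) := by group
        _ = _ := by rw [hgt, hgz]⟩
  have hvV := D.comm_DD hgz hgt hggD heD
  set v := g * g * D.f (SL23.qj, b) * (g * g)⁻¹ * (D.f (SL23.qj, b))⁻¹ with hv
  have hw : g * d * g⁻¹ = v * D.f (SL23.qj, b) := by rw [hv, hdef]; group
  have hde : d⁻¹ = d := inv_eq_of_mul_eq_one_right hdd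
  have hei : (D.f (SL23.qj, b))⁻¹ = D.f (SL23.qj, b) := inv_eq_of_mul_eq_one_right hee
  have hc0sq : c0⁻¹ = c0 := by
    rcases hc0V with h | h | h | h <;> rw [h]
    · exact inv_one
    · exact inv_eq_of_mul_eq_one_right D.z_sq
    · exact inv_eq_of_mul_eq_one_right D.t_sq
    · refine inv_eq_of_mul_eq_one_right ?_
      rw [D.t_z.symm.mul_mul_mul_comm, D.t_sq, D.z_sq, one_mul]
  have hgc : g * c0 * g⁻¹ = c0 := by
    calc g * c0 * g⁻¹ = g * d * g⁻¹ * (g * D.f (SL23.qj, b) * g⁻¹) * (g * d * g⁻¹)⁻¹ *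
          (g * D.f (SL23.qj, b) * g⁻¹)⁻¹ := by rw [hc0]; group
      _ = v * (D.f (SL23.qj, b) * d * (D.f (SL23.qj, b))⁻¹) * v⁻¹ * d⁻¹ := by rw [hw, ← hdef]; group
      _ = D.f (SL23.qj, b) * d * (D.f (SL23.qj, b))⁻¹ * d⁻¹ := by
        have hh := D.V_comm hgz hgt hvV (D.DD.mul_mem (D.DD.mul_mem heD hdD) (D.DD.inv_mem heD))
        rw [hh.eq, mul_inv_cancel_right]
      _ = c0⁻¹ := by rw [hc0]; group
      _ = c0 := hc0sq
  have hc0' : c0 = D.t * D.z := by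
    rcases hc0V with h | h | h | h
    · exfalso
      refine caseB_one b hb a' c c' pa' pc pc' (D.eq_iff.1 ?_)
      rw [← hB, ← mul_inv_eq_one, ← hc0]; exact h
    · exact absurd (by rwa [h, hgz] at hgc) D.t_ne_z
    · exact absurd (by rwa [h, hgt] at hgc) D.t_ne_z.symm
    · exact h
  -- the action on the first factor squares to the identity
  have ha : a = SL23.qi * SL23.neg := by
    have hback : d * D.f (c, 1) * d⁻¹ = D.f (SL23.qj, 1) := by
      rw [← h3]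
      calc d * (d * D.f (SL23.qj, 1) * d⁻¹) * d⁻¹ = (d * d) * D.f (SL23.qj, 1) * (d * d)⁻¹ := by group
        _ = _ := by rw [hdd]; group
    refine caseB_two a c pa ?_
    rcases pc with rfl | rfl
    · refine Or.inl ⟨rfl, ?_⟩
      refine D.side_inj (s := true) ?_
      show D.f (a * SL23.qk, 1) = D.f (SL23.qj, 1)
      rw [← hback, show ((SL23.qk, 1) : Pr) = (SL23.qi, 1) * (SL23.qj, 1) from Prod.ext rfl (by simp),
        D.conj_mul', h1, h3, ← map_mul]; simp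
    · refine Or.inr ⟨rfl, ?_⟩
      refine D.side_inj (s := true) ?_
      show D.f (a * (SL23.qk * SL23.neg) * SL23.neg, 1) = D.f (SL23.qj, 1)
      rw [← hback, show ((SL23.qk * SL23.neg, 1) : Pr) = (SL23.qi, 1) * (SL23.qj, 1) * (SL23.neg, 1) from
        Prod.ext rfl (by simp), D.conj_mul', D.conj_mul', h1, h3, D.f_neg, (D.mem_DD.1 hdD).1.eq,
        mul_inv_cancel_right, ← D.f_neg, ← map_mul, ← map_mul]; simp
  have ha' : a' = SL23.qi * SL23.neg := caseB_three a' (ha ▸ haa)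
  -- the image of `f`
  have hef : d * (D.f (SL23.qj, b) * D.f (SL23.qj, b')) * d⁻¹ =
      D.z * (D.f (SL23.qj, b) * D.f (SL23.qj, b')) := by
    rw [← map_mul, show ((SL23.qj, b) : Pr) * (SL23.qj, b') = (SL23.neg, 1) * (1, b * b') from
      Prod.ext (show SL23.qj * SL23.qj = SL23.neg * 1 by decide +kernel) (by simp), D.conj_mul', map_mul,
      D.f_neg, (D.mem_DD.1 hdD).1.eq, mul_inv_cancel_right]
    congr 1
    rcases pm_prod b b' hb hb' hne with h | h <;> rw [h]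
    · rw [h2, ha', ← D.f_neg', ← map_mul]
      exact congrArg D.f (Prod.ext (by simp) (show SL23.qi * SL23.neg = SL23.neg * SL23.qi by decide +kernel))
    · rw [show ((1 : SL23), SL23.qi * SL23.neg) = ((1, SL23.qi) : Pr) * (1, SL23.neg) by simp, D.conj_mul', h2,
        ha', D.f_neg', (D.mem_DD.1 hdD).1.eq, mul_inv_cancel_right, map_mul, D.f_neg', ← D.f_neg', ← map_mul,
        ← map_mul, ← map_mul]
      exact congrArg D.f (Prod.ext (by simp) (show SL23.qi * SL23.neg * SL23.neg =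
        SL23.neg * (SL23.qi * SL23.neg) by decide +kernel))
  have hdf : d * D.f (SL23.qj, b') * d⁻¹ = D.t * D.f (SL23.qj, b') := by
    have hde' : d * D.f (SL23.qj, b) * d⁻¹ = c0 * D.f (SL23.qj, b) := by rw [hc0]; group
    calc d * D.f (SL23.qj, b') * d⁻¹
        = (d * D.f (SL23.qj, b) * d⁻¹)⁻¹ * (d * (D.f (SL23.qj, b) * D.f (SL23.qj, b')) * d⁻¹) := by group
      _ = D.f (SL23.qj, b) * (D.t * D.z) * (D.z * (D.f (SL23.qj, b) * D.f (SL23.qj, b'))) := by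
        rw [hde', hef, mul_inv_rev, hei, hc0sq, hc0']
      _ = D.f (SL23.qj, b) * D.t * (D.z * D.z) * D.f (SL23.qj, b) * D.f (SL23.qj, b') := by group
      _ = _ := by rw [D.z_sq, mul_one, (D.mem_DD.1 heD).2.eq, mul_assoc D.t, hee, mul_one]
  -- transport by `g`
  have hqe : q * D.f (SL23.qj, b) * q⁻¹ = D.z * D.f (SL23.qj, b) := by
    have h := congrArg (fun x => g * x * g⁻¹) hdf
    have h' : v * (D.f (SL23.qj, b) * q * (D.f (SL23.qj, b))⁻¹) * v⁻¹ = D.z * q := by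
      rw [← hgt, qdef]
      calc _ = g * d * g⁻¹ * (g * D.f (SL23.qj, b') * g⁻¹) * (g * d * g⁻¹)⁻¹ := by rw [hw]; group
        _ = g * (d * D.f (SL23.qj, b') * d⁻¹) * g⁻¹ := by group
        _ = _ := by rw [hdf]; group
    have hh := D.V_comm hgz hgt hvV (D.DD.mul_mem (D.DD.mul_mem heD hqD) (D.DD.inv_mem heD))
    rw [hh.eq, mul_inv_cancel_right] at h'
    have hqz : Commute q D.z := (D.mem_DD.1 hqD).1
    calc q * D.f (SL23.qj, b) * q⁻¹ = D.z * (D.z * q) * D.f (SL23.qj, b) * q⁻¹ := by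
          rw [← mul_assoc D.z D.z q, D.z_sq, one_mul]
      _ = D.z * D.f (SL23.qj, b) := by rw [← h']; group
  exact D.swp_not_z hgz hgt hb hqD hqq hq hqe

theorem p_comm' {b : SL23} (hb : SL23.IsJK b) (hq : D.Swp (g * D.f (SL23.qj, SL23.qk) * g⁻¹)) :
    g * D.f (SL23.qj, SL23.qj) * g⁻¹ * D.f (SL23.qj, b) * (g * D.f (SL23.qj, SL23.qj) * g⁻¹)⁻¹ ≠
      D.t * D.f (SL23.qj, b) := by
  intro h
  obtain ⟨hED, hEE, hpD, hpp, -, -⟩ := D.e_facts hgz hgt (b := SL23.qj) (Or.inl rfl)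
  obtain ⟨hbD, hbb, hbgD, hbgg, -, -⟩ := D.e_facts hgz hgt hb
  have hggD : g * g ∈ D.DD := D.mem_DD.2 ⟨by
      show g * g * D.z = D.z * (g * g)
      calc g * g * D.z = g * (g * D.z * g⁻¹) * g⁻¹ * (g * g) := by group
        _ = _ := by rw [hgz, hgt], by
      show g * g * D.t = D.t * (g * g)
      calc g * g * D.t = g * (g * D.t * g⁻¹) * g⁻¹ * (g * g) := by group
        _ = _ := by rw [hgt, hgz]⟩
  have hvV := D.comm_DD hgz hgt hggD hED
  set v := g * g * D.f (SL23.qj, SL23.qj) * (g * g)⁻¹ * (D.f (SL23.qj, SL23.qj))⁻¹ with hv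
  set p := g * D.f (SL23.qj, SL23.qj) * g⁻¹ with hp
  set y := g * D.f (SL23.qj, b) * g⁻¹ with hy
  have hgp : g * p * g⁻¹ = v * D.f (SL23.qj, SL23.qj) := by rw [hv, hp]; group
  have h' : v * (D.f (SL23.qj, SL23.qj) * y * (D.f (SL23.qj, SL23.qj))⁻¹) * v⁻¹ = D.z * y := by
    calc v * (D.f (SL23.qj, SL23.qj) * y * (D.f (SL23.qj, SL23.qj))⁻¹) * v⁻¹
        = g * p * g⁻¹ * (g * D.f (SL23.qj, b) * g⁻¹) * (g * p * g⁻¹)⁻¹ := by rw [hgp, hy]; group
      _ = g * (p * D.f (SL23.qj, b) * p⁻¹) * g⁻¹ := by group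
      _ = g * D.t * g⁻¹ * y := by rw [h, hy]; group
      _ = _ := by rw [hgt]
  have hh := D.V_comm hgz hgt hvV (D.DD.mul_mem (D.DD.mul_mem hED hbgD) (D.DD.inv_mem hED))
  rw [hh.eq, mul_inv_cancel_right] at h'
  have hye : y * D.f (SL23.qj, SL23.qj) * y⁻¹ = D.z * D.f (SL23.qj, SL23.qj) := by
    calc y * D.f (SL23.qj, SL23.qj) * y⁻¹ = D.z * (D.z * y) * D.f (SL23.qj, SL23.qj) * y⁻¹ := by
          rw [← mul_assoc D.z D.z y, D.z_sq, one_mul]
      _ = D.z * D.f (SL23.qj, SL23.qj) := by rw [← h']; group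
  rcases hb with rfl | rfl
  · -- the commutator of `p` with its own preimage is fixed by `g`
    have hcV := D.comm_DD hgz hgt hpD hED
    have hc : p * D.f (SL23.qj, SL23.qj) * p⁻¹ * (D.f (SL23.qj, SL23.qj))⁻¹ = D.t := by rw [h]; group
    have hye' : p * D.f (SL23.qj, SL23.qj) * p⁻¹ = D.z * D.f (SL23.qj, SL23.qj) := hye
    exact D.t_ne_z (mul_right_cancel (h.symm.trans hye'))
  · exact D.swp_not_z hgz hgt (Or.inl rfl) hbgD hbgg hq hye

omit hgz hgt in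
/-- The centralizer contains the two swapping involutions. -/
theorem nonempty_swappers : Nonempty (Swappers D) := by
  obtain ⟨g, hgz, hgt⟩ := D.exists_swap
  have hj : SL23.IsJK SL23.qj := Or.inl rfl
  have hk : SL23.IsJK SL23.qk := Or.inr rfl
  obtain ⟨hjD, -, hpD, hpp, -, hpc⟩ := D.e_facts hgz hgt hj
  obtain ⟨-, -, hqD, hqq, -, hqc⟩ := D.e_facts hgz hgt hk
  set p := g * D.f (SL23.qj, SL23.qj) * g⁻¹ with hp
  set q := g * D.f (SL23.qj, SL23.qk) * g⁻¹ with hq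
  have hpq : p * q = g * D.f (SL23.neg, SL23.qj * SL23.qk) * g⁻¹ := by
    rw [hp, hq, show (SL23.neg, SL23.qj * SL23.qk) = ((SL23.qj, SL23.qj) : Pr) * (SL23.qj, SL23.qk) from
      Prod.ext (show SL23.neg = SL23.qj * SL23.qj by decide +kernel) rfl, map_mul]; group
  have hsq : p * q * (p * q) = D.t := by
    rw [hpq, ← hgz, show g * D.f (SL23.neg, SL23.qj * SL23.qk) * g⁻¹ * (g * D.f (SL23.neg, SL23.qj * SL23.qk) * g⁻¹) =
      g * (D.f (SL23.neg, SL23.qj * SL23.qk) * D.f (SL23.neg, SL23.qj * SL23.qk)) * g⁻¹ by group, ← map_mul,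
      ← D.f_neg']
    congr 2; rw [D.eq_iff]; decide +kernel
  have hnQ : p * q ∉ D.Qm := by
    intro hmem
    have hW : D.f (SL23.neg, SL23.qj * SL23.qk) ∈ D.Qm := D.mem_Qm (by rw [mem_Qs]; decide +kernel)
    rcases D.V_eq hgz hgt hmem (by rw [hpq]; convert hW using 1; group) with h | h | h | h
    · rw [h, mul_one] at hsq; exact D.t_ne hsq.symm
    · rw [h, D.z_sq] at hsq; exact D.t_ne hsq.symm
    · rw [h, D.t_sq] at hsq; exact D.t_ne hsq.symm
    · rw [h, D.t_z.symm.mul_mul_mul_comm, D.t_sq, D.z_sq, one_mul] at hsq; exact D.t_ne hsq.symm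
  obtain ⟨hpz, hpt⟩ := D.mem_DD.1 hpD
  obtain ⟨hqz, hqt⟩ := D.mem_DD.1 hqD
  have hxD : p * q ∈ D.DD := D.DD.mul_mem hpD hqD
  have hv := D.comm_DD hgz hgt hxD hjD
  have hout : D.Fix (p * q) → ∃ a a' b b', SL23.PM a SL23.qi ∧ SL23.PM a' SL23.qi ∧ SL23.PM b SL23.qk ∧
      SL23.PM b' SL23.qk ∧ Equ (a, a') (SL23.qi, SL23.qi) ∧
      p * q * D.f (SL23.qi, 1) * (p * q)⁻¹ = D.f (a, 1) ∧ p * q * D.f (1, SL23.qi) * (p * q)⁻¹ = D.f (1, a') ∧
      p * q * D.f (SL23.qj, 1) * (p * q)⁻¹ = D.f (b, 1) ∧ p * q * D.f (1, SL23.qj) * (p * q)⁻¹ = D.f (1, b') :=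
    fun hfx => (D.fix_type (hpz.mul_left hqz) (hpt.mul_left hqt) hfx
      ⟨_, hv, by rw [← (D.V_comm hgz hgt hv hjD).eq]; group⟩).resolve_left hnQ
  rcases D.fix_or_swap hpz with hp' | hp' <;> rcases D.fix_or_swap hqz with hq' | hq'
  · exfalso
    obtain ⟨a, a', c, c', pa, -, pc, -, -, h1, -, h3, -⟩ := D.fix_outer hgz hgt hj hp'
    obtain ⟨a₂, -, c₂, -, -, -, pc₂, -, -, -, -, h3₂, -⟩ := D.fix_outer hgz hgt hk hq'
    obtain ⟨-, -, b, -, -, -, pb, -, -, -, -, hb3, -⟩ := hout (D.fix_fix hp' hq')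
    rw [← hp] at h1 h3; rw [← hq] at h3₂
    have hk' : p * D.f (SL23.qk, 1) * p⁻¹ = D.f (a * c, 1) := by
      rw [show ((SL23.qk, 1) : Pr) = (SL23.qi, 1) * (SL23.qj, 1) from Prod.ext rfl (by simp), D.conj_mul', h1,
        h3, ← map_mul]; simp
    have he : D.f (b, 1) = p * D.f (c₂, 1) * p⁻¹ := by
      rw [← hb3, ← h3₂]; group
    obtain ⟨-, hno⟩ := outer_twice a c pa pc
    refine hno b pb ?_
    rcases pm_neg D pc₂ true with h | h
    · left
      have h' : D.f (c₂, 1) = D.f (SL23.qk, 1) := h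
      rw [h', hk'] at he
      exact (D.side_inj (s := true) he).symm
    · right
      have h' : D.f (c₂, 1) = D.f (SL23.qk, 1) * D.z := h
      rw [h', show p * (D.f (SL23.qk, 1) * D.z) * p⁻¹ = p * D.f (SL23.qk, 1) * (D.z * p⁻¹) by group,
        hpz.inv_left.symm.eq, ← mul_assoc, hk', ← D.f_neg, ← map_mul] at he
      have h2 : b = a * c * SL23.neg := D.side_inj (s := true) (he.trans (by simp [side]))
      rw [h2, mul_assoc, show SL23.neg * SL23.neg = 1 by decide +kernel, mul_one]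
  · exact (D.caseB hgz hgt hj hk (by decide +kernel) hp' hq').elim
  · exact (D.caseB hgz hgt hk hj (by decide +kernel) hq' hp').elim
  · have hfix : D.Fix (p * q) := D.swp_swp hqz hpz hp' hq'
    exact ⟨⟨p, q, hpp, hqq, hpz, hqz, hpt, hqt, hp', hq', hfix, hsq, hout hfix,
      fun b hb => D.p_comm' hgz hgt hb hq', hpc, hqc⟩⟩

end Hyp

end CfsgLib.U43Type
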