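import Cfsg.Agent.Lib.U43Type.Pair

/-!
Groups of `U₄(3)` type: the centralizer contains an involution interchanging the two factors.
-/

set_option autoImplicit false
set_option linter.style.haveILetI false

namespace CfsgLib.U43Type

open Subgroup

universe u

/-- Membership in the class of `±j` or of `±k`. -/
def SL23.IsJK (a : SL23) : Prop := a = SL23.qj ∨ a = SL23.qk

instance : DecidablePred SL23.IsJK := fun a => by unfold SL23.IsJK; infer_instance

/-- The element, up to sign. -/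
def SL23.PM (a b : SL23) : Prop := a = b ∨ a = b * SL23.neg

instance (a b : SL23) : Decidable (SL23.PM a b) := by unfold SL23.PM; infer_instance

namespace Hyp

variable {G : Type u} [Group G] (D : Hyp G)

theorem Qs_of_four {a b : SL23} (ha : a ^ 4 = 1) (hb : b ^ 4 = 1) : D.f (a, b) ∈ D.Qm :=
  D.mem_Qm (show (a, b) ∈ Qs from ⟨ha, hb⟩)

theorem conj_ext {c d : G} (hc : Commute c D.z) (hd : Commute d D.z)
    (h1 : c * D.f (SL23.qi, 1) * c⁻¹ = d * D.f (SL23.qi, 1) * d⁻¹)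
    (h2 : c * D.f (SL23.qj, 1) * c⁻¹ = d * D.f (SL23.qj, 1) * d⁻¹)
    (h3 : c * D.f (1, SL23.qi) * c⁻¹ = d * D.f (1, SL23.qi) * d⁻¹)
    (h4 : c * D.f (1, SL23.qj) * c⁻¹ = d * D.f (1, SL23.qj) * d⁻¹) : c = d ∨ c = d * D.z := by
  refine D.eq_of_conj_eq hc hd fun p hp => ?_
  obtain ⟨m, n, hmn⟩ := SL23.q8_words _ hp.1
  obtain ⟨m', n', hmn'⟩ := SL23.q8_words _ hp.2
  have hp' : p = ((SL23.qi, 1) : Pr) ^ (m : ℕ) * (SL23.qj, 1) ^ (n : ℕ) *
      ((1, SL23.qi) ^ (m' : ℕ) * (1, SL23.qj) ^ (n' : ℕ)) := Prod.ext (by simpa using hmn) (by simpa using hmn')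
  have e : ∀ (x : G) (r : Pr), x * D.f r * x⁻¹ = (MulAut.conj x).toMonoidHom.comp D.f r := fun _ _ => rfl
  rw [hp', e c, e d]
  simp only [map_mul, map_pow, MonoidHom.comp_apply, MulEquiv.coe_toMonoidHom, MulAut.conj_apply, h1, h2, h3, h4]

theorem quad_cases : ∀ a b : SL23, a * a = SL23.neg → b * b = SL23.neg → Equ (a, b) (SL23.qi, SL23.qi) →
    SL23.PM a SL23.qi ∧ SL23.PM b SL23.qi := by decide +kernel

theorem jk_cases : ∀ a b : SL23, (Equ (a, b) (SL23.qj, SL23.qj) ∨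
    Equ (a, b) ((SL23.qj, SL23.qj) * (SL23.neg, 1)) ∨
    Equ (a, b) ((SL23.qj, SL23.qj) * (SL23.qi, SL23.qi)) ∨
    Equ (a, b) ((SL23.qj, SL23.qj) * ((SL23.qi, SL23.qi) * (SL23.neg, 1)))) →
    (SL23.PM a SL23.qj ∧ SL23.PM b SL23.qj) ∨ (SL23.PM a SL23.qk ∧ SL23.PM b SL23.qk) := by decide +kernel

theorem inner_exists : ∀ a b : SL23, SL23.PM a SL23.qi → SL23.PM b SL23.qj →
    ∃ r : Q8, r.1 * SL23.qi * r.1⁻¹ = a ∧ r.1 * SL23.qj * r.1⁻¹ = b := by decide +kernel

theorem pm_neg {a b : SL23} (h : SL23.PM a b) (s : Bool) :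
    D.f (side s a) = D.f (side s b) ∨ D.f (side s a) = D.f (side s b) * D.z := by
  rcases h with rfl | rfl
  · exact Or.inl rfl
  · right
    rw [side_mul, map_mul]
    cases s
    · rw [show D.f (side false SL23.neg) = D.z from D.f_neg']
    · rw [show D.f (side true SL23.neg) = D.z from D.f_neg]

/-- How an element fixing the factors acts. -/
theorem fix_image {c : G} (hc : Commute c D.z) (h : D.Fix c) {a : SL23} (ha : a * a = SL23.neg) :
    (∃ b, b * b = SL23.neg ∧ c * D.f (a, 1) * c⁻¹ = D.f (b, 1)) ∧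
      ∃ b, b * b = SL23.neg ∧ c * D.f (1, a) * c⁻¹ = D.f (1, b) := by
  obtain ⟨r, h1, h2⟩ := D.side_image hc true
  have hr : r = true := by
    cases r
    · exfalso
      obtain ⟨b, hb⟩ := h1 a
      obtain ⟨d, hd⟩ := h a
      have he := D.eq_iff.1 (hb.symm.trans hd)
      obtain ⟨-, -, n3, -⟩ := six_not a ha
      -- an element of order four is not central
      have hcen : Commute (c * D.f (a, 1) * c⁻¹) (c * D.f (SL23.qi, 1) * c⁻¹) ∧
          Commute (c * D.f (a, 1) * c⁻¹) (c * D.f (SL23.qj, 1) * c⁻¹) := by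
        obtain ⟨x, hx⟩ := h1 SL23.qi
        obtain ⟨y, hy⟩ := h1 SL23.qj
        have hx' : c * D.f (SL23.qi, 1) * c⁻¹ = D.f (side false x) := hx
        have hy' : c * D.f (SL23.qj, 1) * c⁻¹ = D.f (side false y) := hy
        rw [hd, hx', hy']
        exact ⟨D.side_comm true d x, D.side_comm true d y⟩
      have hcc : ∀ e : SL23, Commute (c * D.f (a, 1) * c⁻¹) (c * D.f (e, 1) * c⁻¹) → a * e = e * a := by
        intro e he
        have h' : D.f ((a, 1) * (e, 1)) = D.f ((e, 1) * (a, 1)) := by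
          have h0 := he.eq
          rw [← D.conj_mul', ← D.conj_mul', mul_left_inj, mul_right_inj] at h0
          exact h0
        exact D.side_inj (s := true) (by simpa [side] using h')
      rcases SL23.gen_centre a (hcc _ hcen.1) (hcc _ hcen.2) with rfl | rfl
      · exact absurd ha (by decide +kernel)
      · exact n3 (by decide +kernel)
    · rfl
  subst hr
  have key : ∀ (s : Bool) (b : SL23), c * D.f (side s a) * c⁻¹ = D.f (side s b) → b * b = SL23.neg := by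
    intro s b hb
    refine D.side_inj (s := s) ?_
    rw [side_mul, map_mul, ← hb, show c * D.f (side s a) * c⁻¹ * (c * D.f (side s a) * c⁻¹) =
      c * (D.f (side s a) * D.f (side s a)) * c⁻¹ by group, ← map_mul, ← side_mul, ha]
    have hz : D.f (side s SL23.neg) = D.z := by cases s <;> [exact D.f_neg'; exact D.f_neg]
    rw [hz, hc.eq, mul_inv_cancel_right]
  constructor
  · obtain ⟨b, hb⟩ := h1 a; exact ⟨b, key true b hb, hb⟩
  · obtain ⟨b, hb⟩ := h2 a; exact ⟨b, key false b hb, hb⟩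

/-- An element fixing both factors, fixing `t` and moving `(j, j)` by an element of `⟨z, t⟩`, is inner or outer on both. -/
theorem fix_type {c : G} (hc : Commute c D.z) (ht : Commute c D.t) (h : D.Fix c)
    (hv : ∃ v, (v = 1 ∨ v = D.z ∨ v = D.t ∨ v = D.t * D.z) ∧
      c * D.f (SL23.qj, SL23.qj) * c⁻¹ = D.f (SL23.qj, SL23.qj) * v) :
    c ∈ D.Qm ∨ ∃ a a' b b', SL23.PM a SL23.qi ∧ SL23.PM a' SL23.qi ∧ SL23.PM b SL23.qk ∧ SL23.PM b' SL23.qk ∧
      Equ (a, a') (SL23.qi, SL23.qi) ∧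
      c * D.f (SL23.qi, 1) * c⁻¹ = D.f (a, 1) ∧ c * D.f (1, SL23.qi) * c⁻¹ = D.f (1, a') ∧
      c * D.f (SL23.qj, 1) * c⁻¹ = D.f (b, 1) ∧ c * D.f (1, SL23.qj) * c⁻¹ = D.f (1, b') := by
  obtain ⟨⟨a, ha, hai⟩, a', ha', hai'⟩ := D.fix_image hc h (a := SL23.qi) (by decide +kernel)
  obtain ⟨⟨b, hb, hbj⟩, b', hb', hbj'⟩ := D.fix_image hc h (a := SL23.qj) (by decide +kernel)
  have hti : D.f (a, a') = D.t := by
    rw [show (a, a') = ((a, 1) : Pr) * (1, a') by simp, map_mul, ← hai, ← hai', ← D.conj_mul',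
      show ((SL23.qi, 1) : Pr) * (1, SL23.qi) = (SL23.qi, SL23.qi) by simp]
    show c * D.t * c⁻¹ = D.t
    rw [ht.eq, mul_inv_cancel_right]
  obtain ⟨pa, pa'⟩ := quad_cases a a' ha ha' (D.eq_iff.1 hti)
  obtain ⟨v, hv, hve⟩ := hv
  have hjj : D.f (b, b') = D.f (SL23.qj, SL23.qj) * v := by
    rw [show (b, b') = ((b, 1) : Pr) * (1, b') by simp, map_mul, ← hbj, ← hbj', ← D.conj_mul',
      show ((SL23.qj, 1) : Pr) * (1, SL23.qj) = (SL23.qj, SL23.qj) by simp, hve]
  rcases jk_cases b b' (by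
      rcases hv with rfl | rfl | rfl | rfl
      · exact Or.inl (D.eq_iff.1 (by rw [hjj, mul_one]))
      · exact Or.inr (Or.inl (D.eq_iff.1 (by rw [hjj, map_mul, D.f_neg])))
      · exact Or.inr (Or.inr (Or.inl (D.eq_iff.1 (by rw [hjj, map_mul]; rfl))))
      · exact Or.inr (Or.inr (Or.inr (D.eq_iff.1 (by rw [hjj, map_mul, map_mul, D.f_neg]; rfl))))) with ⟨pb, pb'⟩ | ⟨pb, pb'⟩
  · left
    obtain ⟨r, hr1, hr2⟩ := inner_exists a b pa pb
    obtain ⟨r', hr1', hr2'⟩ := inner_exists a' b' pa' pb'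
    have hd : D.f (r.1, r'.1) ∈ D.Qm := D.Qs_of_four r.2 r'.2
    rcases D.conj_ext hc (D.f_comm (r.1, r'.1))
      (by rw [hai, ← map_inv, ← map_mul, ← map_mul]; exact congrArg D.f (Prod.ext (by simpa using hr1.symm) (by simp)))
      (by rw [hbj, ← map_inv, ← map_mul, ← map_mul]; exact congrArg D.f (Prod.ext (by simpa using hr2.symm) (by simp)))
      (by rw [hai', ← map_inv, ← map_mul, ← map_mul]; exact congrArg D.f (Prod.ext (by simp) (by simpa using hr1'.symm)))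
      (by rw [hbj', ← map_inv, ← map_mul, ← map_mul]; exact congrArg D.f (Prod.ext (by simp) (by simpa using hr2'.symm)))
      with rfl | rfl
    · exact hd
    · exact mul_mem hd D.z_mem
  · exact Or.inr ⟨a, a', b, b', pa, pa', pb, pb', D.eq_iff.1 hti, hai, hai', hbj, hbj'⟩

theorem pm_prod : ∀ b b' : SL23, SL23.IsJK b → SL23.IsJK b' → b ≠ b' →
    SL23.PM (b * b') SL23.qi := by decide +kernel

theorem caseB_one : ∀ b : SL23, SL23.IsJK b → ∀ a' c c' : SL23,
    SL23.PM a' SL23.qi → SL23.PM c SL23.qk → SL23.PM c' SL23.qk →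
    ¬ Equ (c, if b = SL23.qj then c' else a' * c') (SL23.qj, b) := by decide +kernel

theorem caseB_two : ∀ a c : SL23, SL23.PM a SL23.qi →
    (c = SL23.qi * SL23.qj ∧ a * c = SL23.qj ∨
      c = SL23.qi * SL23.qj * SL23.neg ∧ a * c * SL23.neg = SL23.qj) →
    a = SL23.qi * SL23.neg := by decide +kernel

theorem caseB_three : ∀ a' : SL23, Equ (SL23.qi * SL23.neg, a') (SL23.qi, SL23.qi) →
    a' = SL23.qi * SL23.neg := by decide +kernel

theorem outer_twice : ∀ a c : SL23, SL23.PM a SL23.qi → SL23.PM c SL23.qk →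
    SL23.PM (a * c) SL23.qj ∧ ∀ c' : SL23, SL23.PM c' SL23.qk →
      ¬ SL23.PM (a * c) c' := by decide +kernel

variable [Finite G]

variable {g : G} (hgz : g * D.z * g⁻¹ = D.t) (hgt : g * D.t * g⁻¹ = D.z)
include hgz hgt

theorem V_eq {x : G} (hx : x ∈ D.Qm) (hx' : g⁻¹ * x * g ∈ D.Qm) :
    x = 1 ∨ x = D.z ∨ x = D.t ∨ x = D.t * D.z := by
  classical
  set W := D.Qm ⊓ D.Qm.map (MulAut.conj g).toMonoidHom with hW
  have hmem : ∀ y, y ∈ D.Qm → g⁻¹ * y * g ∈ D.Qm → y ∈ W := fun y h1 h2 =>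
    ⟨h1, ⟨_, h2, by simp only [MulEquiv.coe_toMonoidHom, MulAut.conj_apply]; group⟩⟩
  have hcard : Nat.card W = 4 := D.inter g (by rw [hgz]; exact D.t_mem) (by rw [hgz]; exact D.t_ne_z)
  have e1 : g⁻¹ * D.t * g = D.z := by rw [← hgz]; group
  have e2 : g⁻¹ * D.z * g = D.t := by rw [← hgt]; group
  have hz : D.z ∈ W := hmem _ D.z_mem (by rw [e2]; exact D.t_mem)
  have ht : D.t ∈ W := hmem _ D.t_mem (by rw [e1]; exact D.z_mem)
  haveI := Fintype.ofFinite W
  by_contra hc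
  simp only [not_or] at hc
  have h := Finset.card_le_univ ({⟨x, hmem x hx hx'⟩, ⟨1, W.one_mem⟩, ⟨D.z, hz⟩, ⟨D.t, ht⟩,
    ⟨D.t * D.z, W.mul_mem ht hz⟩} : Finset W)
  rw [← Nat.card_eq_fintype_card, hcard, Finset.card_insert_of_notMem, Finset.card_insert_of_notMem,
    Finset.card_insert_of_notMem, Finset.card_insert_of_notMem, Finset.card_singleton] at h
  · omega
  all_goals simp only [Finset.mem_insert, Finset.mem_singleton, Subtype.mk.injEq, not_or]
  · exact fun h => D.z_ne (by rwa [left_eq_mul] at h)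
  · exact ⟨fun h => D.t_ne_z h.symm, fun h => D.t_ne (by rwa [right_eq_mul] at h)⟩
  · exact ⟨fun h => D.z_ne h.symm, fun h => D.t_ne h.symm, fun h => D.t_ne_z (by
      rw [eq_comm, mul_eq_one_iff_eq_inv] at h
      rw [h]; exact inv_eq_of_mul_eq_one_right D.z_sq)⟩
  · exact ⟨hc.1, hc.2.1, hc.2.2.1, hc.2.2.2⟩

/-- An element of the second quaternion intersection. -/
theorem conj_R {p : Pr} (hp : p ∈ Qs) (ht : Commute (D.f p) D.t) :
    Commute (g * D.f p * g⁻¹) D.z ∧ Commute (g * D.f p * g⁻¹) D.t := by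
  constructor
  · have := ht.map (MulAut.conj g).toMonoidHom
    simp only [MulEquiv.coe_toMonoidHom, MulAut.conj_apply] at this
    rwa [hgt] at this
  · have := (D.f_comm p).map (MulAut.conj g).toMonoidHom
    simp only [MulEquiv.coe_toMonoidHom, MulAut.conj_apply] at this
    rwa [hgz] at this

theorem comm_DD {x y : G} (hx : x ∈ D.DD) (hy : y ∈ D.DD) :
    x * y * x⁻¹ * y⁻¹ = 1 ∨ x * y * x⁻¹ * y⁻¹ = D.z ∨ x * y * x⁻¹ * y⁻¹ = D.t ∨
      x * y * x⁻¹ * y⁻¹ = D.t * D.z := by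
  have hS : D.DD ≤ centralizer ({D.z} : Set G) := inf_le_left
  have e1 : g⁻¹ * D.t * g = D.z := by rw [← hgz]; group
  have e2 : g⁻¹ * D.z * g = D.t := by rw [← hgt]; group
  have hconj : ∀ {a : G}, a ∈ D.DD → g⁻¹ * a * g ∈ D.DD := by
    intro a ha
    obtain ⟨h1, h2⟩ := D.mem_DD.1 ha
    have h1' := h1.map (MulAut.conj g⁻¹).toMonoidHom
    have h2' := h2.map (MulAut.conj g⁻¹).toMonoidHom
    simp only [MulEquiv.coe_toMonoidHom, MulAut.conj_apply, inv_inv] at h1' h2'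
    rw [e2] at h1'; rw [e1] at h2'
    exact D.mem_DD.2 ⟨h2', h1'⟩
  refine D.V_eq hgz hgt (D.comm_mem_Qm hS D.card_DD hx hy) ?_
  have := D.comm_mem_Qm hS D.card_DD (hconj hx) (hconj hy)
  convert this using 1
  group

end Hyp

end CfsgLib.U43Type
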