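import Cfsg.Agent.Lib.U43Type.URel

/-!
Groups of `U₄(3)` type: the parameter of the extension is one.
-/

set_option autoImplicit false
set_option linter.style.haveILetI false

namespace CfsgLib.U43Type

open Subgroup

universe u

namespace Frame

variable {G : Type u} [Group G] {F : Frame G}

namespace EBase

variable (B : F.EBase) [Finite G]

theorem el_congr {a b c d a' b' c' d' : Fin 3} (h : (a, b, c, d) = (a', b', c', d')) :
    B.el a b c d = B.el a' b' c' d' := by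
  simp only [Prod.mk.injEq] at h
  obtain ⟨rfl, rfl, rfl, rfl⟩ := h
  rfl

theorem v_el : B.v = B.el 0 0 1 0 := by rw [el]; simp [xel, Prod.mk_one_one]

theorem w_el : B.w = B.el 0 0 0 1 := by rw [el]; simp [xel, Prod.mk_one_one]

theorem xa_el : F.xa = B.el 1 0 0 0 := by rw [el]; simp [xel, xa]

theorem xb_el : F.xb = B.el 0 1 0 0 := by rw [el]; simp [xel, xb]

theorem xel_el (i j : Fin 3) : F.xel i j = B.el i j 0 0 := by rw [el]; simp

theorem el_form (i j k l : Fin 3) :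
    B.el i j k l = F.xa ^ (i : ℕ) * F.xb ^ (j : ℕ) * (B.v ^ (k : ℕ) * B.w ^ (l : ℕ)) := by
  rw [el, xel, xa, xb, ← map_pow, ← map_pow, ← map_mul]
  congr 2
  exact Prod.ext (by simp) (by simp)

theorem el_inv (i j k l : Fin 3) : (B.el i j k l)⁻¹ = B.el (-i) (-j) (-k) (-l) := by
  refine inv_eq_of_mul_eq_one_right ?_
  rw [B.el_mul, add_neg_cancel, add_neg_cancel, add_neg_cancel, add_neg_cancel, el]
  simp [xel, Prod.mk_one_one]

theorem el_pow (i j k l : Fin 3) (n : Fin 3) : B.el i j k l ^ (n : ℕ) = B.el (n * i) (n * j) (n * k) (n * l) := by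
  fin_cases n
  · simp [el, xel, Prod.mk_one_one]
  · simp
  · show B.el i j k l ^ 2 = B.el (2 * i) (2 * j) (2 * k) (2 * l)
    have h : ∀ a : Fin 3, a + a = 2 * a := by decide
    rw [pow_two, B.el_mul, h, h, h, h]

/-- An element acting on the four generators acts linearly. -/
theorem conj_el {g : G} {A : Fin 4 → Fin 4 → Fin 3}
    (ha : g * F.xa * g⁻¹ = B.el (A 0 0) (A 0 1) (A 0 2) (A 0 3))
    (hb : g * F.xb * g⁻¹ = B.el (A 1 0) (A 1 1) (A 1 2) (A 1 3))
    (hv : g * B.v * g⁻¹ = B.el (A 2 0) (A 2 1) (A 2 2) (A 2 3))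
    (hw : g * B.w * g⁻¹ = B.el (A 3 0) (A 3 1) (A 3 2) (A 3 3)) (i j k l : Fin 3) :
    g * B.el i j k l * g⁻¹ = B.el (i * A 0 0 + j * A 1 0 + (k * A 2 0 + l * A 3 0))
      (i * A 0 1 + j * A 1 1 + (k * A 2 1 + l * A 3 1)) (i * A 0 2 + j * A 1 2 + (k * A 2 2 + l * A 3 2))
      (i * A 0 3 + j * A 1 3 + (k * A 2 3 + l * A 3 3)) := by
  rw [B.el_form i j k l, show g * (F.xa ^ (i : ℕ) * F.xb ^ (j : ℕ) * (B.v ^ (k : ℕ) * B.w ^ (l : ℕ))) * g⁻¹ =
    (g * F.xa * g⁻¹) ^ (i : ℕ) * (g * F.xb * g⁻¹) ^ (j : ℕ) *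
      ((g * B.v * g⁻¹) ^ (k : ℕ) * (g * B.w * g⁻¹) ^ (l : ℕ)) by simp only [conj_pow]; group,
    ha, hb, hv, hw, B.el_pow, B.el_pow, B.el_pow, B.el_pow, B.el_mul, B.el_mul, B.el_mul]

theorem u_act {k : Fin 3} (h : B.Rel k) :
    B.u * F.xa * B.u⁻¹ = B.el 1 0 0 0 ∧ B.u * F.xb * B.u⁻¹ = B.el k 1 2 0 ∧
    B.u * B.v * B.u⁻¹ = B.el k 0 1 0 ∧ B.u * B.w * B.u⁻¹ = B.el 0 0 0 1 := by
  have ha : B.u * F.xa * B.u⁻¹ = B.el 1 0 0 0 := by rw [B.u_xa.eq, mul_inv_cancel_right, ← B.xa_el]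
  have hA : B.u * F.xel k 0 * B.u⁻¹ = F.xel k 0 := by
    rw [(F.AA_comm (F.mem_AA.2 ⟨k, rfl⟩) B.u_xa).eq, mul_inv_cancel_right]
  have hv : B.u * B.v * B.u⁻¹ = B.el k 0 1 0 := by
    rw [h.uv, B.v_el, B.xel_el, B.el_mul]; simp
  refine ⟨ha, ?_, hv, by rw [h.uw.eq, mul_inv_cancel_right, ← B.w_el]⟩
  have h1 : F.xb = (B.u * B.v * B.u⁻¹) * (B.u * F.xel k 0 * B.u⁻¹) * (B.u * F.xb * B.u⁻¹) := by
    calc F.xb = (F.xb * B.u * F.xb⁻¹) * F.xb * B.u⁻¹ := by group
      _ = _ := by rw [h.bu]; group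
  rw [hv, hA, B.xel_el, B.el_mul] at h1
  rw [eq_inv_mul_iff_mul_eq.2 h1.symm, B.el_inv, B.xb_el, B.el_mul]
  refine B.el_congr ?_
  clear h hv hA h1
  revert k; decide

theorem s_act : F.s * F.xa * F.s = B.el 0 1 0 0 ∧ F.s * F.xb * F.s = B.el 1 0 0 0 ∧
    F.s * B.v * F.s = B.el 0 0 1 0 ∧ F.s * B.w * F.s = B.el 0 0 0 2 := by
  obtain ⟨h1, h2⟩ := F.s_xa
  rw [F.s_inv] at h1 h2
  refine ⟨h1.trans B.xb_el, h2.trans B.xa_el, B.v_s'.trans B.v_el, ?_⟩
  rw [B.w_s, B.w_el, B.el_inv]; rfl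

theorem s_el (i j k l : Fin 3) : F.s * B.el i j k l * F.s = B.el j i k (-l) := by
  obtain ⟨h1, h2, h3, h4⟩ := B.s_act
  have h := B.conj_el (g := F.s) (A := ![![0, 1, 0, 0], ![1, 0, 0, 0], ![0, 0, 1, 0], ![0, 0, 0, 2]])
    (by rw [F.s_inv]; exact h1) (by rw [F.s_inv]; exact h2) (by rw [F.s_inv]; exact h3)
    (by rw [F.s_inv]; exact h4) i j k l
  rw [F.s_inv] at h
  rw [h]
  refine B.el_congr ?_
  clear h
  revert i j k l
  decide

theorem not_zero (h : B.Rel 0) : False := by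
  classical
  haveI : Fact (Nat.Prime 3) := ⟨Nat.prime_three⟩
  obtain ⟨ua, ub, uv, uw⟩ := B.u_act h
  have hu := B.conj_el (g := B.u) (A := ![![1, 0, 0, 0], ![0, 1, 2, 0], ![0, 0, 1, 0], ![0, 0, 0, 1]]) ua ub uv uw
  set u' := F.s * B.u * F.s with hu'
  have hu's : ∀ i j k l, u' * B.el i j k l * u'⁻¹ = F.s * (B.u * (F.s * B.el i j k l * F.s) * B.u⁻¹) * F.s := by
    intro i j k l
    rw [hu', mul_inv_rev, mul_inv_rev, F.s_inv]; group
  have hu'' : ∀ i j k l, u' * B.el i j k l * u'⁻¹ = B.el i j (k + 2 * i) l := by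
    intro i j k l
    rw [hu's, B.s_el, hu, B.s_el]
    refine B.el_congr ?_
    revert i j k l
    decide
  have hu2 : ∀ i j k l, B.u * B.el i j k l * B.u⁻¹ = B.el i j (k + 2 * j) l := by
    intro i j k l
    rw [hu]
    refine B.el_congr ?_
    revert i j k l
    decide
  set g := u' * B.u with hg
  have hgact : ∀ i j k l, g * B.el i j k l * g⁻¹ = B.el i j (k + 2 * j + 2 * i) l := by
    intro i j k l
    rw [hg, show u' * B.u * B.el i j k l * (u' * B.u)⁻¹ = u' * (B.u * B.el i j k l * B.u⁻¹) * u'⁻¹ by group,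
      hu2, hu'']
  have hg'act : ∀ i j k l, B.u * u' * B.el i j k l * (B.u * u')⁻¹ = B.el i j (k + 2 * i + 2 * j) l := by
    intro i j k l
    rw [show B.u * u' * B.el i j k l * (B.u * u')⁻¹ = B.u * (u' * B.el i j k l * u'⁻¹) * B.u⁻¹ by group,
      hu'', hu2]
  set e := g⁻¹ * (B.u * u') with he
  have hcomm : ∀ i j k l, Commute e (B.el i j k l) := by
    intro i j k l
    have h1 := hgact i j k l
    rw [add_right_comm k] at h1
    rw [← hg'act] at h1
    have : e * B.el i j k l * e⁻¹ = B.el i j k l := by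
      rw [he, show g⁻¹ * (B.u * u') * B.el i j k l * (g⁻¹ * (B.u * u'))⁻¹ =
        g⁻¹ * (B.u * u' * B.el i j k l * (B.u * u')⁻¹) * g by group, ← h1]
      group
    rwa [mul_inv_eq_iff_eq_mul] at this
  have heE : F.IsE e := F.isE_of_cent (B := B) (by rw [B.xa_el]; exact hcomm _ _ _ _)
    (by rw [B.xb_el]; exact hcomm _ _ _ _) (by rw [B.v_el]; exact hcomm _ _ _ _)
  have hss : ∀ x : G, F.s * (F.s * x) = x := fun x => by rw [← mul_assoc, F.s_sq, one_mul]
  have hsg : F.s * g * F.s = g * e := by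
    rw [he, mul_inv_cancel_left, hg, hu']
    simp only [mul_assoc, hss]
  have hse : F.s * e * F.s = e⁻¹ := by
    have h1 : g * (e * (F.s * e * F.s)) = g := by
      calc g * (e * (F.s * e * F.s)) = (g * e) * (F.s * e * F.s) := by group
        _ = F.s * (g * e) * F.s := by
            conv_lhs => rw [← hsg]
            simp only [mul_assoc, hss]
        _ = _ := by rw [← hsg]; simp only [mul_assoc, hss, F.s_sq, mul_one]
    exact eq_inv_of_mul_eq_one_right (mul_eq_left.1 h1)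
  set t := g * (e * e) with ht
  have hts : Commute t F.s := by
    have h1 : F.s * t * F.s = t := by
      calc F.s * t * F.s = (F.s * g * F.s) * (F.s * e * F.s) * (F.s * e * F.s) := by
            rw [ht]; simp only [mul_assoc, hss]
        _ = g * e * e⁻¹ * e⁻¹ := by rw [hsg, hse]
        _ = g * (e * e) * (e ^ 3)⁻¹ := by rw [pow_succ, pow_two]; group
        _ = _ := by rw [B.isE_cube heE, inv_one, mul_one]
    show _ = _
    conv_lhs => rw [← h1]
    rw [mul_assoc _ F.s F.s, F.s_sq, mul_one]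
  have htact : ∀ i j k l, t * B.el i j k l * t⁻¹ = B.el i j (k + 2 * j + 2 * i) l := by
    intro i j k l
    rw [← hgact, ht]
    have := ((hcomm i j k l).mul_left (hcomm i j k l)).eq
    rw [show g * (e * e) * B.el i j k l * (g * (e * e))⁻¹ = g * ((e * e) * B.el i j k l * (e * e)⁻¹) * g⁻¹ by group,
      this, mul_inv_cancel_right]
  obtain ⟨E, hE, hEo⟩ := F.exists_E
  let H := E ⊓ centralizer ({F.s} : Set G)
  have hH : ∀ {x}, x ∈ H ↔ F.IsE x ∧ Commute x F.s := fun {x} =>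
    ⟨fun h => ⟨(hE _).1 h.1, mem_centralizer_singleton_iff.1 h.2⟩,
      fun h => ⟨(hE _).2 h.1, mem_centralizer_singleton_iff.2 h.2.eq⟩⟩
  have htn : t ∈ normalizer (H : Set G) := mem_normalizer_fintype fun x hx => by
    obtain ⟨hxE, hxs⟩ := hH.1 hx
    refine hH.2 ⟨?_, (hts.mul_left hxs).mul_left hts.inv_left⟩
    obtain ⟨i, j, k, l, rfl⟩ := B.all_E hxE
    rw [htact]; exact B.isE_el _ _ _ _
  have ht3 : F.IsE (t * t * t) := by
    have : ∀ i j k l, Commute (t * t * t) (B.el i j k l) := by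
      intro i j k l
      have : t * t * t * B.el i j k l * (t * t * t)⁻¹ = B.el i j k l := by
        rw [show t * t * t * B.el i j k l * (t * t * t)⁻¹ = t * (t * (t * B.el i j k l * t⁻¹) * t⁻¹) * t⁻¹ by group,
          htact, htact, htact]
        congr 1
        have : ∀ a b c : Fin 3, a + 2 * b + 2 * c + 2 * b + 2 * c + 2 * b + 2 * c = a := by decide
        exact this _ _ _
      rwa [mul_inv_eq_iff_eq_mul] at this
    exact F.isE_of_cent (B := B) (by rw [B.xa_el]; exact this _ _ _ _)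
      (by rw [B.xb_el]; exact this _ _ _ _) (by rw [B.v_el]; exact this _ _ _ _)
  have hpH : IsPGroup 3 H := fun x => ⟨1, Subtype.ext (by rw [pow_one]; exact B.isE_cube (hH.1 x.2).1)⟩
  have hpt : IsPGroup 3 (zpowers t) := by
    intro x
    obtain ⟨n, hn⟩ := mem_zpowers_iff.1 x.2
    refine ⟨2, Subtype.ext ?_⟩
    show (x : G) ^ 3 ^ 2 = 1
    rw [← hn, ← zpow_natCast, ← zpow_mul, mul_comm, zpow_mul, zpow_natCast, show 3 ^ 2 = 3 * 3 from rfl, pow_mul,
      pow_succ t, pow_two, B.isE_cube ht3, one_zpow]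
  have hK : IsPGroup 3 (H ⊔ zpowers t : Subgroup G) :=
    hpH.to_sup_of_normal_left' hpt (zpowers_le.2 htn)
  have hodd : Odd (Nat.card (H ⊔ zpowers t : Subgroup G)) := by
    obtain ⟨n, hn⟩ := hK.exists_card_eq
    rw [hn]; exact Odd.pow (by decide)
  have hd := F.card_cent_s (H ⊔ zpowers t) (fun x hx => by
    have : H ⊔ zpowers t ≤ centralizer ({F.s} : Set G) :=
      sup_le inf_le_right (zpowers_le.2 (mem_centralizer_singleton_iff.2 hts.eq))
    exact mem_centralizer_singleton_iff.1 (this hx)) hodd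
  have h9 : 9 ≤ Nat.card H := by
    have hm : ∀ k l : Fin 3, B.el k k l 0 ∈ H := fun k l => hH.2 ⟨B.isE_el _ _ _ _, by
      have h1 : F.s * B.el k k l 0 * F.s = B.el k k l 0 := by rw [B.s_el, neg_zero]
      show _ = _
      conv_lhs => rw [← h1]
      rw [mul_assoc _ F.s F.s, F.s_sq, mul_one]⟩
    let φ : Fin 3 × Fin 3 → H := fun v => ⟨_, hm v.1 v.2⟩
    have hinj : Function.Injective φ := fun a b hab =>
      Prod.ext (B.el_inj (congrArg Subtype.val hab)).1 (B.el_inj (congrArg Subtype.val hab)).2.2.1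
    have := Nat.card_le_card_of_injective φ hinj
    rwa [Nat.card_prod, Nat.card_fin] at this
  have heq : H = H ⊔ zpowers t :=
    Subgroup.eq_of_le_of_card_ge le_sup_left ((Nat.le_of_dvd (by norm_num) hd).trans h9)
  have htH : t ∈ H := by rw [heq]; exact mem_sup_right (mem_zpowers t)
  have hta := (B.isE_comm (hH.1 htH).1 (B.isE_el 1 0 0 0)).eq
  have h1 := htact 1 0 0 0
  rw [hta, mul_inv_cancel_right] at h1
  exact absurd (B.el_inj h1).2.2.1 (by decide)

theorem not_two (h : B.Rel 2) : False := by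
  obtain ⟨ua, ub, uv, uw⟩ := B.u_act h
  have hu := B.conj_el (g := B.u) (A := ![![1, 0, 0, 0], ![2, 1, 2, 0], ![2, 0, 1, 0], ![0, 0, 0, 1]]) ua ub uv uw
  set W := B.u * F.s * B.u * F.s * B.u with hW
  have hWact : ∀ i j k l, W * B.el i j k l * W⁻¹ = B.el (-j) (-i) (-k) l := by
    intro i j k l
    rw [hW, show B.u * F.s * B.u * F.s * B.u * B.el i j k l * (B.u * F.s * B.u * F.s * B.u)⁻¹ =
      B.u * (F.s * (B.u * (F.s * (B.u * B.el i j k l * B.u⁻¹) * F.s⁻¹) * B.u⁻¹) * F.s⁻¹) * B.u⁻¹ by group,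
      F.s_inv, hu, B.s_el, hu, B.s_el, hu]
    refine B.el_congr ?_
    revert i j k l
    decide
  have hzel : ∀ i j k l, F.D.z * B.el i j k l * F.D.z = B.el i j (-k) (-l) := by
    intro i j k l
    have hI := (B.isI_vw k l).2
    have h1 := B.el_inv 0 0 k l
    simp only [neg_zero, el, show F.xel 0 0 = 1 by simp [xel, Prod.mk_one_one], one_mul] at h1
    rw [el, el, ← h1, ← hI]
    calc F.D.z * (F.xel i j * (B.v ^ (k : ℕ) * B.w ^ (l : ℕ))) * F.D.z
        = F.D.z * F.xel i j * (B.v ^ (k : ℕ) * B.w ^ (l : ℕ)) * F.D.z := by group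
      _ = _ := by rw [← (F.XX_z (F.xel_mem i j)).eq]; group
  set c := W⁻¹ * (F.D.z * W * F.D.z) with hc
  have hcomm : ∀ i j k l, Commute c (B.el i j k l) := by
    intro i j k l
    have h1 : F.D.z * W * F.D.z * B.el i j k l * (F.D.z * W * F.D.z)⁻¹ = W * B.el i j k l * W⁻¹ := by
      rw [show F.D.z * W * F.D.z * B.el i j k l * (F.D.z * W * F.D.z)⁻¹ =
        F.D.z * (W * (F.D.z * B.el i j k l * F.D.z⁻¹) * W⁻¹) * F.D.z⁻¹ by group, F.z_inv, hzel, hWact, hzel, hWact]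
      simp only [neg_neg]
    have : c * B.el i j k l * c⁻¹ = B.el i j k l := by
      rw [hc, show W⁻¹ * (F.D.z * W * F.D.z) * B.el i j k l * (W⁻¹ * (F.D.z * W * F.D.z))⁻¹ =
        W⁻¹ * (F.D.z * W * F.D.z * B.el i j k l * (F.D.z * W * F.D.z)⁻¹) * W by group, h1]
      group
    rwa [mul_inv_eq_iff_eq_mul] at this
  have hcE : F.IsE c := F.isE_of_cent (B := B) (by rw [B.xa_el]; exact hcomm _ _ _ _)
    (by rw [B.xb_el]; exact hcomm _ _ _ _) (by rw [B.v_el]; exact hcomm _ _ _ _)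
  have hzz : ∀ x : G, F.D.z * (F.D.z * x) = x := fun x => by rw [← mul_assoc, F.D.z_sq, one_mul]
  have hcI : F.D.z * c * F.D.z = c⁻¹ := by
    rw [hc]
    simp only [mul_inv_rev, inv_inv, F.z_inv, mul_assoc, hzz, F.D.z_sq, mul_one]
  set W' := W * (c * c) with hW'
  have hW'z : Commute W' F.D.z := by
    have h1 : F.D.z * W' * F.D.z = W' := by
      calc F.D.z * W' * F.D.z = (F.D.z * W * F.D.z) * (F.D.z * c * F.D.z) * (F.D.z * c * F.D.z) := by
            rw [hW']; simp only [mul_assoc, hzz]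
        _ = W * c * c⁻¹ * c⁻¹ := by rw [hcI, hc, mul_inv_cancel_left]
        _ = W * (c * c) * (c ^ 3)⁻¹ := by rw [pow_succ, pow_two]; group
        _ = _ := by rw [B.isE_cube hcE, inv_one, mul_one]
    show _ = _
    conv_lhs => rw [← h1]
    rw [mul_assoc _ F.D.z F.D.z, F.D.z_sq, mul_one]
  have hW'act : ∀ i j k l, W' * B.el i j k l * W'⁻¹ = B.el (-j) (-i) (-k) l := by
    intro i j k l
    rw [← hWact, hW', show W * (c * c) * B.el i j k l * (W * (c * c))⁻¹ =
      W * ((c * c) * B.el i j k l * (c * c)⁻¹) * W⁻¹ by group,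
      ((hcomm i j k l).mul_left (hcomm i j k l)).eq, mul_inv_cancel_right]
  obtain ⟨x, i, e, hx, hxe⟩ := F.norm_XX hW'z
    (by rw [B.xa_el, hW'act, neg_zero, ← B.xel_el]; exact F.xel_mem _ _)
    (by rw [B.xb_el, hW'act, neg_zero, ← B.xel_el]; exact F.xel_mem _ _)
  have hxc : ∀ y, F.IsE y → Commute x y := fun y hy => B.isE_comm (F.isE_XX hx) hy
  have hcosE : ∀ y, F.IsE y → ∀ r : G, W' * y * W'⁻¹ = r →
      F.cos i * y * (F.cos i)⁻¹ = r ∨ F.cos i * (F.D.z * y * F.D.z) * (F.cos i)⁻¹ = r := by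
    intro y hy r hr
    have hn : F.NormsX (F.cos i) := by
      fin_cases i
      · exact ⟨by simp [cos, F.xa_mem], by simp [cos, F.xb_mem], by simp [cos, F.xa_mem], by simp [cos, F.xb_mem]⟩
      · exact F.normsX_T
      · exact F.normsX_s
      · refine F.normsX_mul F.normsX_s F.normsX_T
    rw [hxe] at hr
    cases e
    · left
      rw [← hr]
      simp only [Bool.false_eq_true, if_false, mul_one]
      rw [show x * F.cos i * y * (x * F.cos i)⁻¹ = x * (F.cos i * y * (F.cos i)⁻¹) * x⁻¹ by group,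
        (hxc _ (F.isE_conj hn hy)).eq, mul_inv_cancel_right]
    · right
      rw [← hr]
      simp only [if_true]
      have hy' : F.IsE (F.D.z * y * F.D.z) := by
        have := F.isE_conj F.normsX_z hy
        rwa [F.z_inv] at this
      rw [show x * F.cos i * F.D.z * y * (x * F.cos i * F.D.z)⁻¹ =
          x * (F.cos i * (F.D.z * y * F.D.z⁻¹) * (F.cos i)⁻¹) * x⁻¹ by group, F.z_inv,
        (hxc _ (F.isE_conj hn hy')).eq, mul_inv_cancel_right]
  obtain ⟨Ta, -⟩ := F.T_xa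
  obtain ⟨sa, sb⟩ := F.s_xa
  have hsw : F.s * B.w * F.s⁻¹ = B.w⁻¹ := by rw [F.s_inv]; exact B.w_s
  have hTv : F.T * B.v * F.T⁻¹ = B.w := rfl
  have hza : F.D.z * F.xa * F.D.z = F.xa := by rw [← (F.XX_z F.xa_mem).eq, mul_assoc, F.D.z_sq, mul_one]
  have h1 := hcosE F.xa (F.isE_XX F.xa_mem) (B.el (-0) (-1) (-0) 0) (by rw [B.xa_el]; exact hW'act 1 0 0 0)
  rw [hza, or_self] at h1
  fin_cases i
  · change (1 : G) * F.xa * (1 : G)⁻¹ = _ at h1
    rw [inv_one, one_mul, mul_one, B.xa_el] at h1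
    exact absurd (B.el_inj h1).1 (by decide)
  · change F.T * F.xa * F.T⁻¹ = _ at h1
    rw [Ta, B.xa_el, B.el_inv] at h1
    exact absurd (B.el_inj h1).1 (by decide)
  · change F.s * F.xa * F.s⁻¹ = _ at h1
    rw [sa, B.xb_el] at h1
    exact absurd (B.el_inj h1).2.1 (by decide)
  · have h2 := hcosE B.v B.v_isI.1 (B.el (-0) (-0) (-1) 0) (by rw [B.v_el]; exact hW'act 0 0 1 0)
    have hsT : ∀ y, F.s * F.T * y * (F.s * F.T)⁻¹ = F.s * (F.T * y * F.T⁻¹) * F.s⁻¹ := fun y => by group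
    change F.s * F.T * B.v * (F.s * F.T)⁻¹ = _ ∨ F.s * F.T * (F.D.z * B.v * F.D.z) * (F.s * F.T)⁻¹ = _ at h2
    rw [B.v_isI.2, hsT, hsT, hTv, hsw, ← conj_inv, hTv, ← conj_inv, hsw, inv_inv, B.w_el, B.el_inv] at h2
    rcases h2 with h2 | h2
    · exact absurd (B.el_inj h2).2.2.1 (by decide)
    · exact absurd (B.el_inj h2).2.2.1 (by decide)

theorem rel_one : B.Rel 1 := by
  obtain ⟨k, hk⟩ := B.exists_rel
  fin_cases k
  · exact (B.not_zero hk).elim
  · exact hk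
  · exact (B.not_two hk).elim

end EBase

end Frame

end CfsgLib.U43Type
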