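import Cfsg.Agent.Lib.U43Type.RQuot

/-!
Groups of `U₄(3)` type: the relations of the extension of order 243.
-/

set_option autoImplicit false
set_option linter.style.haveILetI false

namespace CfsgLib.U43Type

open Subgroup

universe u

namespace Frame

variable {G : Type u} [Group G] {F : Frame G}

namespace EBase

variable (B : F.EBase)

/-- The conjugate of `v` by the quaternion. -/
def u : G := F.qc SL23.qi B.v

/-- The conjugate of `w` by the quaternion. -/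
def p : G := F.qc SL23.qi B.w

/-- The relations with parameter `k`. -/
structure Rel (k : Fin 3) : Prop where
  uv : B.u * B.v * B.u⁻¹ = B.v * F.xel k 0
  pw : B.p * B.w * B.p⁻¹ = B.w * F.xel k 0
  uw : Commute B.u B.w
  pv : Commute B.p B.v
  up : Commute B.u B.p
  bu : F.xb * B.u * F.xb⁻¹ = B.u * B.v * F.xel k 0
  bp : F.xb * B.p * F.xb⁻¹ = B.p * B.w * F.xel k 0
  Tu : F.T * B.u * F.T⁻¹ = B.p⁻¹
  Tp : F.T * B.p * F.T⁻¹ = B.u
  qu : F.qc SL23.qi B.u = B.v⁻¹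
  qp : F.qc SL23.qi B.p = B.w⁻¹

variable [Finite G]

theorem u_xa : Commute B.u F.xa := (((F.q2_xa _).mul_left B.v_isI.1.1).mul_left (F.q2_xa _).inv_left)

theorem p_xa : Commute B.p F.xa := (((F.q2_xa _).mul_left B.w_isI.1.1).mul_left (F.q2_xa _).inv_left)

theorem u_cube : B.u ^ 3 = 1 := by rw [u, Frame.qc, conj_pow, B.v_cube, mul_one, mul_inv_cancel]

theorem p_cube : B.p ^ 3 = 1 := by rw [p, Frame.qc, conj_pow, B.w_cube, mul_one, mul_inv_cancel]

theorem u_z : F.D.z * B.u * F.D.z = B.u⁻¹ := by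
  calc F.D.z * B.u * F.D.z = (F.D.z * F.q2 SL23.qi) * B.v * ((F.q2 SL23.qi)⁻¹ * F.D.z) := by
        rw [u, Frame.qc]; group
    _ = (F.q2 SL23.qi * F.D.z) * B.v * (F.D.z * (F.q2 SL23.qi)⁻¹) := by
        rw [(F.q2_z _).eq, (F.q2_z _).inv_left.eq]
    _ = F.q2 SL23.qi * (F.D.z * B.v * F.D.z) * (F.q2 SL23.qi)⁻¹ := by group
    _ = _ := by rw [B.v_isI.2, u, Frame.qc]; group

theorem p_z : F.D.z * B.p * F.D.z = B.p⁻¹ := by
  calc F.D.z * B.p * F.D.z = (F.D.z * F.q2 SL23.qi) * B.w * ((F.q2 SL23.qi)⁻¹ * F.D.z) := by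
        rw [p, Frame.qc]; group
    _ = (F.q2 SL23.qi * F.D.z) * B.w * (F.D.z * (F.q2 SL23.qi)⁻¹) := by
        rw [(F.q2_z _).eq, (F.q2_z _).inv_left.eq]
    _ = F.q2 SL23.qi * (F.D.z * B.w * F.D.z) * (F.q2 SL23.qi)⁻¹ := by group
    _ = _ := by rw [B.w_isI.2, p, Frame.qc]; group

theorem exists_rel : ∃ k, B.Rel k := by
  obtain ⟨a0, ha0, hj⟩ := F.qj_v B
  obtain ⟨k, rfl⟩ := F.mem_AA.1 ha0
  set A := F.xel k 0 with hA
  have hAA : A ∈ F.AA := F.mem_AA.2 ⟨k, rfl⟩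
  have hbv : F.qc SL23.xx B.v = B.v := by
    rw [Frame.qc, show F.q2 SL23.xx = F.xb from rfl, ← B.v_isI.1.2.1.eq, mul_inv_cancel_right]
  have hfix : ∀ {q : SL23} {x : G}, x ∈ F.AA → F.qc q x = x := fun {q x} hx => by
    rw [Frame.qc, (F.AA_comm hx (F.q2_xa q)).eq, mul_inv_cancel_right]
  obtain ⟨hr1, hr2, hr3⟩ := SL23.quat_rot
  obtain ⟨qii, qjj, qkk, qij, qji, qjk, qkj, qki, qik⟩ := SL23.quat
  have hneg : ∀ x : G, F.qc SL23.neg x = F.D.z * x * F.D.z := fun x => by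
    rw [Frame.qc, F.q2_neg, F.z_inv]
  have qu : F.qc SL23.qi B.u = B.v⁻¹ := by rw [u, F.qc_mul, qii, hneg, B.v_isI.2]
  have qp : F.qc SL23.qi B.p = B.w⁻¹ := by rw [p, F.qc_mul, qii, hneg, B.w_isI.2]
  have bu : F.xb * B.u * F.xb⁻¹ = B.u * B.v * A := by
    show F.qc SL23.xx B.u = _
    conv_lhs => rw [u, F.qc_mul, show SL23.xx * SL23.qi = SL23.qj * SL23.xx by rw [← hr1, inv_mul_cancel_right],
      ← F.qc_mul, hbv]
    rw [hj]; rfl
  -- both descriptions of the conjugate by the third quaternion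
  have hk1 : F.qc SL23.qk B.v = B.u * B.v * A * B.v * A := by
    calc F.qc SL23.qk B.v = F.qc SL23.xx (F.qc SL23.qj B.v) := by
          conv_rhs => rw [F.qc_mul, show SL23.xx * SL23.qj = SL23.qk * SL23.xx by rw [← hr2, inv_mul_cancel_right],
            ← F.qc_mul, hbv]
      _ = _ := by
          rw [hj, F.qc_map_mul, F.qc_map_mul, hfix hAA, hbv]
          show F.xb * B.u * F.xb⁻¹ * B.v * A = _
          rw [bu]
  have hk2 : F.qc SL23.qk B.v = B.v⁻¹ * B.u * A := by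
    rw [← qij, ← F.qc_mul, hj, F.qc_map_mul, F.qc_map_mul, hfix hAA, ← qu]; rfl
  have huN : B.u ∈ F.NN := F.qc_mem _ (F.v_mem B)
  have hpN : B.p ∈ F.NN := F.qc_mem _ (F.w_mem B)
  have hvN := F.v_mem B
  have hwN := F.w_mem B
  have cA : ∀ {y : G}, y ∈ F.NN → Commute A y := fun hy => (F.AA_comm hAA (F.NN_xa hy)).symm
  have uv : B.u * B.v * B.u⁻¹ = B.v * A := by
    have h := hk1.symm.trans hk2
    have h1 : B.v * B.u * B.v * B.v * A = B.u := by
      calc B.v * B.u * B.v * B.v * A = B.v * (B.u * B.v * A * B.v * A) * A⁻¹ := by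
            rw [mul_assoc (B.u * B.v) A B.v, (cA hvN).eq]; group
        _ = _ := by rw [h]; group
    obtain ⟨a', ha', h'⟩ := F.NN_comm huN hvN
    have hv3 : B.v * B.v * B.v = 1 := by rw [← pow_two, ← pow_succ]; exact B.v_cube
    have h2 : B.u * B.v * B.v * B.v * (a'⁻¹ * A) = B.u := by
      conv_rhs => rw [← h1]
      rw [h']
      have hc1 : Commute a' B.v := (F.AA_comm ha' (F.NN_xa hvN)).symm
      calc B.v * B.u * a' * B.v * B.v * (a'⁻¹ * A) = B.v * B.u * (a' * B.v) * B.v * a'⁻¹ * A := by group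
        _ = B.v * B.u * (B.v * a') * B.v * a'⁻¹ * A := by rw [hc1.eq]
        _ = B.v * B.u * B.v * (a' * B.v) * a'⁻¹ * A := by group
        _ = B.v * B.u * B.v * (B.v * a') * a'⁻¹ * A := by rw [hc1.eq]
        _ = _ := by group
    rw [mul_assoc B.u B.v B.v, mul_assoc B.u (B.v * B.v) B.v, hv3, mul_one, mul_eq_left, inv_mul_eq_one] at h2
    rw [← h2, h', mul_assoc, mul_assoc, ← mul_assoc B.u a', (F.AA_comm ha' (F.NN_xa huN)).eq]
    group
  obtain ⟨hf1, -, -⟩ := SL23.quat_flip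
  have Tu : F.T * B.u * F.T⁻¹ = B.p⁻¹ := by
    rw [u, F.T_qc, hf1, ← F.qc_mul, show F.T * B.v * F.T⁻¹ = B.w from rfl, hneg]
    exact B.p_z
  have Tp : F.T * B.p * F.T⁻¹ = B.u := by
    have hinv : F.qc SL23.qi B.v⁻¹ = B.u⁻¹ := by rw [u, Frame.qc, Frame.qc]; group
    rw [p, F.T_qc, hf1, ← F.qc_mul, B.T_w, hinv, hneg]
    have := congrArg (·⁻¹) B.u_z
    simp only [mul_inv_rev, inv_inv, F.z_inv] at this
    rw [mul_assoc]; exact this
  have hTA : ∀ {x : G}, x ∈ F.AA → F.T * x * F.T⁻¹ = x⁻¹ := fun {x} hx => by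
    obtain ⟨n, rfl⟩ := mem_zpowers_iff.1 hx
    rw [← conj_zpow, F.T_xa.1, inv_zpow]
  have hTv : F.T * B.v * F.T⁻¹ = B.w := rfl
  have Tm : ∀ {x y : G}, x = y → F.T * x * F.T⁻¹ = F.T * y * F.T⁻¹ := fun h => by rw [h]
  have pw : B.p * B.w * B.p⁻¹ = B.w * A := by
    have h := congrArg (MulAut.conj F.T) uv
    simp only [map_mul, map_inv, MulAut.conj_apply, Tu, inv_inv, hTv, hTA hAA] at h
    calc B.p * B.w * B.p⁻¹ = B.p * (B.w * A⁻¹) * B.p⁻¹ * A := by
          rw [mul_assoc _ B.p⁻¹ A, ← (cA hpN).inv_right.eq]; group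
      _ = _ := by rw [← h]; group
  have uw : Commute B.u B.w := by
    obtain ⟨a', ha', h'⟩ := F.NN_comm huN hwN
    have h1 := congrArg (MulAut.conj F.T) h'
    simp only [map_mul, MulAut.conj_apply, Tu, B.T_w, hTA ha'] at h1
    have h2 := congrArg (F.qc SL23.qi) h'
    simp only [F.qc_map_mul, qu, hfix ha', show F.qc SL23.qi B.w = B.p from rfl] at h2
    have c : ∀ {y : G}, y ∈ F.NN → Commute a' y := fun hy => (F.AA_comm ha' (F.NN_xa hy)).symm
    have e1 : B.p * B.v = B.v * B.p * a'⁻¹ := by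
      have h3 := congrArg (·⁻¹) h1
      simp only [mul_inv_rev, inv_inv] at h3
      rw [h3, ((c hpN).mul_right (c hvN)).eq]; group
    have e2 : B.p * B.v = B.v * B.p * a' := by
      calc B.p * B.v = B.v * (B.v⁻¹ * B.p) * B.v := by group
        _ = B.v * B.p * B.v⁻¹ * (a' * B.v) := by rw [h2]; group
        _ = _ := by rw [(c hvN).eq]; group
    have h3 := mul_left_cancel (e1.symm.trans e2)
    have : a' = 1 := odd_sq_one (F.isE_XX (F.AA_le ha')).2.2 (by nth_rw 1 [← h3]; exact inv_mul_cancel a')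
    rw [this, mul_one] at h'
    exact h'
  have pv : Commute B.p B.v := by
    have h := (uw.map (MulAut.conj F.T).toMonoidHom)
    simp only [MulEquiv.coe_toMonoidHom, MulAut.conj_apply, Tu, B.T_w] at h
    exact Commute.inv_inv_iff.1 h
  have up : Commute B.u B.p := B.comm.map (MulAut.conj (F.q2 SL23.qi)).toMonoidHom
  have bp : F.xb * B.p * F.xb⁻¹ = B.p * B.w * A := by
    have h := congrArg (MulAut.conj F.T) bu
    simp only [map_mul, map_inv, MulAut.conj_apply, Tu, hTv, hTA hAA, F.T_xa.2, inv_inv] at h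
    have hwb : Commute F.xb B.w := B.w_isI.1.2.1.symm
    have hAb : Commute F.xb A := F.XX_comm F.xb_mem (F.AA_le hAA)
    have h2 : B.p⁻¹ = F.xb * B.p⁻¹ * F.xb⁻¹ * B.w * A⁻¹ := by
      calc B.p⁻¹ = F.xb * (F.xb⁻¹ * B.p⁻¹ * F.xb) * F.xb⁻¹ := by group
        _ = F.xb * B.p⁻¹ * (B.w * A⁻¹ * F.xb⁻¹) := by rw [h]; group
        _ = _ := by rw [(hwb.mul_right hAb.inv_right).inv_left.symm.eq]; group
    have h3 : F.xb * B.p * F.xb⁻¹ = B.w * A⁻¹ * B.p := by
      calc F.xb * B.p * F.xb⁻¹ = (F.xb * B.p⁻¹ * F.xb⁻¹)⁻¹ := by group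
        _ = (B.p⁻¹ * A * B.w⁻¹)⁻¹ := by congr 1; (conv_rhs => rw [h2]); group
        _ = B.w * (A⁻¹ * B.p) := by group
        _ = _ := by group
    rw [h3]
    calc B.w * A⁻¹ * B.p = B.w * (A⁻¹ * B.p) := by group
      _ = B.w * B.p * A⁻¹ := by rw [(cA hpN).inv_left.eq]; group
      _ = (B.p * B.w * B.p⁻¹) * A⁻¹ * B.p * A⁻¹ := by rw [pw]; group
      _ = B.p * B.w * (B.p⁻¹ * (A⁻¹ * B.p)) * A⁻¹ := by group
      _ = B.p * B.w * (A⁻¹ * A⁻¹) := by rw [(cA hpN).inv_left.eq]; group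
      _ = _ := by
        congr 1
        have hA3 : A ^ 3 = 1 := F.XX_cube (F.AA_le hAA)
        rw [← mul_inv_rev, inv_eq_iff_mul_eq_one, ← hA3, pow_succ, pow_two]
  exact ⟨k, uv, pw, uw, pv, up, bu, bp, Tu, Tp, qu, qp⟩

end EBase

end Frame

end CfsgLib.U43Type
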