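import Cfsg.Agent.Lib.U43Type.FusionType
import Cfsg.Agent.Lib.DegMinusValue.GroupPart

/-!
Groups of `U₄(3)` type: the Sylow 3-subgroup `X` of the centralizer and its centralizer.
-/

set_option autoImplicit false
set_option linter.style.haveILetI false

namespace CfsgLib.U43Type

open Subgroup

universe u

/-- The pairs of upper root elements. -/
def Xs : Subgroup Pr := (zpowers SL23.xx).prod (zpowers SL23.xx)

namespace SL23

theorem cent_xx : ∀ a : SL23, a * xx = xx * a → ∃ i : Fin 3, a = xx ^ (i : ℕ) ∨ a = xx ^ (i : ℕ) * neg := by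
  decide +kernel

theorem not_flip_xx : ∀ a : SL23, a * flip xx * a⁻¹ ≠ xx := by decide +kernel

theorem norm_xx : ∀ a : SL23, ∀ i : Fin 3, (a * xx * a⁻¹ = xx ^ (i : ℕ) ∨ a * xx⁻¹ * a⁻¹ = xx ^ (i : ℕ)) →
    ∃ j : Fin 3, a = xx ^ (j : ℕ) ∨ a = xx ^ (j : ℕ) * neg := by decide +kernel

theorem sq_one_x : ∀ (i : Fin 3) (b : SL23), (Equ ((xx ^ (i : ℕ), b) * (xx ^ (i : ℕ), b)) 1 →
    Equ (xx ^ (i : ℕ), b) 1 ∨ Equ (xx ^ (i : ℕ), b) (neg, 1)) ∧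
    (Equ ((xx ^ (i : ℕ) * neg, b) * (xx ^ (i : ℕ) * neg, b)) 1 →
    Equ (xx ^ (i : ℕ) * neg, b) 1 ∨ Equ (xx ^ (i : ℕ) * neg, b) (neg, 1)) := by decide +kernel

theorem swap_card : Fintype.card {p : Pr // Equ (p.2, p.1) p} = 48 := by decide +kernel

theorem xx_pow : ∀ n : Fin 3, xx ^ (n : ℕ) * xx ^ (n : ℕ) * xx ^ (n : ℕ) = 1 := by decide +kernel

theorem line_cases : ∀ i j : Fin 3, (i = 0 ∧ j = 0) ∨ (i ≠ 0 ∧ j = 0) ∨ (i = 0 ∧ j ≠ 0) ∨
    (i ≠ 0 ∧ j = i) ∨ (i ≠ 0 ∧ j = -i) := by decide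

theorem xx_orderOf : orderOf xx = 3 := orderOf_eq_prime (by decide +kernel) (by decide +kernel)

end SL23

namespace Frame

variable {G : Type u} [Group G] (F : Frame G)

/-- The element `x₁`. -/
def xa : G := F.D.f (SL23.xx, 1)

/-- The element `x₂`. -/
def xb : G := F.D.f (1, SL23.xx)

/-- The group `X`. -/
def XX : Subgroup G := Xs.map F.D.f

/-- The element with exponents `i` and `j`. -/
def xel (i j : Fin 3) : G := F.D.f (SL23.xx ^ (i : ℕ), SL23.xx ^ (j : ℕ))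

theorem xel_mem (i j : Fin 3) : F.xel i j ∈ F.XX :=
  ⟨_, ⟨⟨(i : ℤ), zpow_natCast _ _⟩, ⟨(j : ℤ), zpow_natCast _ _⟩⟩, rfl⟩

theorem mem_XX {x : G} : x ∈ F.XX ↔ ∃ i j : Fin 3, x = F.xel i j := by
  constructor
  · rintro ⟨p, ⟨hp, hq⟩, rfl⟩
    have key : ∀ a ∈ zpowers SL23.xx, ∃ i : Fin 3, a = SL23.xx ^ (i : ℕ) := by
      intro a ha
      obtain ⟨k, rfl⟩ := mem_zpowers_iff.1 ha
      refine ⟨⟨(k % 3).toNat, by omega⟩, ?_⟩
      show SL23.xx ^ k = SL23.xx ^ (k % 3).toNat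
      rw [← zpow_natCast, Int.toNat_of_nonneg (by omega), ← zpow_mod_orderOf, SL23.xx_orderOf]
      rfl
    obtain ⟨i, hi⟩ := key _ hp
    obtain ⟨j, hj⟩ := key _ hq
    exact ⟨i, j, congrArg F.D.f (Prod.ext hi hj)⟩
  · rintro ⟨i, j, rfl⟩; exact F.xel_mem i j

theorem xa_mem : F.xa ∈ F.XX := ⟨_, ⟨mem_zpowers _, one_mem _⟩, rfl⟩

theorem xb_mem : F.xb ∈ F.XX := ⟨_, ⟨one_mem _, mem_zpowers _⟩, rfl⟩

theorem XX_z {x : G} (hx : x ∈ F.XX) : Commute x F.D.z := by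
  obtain ⟨i, j, rfl⟩ := F.mem_XX.1 hx; exact F.D.f_comm _

theorem XX_comm {x y : G} (hx : x ∈ F.XX) (hy : y ∈ F.XX) : Commute x y := by
  obtain ⟨i, j, rfl⟩ := F.mem_XX.1 hx
  obtain ⟨i', j', rfl⟩ := F.mem_XX.1 hy
  show _ * _ = _ * _
  rw [xel, xel, ← map_mul, ← map_mul]
  exact congrArg F.D.f (Prod.ext (pow_mul_pow_comm _ _ _) (pow_mul_pow_comm _ _ _))
where
  pow_mul_pow_comm (a : SL23) (m n : ℕ) : a ^ m * a ^ n = a ^ n * a ^ m := by rw [← pow_add, ← pow_add, add_comm]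

theorem XX_cube {x : G} (hx : x ∈ F.XX) : x ^ 3 = 1 := by
  obtain ⟨i, j, rfl⟩ := F.mem_XX.1 hx
  rw [pow_succ, pow_two, xel, ← map_mul, ← map_mul, ← map_one F.D.f]
  exact congrArg F.D.f (Prod.ext (SL23.xx_pow i) (SL23.xx_pow j))

theorem fst_of_comm {r : Pr} (h : Commute (F.D.f r) F.xa) : ∃ i : Fin 3,
    r.1 = SL23.xx ^ (i : ℕ) ∨ r.1 = SL23.xx ^ (i : ℕ) * SL23.neg :=
  SL23.cent_xx _ (F.D.fst_eq h)

theorem snd_of_comm {r : Pr} (h : Commute (F.D.f r) F.xb) : ∃ i : Fin 3,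
    r.2 = SL23.xx ^ (i : ℕ) ∨ r.2 = SL23.xx ^ (i : ℕ) * SL23.neg :=
  SL23.cent_xx _ (F.D.snd_eq h)

/-- The action of an element in coordinates on the first root element. -/
theorem conj_side (r : Pr) (i : Fin 4) (p : Pr) :
    F.D.f r * F.cos i * F.D.f p * (F.D.f r * F.cos i)⁻¹ = F.D.f (r * act i p * r⁻¹) := by
  rw [map_mul, map_mul, map_inv, ← F.cos_conj i p]; group

theorem f_form {i j : Fin 3} {a b : SL23} (ha : a = SL23.xx ^ (i : ℕ) ∨ a = SL23.xx ^ (i : ℕ) * SL23.neg)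
    (hb : b = SL23.xx ^ (j : ℕ) ∨ b = SL23.xx ^ (j : ℕ) * SL23.neg) :
    F.D.f (a, b) = F.xel i j ∨ F.D.f (a, b) = F.xel i j * F.D.z := by
  rcases ha with rfl | rfl <;> rcases hb with rfl | rfl
  · exact Or.inl rfl
  · right; rw [xel, ← F.D.f_neg', ← map_mul]; exact congrArg F.D.f (Prod.ext (by simp) rfl)
  · right; rw [xel, ← F.D.f_neg, ← map_mul]; exact congrArg F.D.f (Prod.ext rfl (by simp))
  · left
    rw [xel, show ((SL23.xx ^ (i : ℕ) * SL23.neg, SL23.xx ^ (j : ℕ) * SL23.neg) : Pr) =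
      (SL23.xx ^ (i : ℕ), SL23.xx ^ (j : ℕ)) * (SL23.neg, SL23.neg) from rfl, map_mul,
      (F.D.ker _).2 (Or.inr rfl), mul_one]

theorem equ_split {p : Pr} {a b : SL23} (h : Equ p (a, b)) :
    (p.1 = a ∨ p.1 = a * SL23.neg) ∧ (p.2 = b ∨ p.2 = b * SL23.neg) := by
  rcases h with h | h
  · exact ⟨Or.inl (congrArg Prod.fst h), Or.inl (congrArg Prod.snd h)⟩
  · exact ⟨Or.inr (congrArg Prod.fst h), Or.inr (congrArg Prod.snd h)⟩

theorem act_gens (r : Pr) :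
    ((r * act 0 (SL23.xx, 1) * r⁻¹).1 = r.1 * SL23.xx * r.1⁻¹ ∧
      (r * act 0 (1, SL23.xx) * r⁻¹).2 = r.2 * SL23.xx * r.2⁻¹) ∧
    ((r * act 1 (SL23.xx, 1) * r⁻¹).1 = r.1 * SL23.flip SL23.xx * r.1⁻¹ ∧
      (r * act 1 (1, SL23.xx) * r⁻¹).2 = r.2 * SL23.flip SL23.xx * r.2⁻¹) ∧
    ((r * act 2 (SL23.xx, 1) * r⁻¹).2 = r.2 * SL23.xx * r.2⁻¹ ∧
      (r * act 2 (1, SL23.xx) * r⁻¹).1 = r.1 * SL23.xx * r.1⁻¹) ∧
    ((r * act 3 (SL23.xx, 1) * r⁻¹).2 = r.2 * SL23.flip SL23.xx * r.2⁻¹ ∧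
      (r * act 3 (1, SL23.xx) * r⁻¹).1 = r.1 * SL23.flip SL23.xx * r.1⁻¹) := by
  refine ⟨⟨?_, ?_⟩, ⟨?_, ?_⟩, ⟨?_, ?_⟩, ?_, ?_⟩ <;> simp [act]

theorem act_cases (r : Pr) (i : Fin 4) :
    (((r * act i (SL23.xx, 1) * r⁻¹).1 = r.1 * SL23.xx * r.1⁻¹ ∨
        (r * act i (SL23.xx, 1) * r⁻¹).1 = r.1 * SL23.xx⁻¹ * r.1⁻¹) ∧
      ((r * act i (1, SL23.xx) * r⁻¹).2 = r.2 * SL23.xx * r.2⁻¹ ∨
        (r * act i (1, SL23.xx) * r⁻¹).2 = r.2 * SL23.xx⁻¹ * r.2⁻¹)) ∨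
    (((r * act i (SL23.xx, 1) * r⁻¹).2 = r.2 * SL23.xx * r.2⁻¹ ∨
        (r * act i (SL23.xx, 1) * r⁻¹).2 = r.2 * SL23.xx⁻¹ * r.2⁻¹) ∧
      ((r * act i (1, SL23.xx) * r⁻¹).1 = r.1 * SL23.xx * r.1⁻¹ ∨
        (r * act i (1, SL23.xx) * r⁻¹).1 = r.1 * SL23.xx⁻¹ * r.1⁻¹)) := by
  have hflip : SL23.flip SL23.xx = SL23.xx⁻¹ := by decide +kernel
  obtain ⟨⟨f1, f2⟩, ⟨g1, g2⟩, ⟨h1, h2⟩, ⟨k1, k2⟩⟩ := act_gens r
  rw [hflip] at g1 g2 k1 k2
  fin_cases i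
  · exact Or.inl ⟨Or.inl f1, Or.inl f2⟩
  · exact Or.inl ⟨Or.inr g1, Or.inr g2⟩
  · exact Or.inr ⟨Or.inl h1, Or.inl h2⟩
  · exact Or.inr ⟨Or.inr k1, Or.inr k2⟩

theorem act_one_fst : act 1 (SL23.xx, 1) = (SL23.flip SL23.xx, 1) := by
  simp [act, SL23.cos_mul.1]

theorem not_second {r : Pr} {i : Fin 4} (hi : i = 2 ∨ i = 3) {a : SL23} (ha : a ≠ 1) (ha' : a ≠ SL23.neg) :
    ¬ Equ (r * act i (SL23.xx, 1) * r⁻¹) (a, 1) := by
  have h1 : (r * act i (SL23.xx, 1) * r⁻¹).1 = 1 := by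
    rcases hi with rfl | rfl <;> simp [act, SL23.cos_mul.1]
  rintro (h | h)
  · exact ha (((congrArg Prod.fst h).symm.trans h1))
  · have h2 := (congrArg Prod.fst h).symm.trans h1
    simp only [Prod.fst_mul] at h2
    exact ha' ((mul_eq_one_iff_eq_inv.1 h2).trans (by decide +kernel))

variable [Finite G]

/-- The centralizer of `x₁` in the centralizer of `z`. -/
theorem cent_xa {c : G} (hc : Commute c F.D.z) (h : Commute c F.xa) :
    ∃ r : Pr, (∃ i : Fin 3, r.1 = SL23.xx ^ (i : ℕ) ∨ r.1 = SL23.xx ^ (i : ℕ) * SL23.neg) ∧ c = F.D.f r := by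
  obtain ⟨r, i, rfl⟩ := F.decomp hc
  have he : Equ (r * act i (SL23.xx, 1) * r⁻¹) (SL23.xx, 1) := by
    rw [← F.D.eq_iff, ← F.conj_side]
    show _ * F.xa * _ = F.xa
    rw [h.eq, mul_inv_cancel_right]
  match i with
  | 0 =>
    change Commute (F.D.f r * 1) F.xa at h
    show ∃ r' : Pr, _ ∧ F.D.f r * 1 = _
    rw [mul_one] at h ⊢
    exact ⟨r, F.fst_of_comm h, rfl⟩
  | 1 =>
    exfalso
    rw [act_one_fst] at he
    rcases he with he | he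
    · exact SL23.not_flip_xx r.1 (congrArg Prod.fst he :)
    · exact absurd (show (1 : SL23) = 1 * SL23.neg from by
        have := (congrArg Prod.snd he :)
        simpa using this) (by decide +kernel)
  | 2 => exact absurd he (not_second (Or.inl rfl) (by decide +kernel) (by decide +kernel))
  | 3 => exact absurd he (not_second (Or.inr rfl) (by decide +kernel) (by decide +kernel))

/-- The centralizer of `X` in the centralizer of `z`. -/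
theorem cent_XX {c : G} (hc : Commute c F.D.z) (h1 : Commute c F.xa) (h2 : Commute c F.xb) :
    ∃ x ∈ F.XX, c = x ∨ c = x * F.D.z := by
  obtain ⟨r, ⟨i, hi⟩, rfl⟩ := F.cent_xa hc h1
  obtain ⟨j, hj⟩ := F.snd_of_comm h2
  exact ⟨_, F.xel_mem i j, F.f_form hi hj⟩

/-- The normalizer of `X` in the centralizer of `z`. -/
theorem norm_XX {c : G} (hc : Commute c F.D.z) (h1 : c * F.xa * c⁻¹ ∈ F.XX) (h2 : c * F.xb * c⁻¹ ∈ F.XX) :
    ∃ (x : G) (i : Fin 4) (e : Bool), x ∈ F.XX ∧ c = x * F.cos i * (if e then F.D.z else 1) := by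
  obtain ⟨r, i, rfl⟩ := F.decomp hc
  have key : ∀ p : Pr, F.D.f r * F.cos i * F.D.f p * (F.D.f r * F.cos i)⁻¹ ∈ F.XX →
      ∃ k l : Fin 3, Equ (r * act i p * r⁻¹) (SL23.xx ^ (k : ℕ), SL23.xx ^ (l : ℕ)) := by
    intro p hp
    obtain ⟨k, l, hkl⟩ := F.mem_XX.1 hp
    rw [F.conj_side, xel, F.D.eq_iff] at hkl
    exact ⟨k, l, hkl⟩
  obtain ⟨k, l, hk⟩ := key (SL23.xx, 1) h1
  obtain ⟨k', l', hk'⟩ := key (1, SL23.xx) h2
  have hflip : SL23.flip SL23.xx = SL23.xx⁻¹ := by decide +kernel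
  have hneg : ∀ a : SL23, ∀ k : Fin 3, a * SL23.xx * a⁻¹ ≠ SL23.xx ^ (k : ℕ) * SL23.neg ∧
      a * SL23.xx⁻¹ * a⁻¹ ≠ SL23.xx ^ (k : ℕ) * SL23.neg := by decide +kernel
  have main : (∃ u, (r.1 * SL23.xx * r.1⁻¹ = SL23.xx ^ ((u : Fin 3) : ℕ) ∨ r.1 * SL23.xx⁻¹ * r.1⁻¹ = SL23.xx ^ (u : ℕ))) ∧
      ∃ u, (r.2 * SL23.xx * r.2⁻¹ = SL23.xx ^ ((u : Fin 3) : ℕ) ∨ r.2 * SL23.xx⁻¹ * r.2⁻¹ = SL23.xx ^ (u : ℕ)) := by
    obtain ⟨a1, a2⟩ := equ_split hk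
    obtain ⟨b1, b2⟩ := equ_split hk'
    rcases act_cases r i with ⟨f1, f2⟩ | ⟨g1, g2⟩
    · rcases f1 with f1 | f1 <;> rcases f2 with f2 | f2 <;> rw [f1] at a1 <;> rw [f2] at b2
      · exact ⟨⟨k, Or.inl (a1.resolve_right (hneg _ _).1)⟩, ⟨l', Or.inl (b2.resolve_right (hneg _ _).1)⟩⟩
      · exact ⟨⟨k, Or.inl (a1.resolve_right (hneg _ _).1)⟩, ⟨l', Or.inr (b2.resolve_right (hneg _ _).2)⟩⟩
      · exact ⟨⟨k, Or.inr (a1.resolve_right (hneg _ _).2)⟩, ⟨l', Or.inl (b2.resolve_right (hneg _ _).1)⟩⟩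
      · exact ⟨⟨k, Or.inr (a1.resolve_right (hneg _ _).2)⟩, ⟨l', Or.inr (b2.resolve_right (hneg _ _).2)⟩⟩
    · rcases g1 with g1 | g1 <;> rcases g2 with g2 | g2 <;> rw [g1] at a2 <;> rw [g2] at b1
      · exact ⟨⟨k', Or.inl (b1.resolve_right (hneg _ _).1)⟩, ⟨l, Or.inl (a2.resolve_right (hneg _ _).1)⟩⟩
      · exact ⟨⟨k', Or.inr (b1.resolve_right (hneg _ _).2)⟩, ⟨l, Or.inl (a2.resolve_right (hneg _ _).1)⟩⟩
      · exact ⟨⟨k', Or.inl (b1.resolve_right (hneg _ _).1)⟩, ⟨l, Or.inr (a2.resolve_right (hneg _ _).2)⟩⟩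
      · exact ⟨⟨k', Or.inr (b1.resolve_right (hneg _ _).2)⟩, ⟨l, Or.inr (a2.resolve_right (hneg _ _).2)⟩⟩
  obtain ⟨⟨u, hu⟩, ⟨v, hv⟩⟩ := main
  obtain ⟨m, hm⟩ := SL23.norm_xx _ u hu
  obtain ⟨n, hn⟩ := SL23.norm_xx _ v hv
  rcases F.f_form hm hn with h | h
  · exact ⟨_, i, false, F.xel_mem m n, by rw [show F.D.f r = _ from h]; simp⟩
  · exact ⟨_, i, true, F.xel_mem m n, by
      rw [show F.D.f r = _ from h, mul_assoc, (F.cos_z i).symm.eq, ← mul_assoc]; simp⟩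

/-- In the centralizer of `x₁` the only involution commuting with `z` is `z`. -/
theorem invol_xa {c : G} (hc : Commute c F.D.z) (h : Commute c F.xa) (h2 : c * c = 1) : c = 1 ∨ c = F.D.z := by
  obtain ⟨r, ⟨i, hi⟩, rfl⟩ := F.cent_xa hc h
  have hsq : Equ (r * r) 1 := F.D.eq_iff.1 (by rw [map_mul, map_one]; exact h2)
  have h3 : Equ r 1 ∨ Equ r (SL23.neg, 1) := by
    obtain ⟨p, q⟩ := r
    rcases hi with h | h <;> subst h
    · exact (SL23.sq_one_x i q).1 hsq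
    · exact (SL23.sq_one_x i q).2 hsq
  rcases h3 with h | h
  · exact Or.inl ((F.D.eq_iff.2 h).trans (map_one _))
  · exact Or.inr ((F.D.eq_iff.2 h).trans F.D.f_neg)

/-- The centralizer of `x₁` has no four-group. -/
theorem no_four {i1 i2 : G} (a1 : Commute i1 F.xa) (a2 : Commute i2 F.xa) (h1 : i1 * i1 = 1) (n1 : i1 ≠ 1)
    (h2 : i2 * i2 = 1) (n2 : i2 ≠ 1) (hcomm : Commute i1 i2) : i1 = i2 := by
  classical
  haveI : Fact (Nat.Prime 2) := ⟨Nat.prime_two⟩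
  by_contra hne
  let C1 := centralizer ({F.xa} : Set G)
  have hmem : ∀ {x : G}, Commute x F.xa → x ∈ C1 := fun h => mem_centralizer_singleton_iff.2 h.eq
  let Z : C1 := ⟨F.D.z, hmem (F.D.f_comm _).symm⟩
  have hZ : Z * Z = 1 := Subtype.ext F.D.z_sq
  have hZ1 : Z ≠ 1 := fun h => F.D.z_ne (congrArg Subtype.val h)
  obtain ⟨P, hP⟩ := (IsPGroup.of_card (G := zpowers Z) (p := 2) (n := 1) (by
    rw [Nat.card_zpowers, pow_one]; exact orderOf_eq_prime (by rw [pow_two]; exact hZ) hZ1)).exists_le_sylow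
  -- every involution of `P` is `z`
  have honly : ∀ x : C1, x ∈ (P : Subgroup C1) → x * x = 1 → x ≠ 1 → Commute x Z → x = Z := by
    intro x _ hxx hx1 hxz
    rcases F.invol_xa (show Commute (x : G) F.D.z from congrArg Subtype.val hxz.eq)
      (mem_centralizer_singleton_iff.1 x.2) (congrArg Subtype.val hxx) with h | h
    · exact absurd (Subtype.ext h) hx1
    · exact Subtype.ext h
  haveI : Nontrivial (P : Subgroup C1) := ⟨⟨Z, hP (mem_zpowers Z)⟩, 1, fun h => hZ1 (congrArg Subtype.val h)⟩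
  haveI hnt := P.isPGroup'.center_nontrivial
  obtain ⟨w, hw⟩ := exists_prime_orderOf_dvd_card' (G := center (P : Subgroup C1)) 2 (by
    obtain ⟨n, hn⟩ := (P.isPGroup'.to_subgroup (center (P : Subgroup C1))).exists_card_eq
    have h1 := Finite.one_lt_card (α := center (P : Subgroup C1))
    rw [hn] at h1 ⊢
    refine dvd_pow_self 2 ?_
    rintro rfl
    norm_num at h1)
  have hww : ((w : (P : Subgroup C1)) : C1) * (w : (P : Subgroup C1)) = 1 := by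
    have h := pow_orderOf_eq_one w
    rw [hw, pow_two] at h
    exact congrArg (fun x : center (P : Subgroup C1) => ((x : (P : Subgroup C1)) : C1)) h
  have hw1 : ((w : (P : Subgroup C1)) : C1) ≠ 1 := fun h => by
    rw [show w = 1 from Subtype.ext (Subtype.ext h), orderOf_one] at hw; omega
  have hwc : ∀ x ∈ (P : Subgroup C1), Commute x ((w : (P : Subgroup C1)) : C1) := fun x hx =>
    congrArg Subtype.val ((Subgroup.mem_center_iff.1 w.2) ⟨x, hx⟩)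
  have hwZ : ((w : (P : Subgroup C1)) : C1) = Z :=
    honly _ (w : (P : Subgroup C1)).2 hww hw1 (hwc Z (hP (mem_zpowers Z))).symm
  -- conjugate the first involution to `z`
  let A : C1 := ⟨i1, hmem a1⟩
  let B : C1 := ⟨i2, hmem a2⟩
  have hA : A * A = 1 := Subtype.ext h1
  have hA1 : A ≠ 1 := fun h => n1 (congrArg Subtype.val h)
  obtain ⟨P', hP'⟩ := (IsPGroup.of_card (G := zpowers A) (p := 2) (n := 1) (by
    rw [Nat.card_zpowers, pow_one]; exact orderOf_eq_prime (by rw [pow_two]; exact hA) hA1)).exists_le_sylow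
  obtain ⟨h, hh⟩ := MulAction.exists_smul_eq C1 P' P
  have hin : h * A * h⁻¹ ∈ (P : Subgroup C1) := by
    rw [← hh, Sylow.smul_def, Sylow.pointwise_smul_def]
    exact ⟨A, hP' (mem_zpowers A), rfl⟩
  have e1 : h * A * h⁻¹ = Z :=
    honly _ hin (by rw [show h * A * h⁻¹ * (h * A * h⁻¹) = h * (A * A) * h⁻¹ by group, hA]; group)
      (fun e => hA1 (by rwa [mul_inv_eq_one, mul_eq_left] at e)) (hwZ ▸ hwc _ hin)
  have hBc : Commute (h * B * h⁻¹) Z := by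
    rw [← e1]
    exact (show Commute B A from Subtype.ext hcomm.eq.symm).map (MulAut.conj h).toMonoidHom
  rcases F.invol_xa (show Commute ((h * B * h⁻¹ : C1) : G) F.D.z from congrArg Subtype.val hBc.eq)
    (mem_centralizer_singleton_iff.1 (h * B * h⁻¹).2)
    (by
      have : h * B * h⁻¹ * (h * B * h⁻¹) = 1 := by
        rw [show h * B * h⁻¹ * (h * B * h⁻¹) = h * (B * B) * h⁻¹ by group, show B * B = 1 from Subtype.ext h2]; group
      exact congrArg Subtype.val this) with e | e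
  · have e' : h * B * h⁻¹ = 1 := Subtype.ext e
    rw [mul_inv_eq_one, mul_eq_left] at e'
    exact n2 (congrArg Subtype.val e')
  · have e' : h * B * h⁻¹ = Z := Subtype.ext e
    exact hne (congrArg Subtype.val (mul_left_cancel (mul_right_cancel (e1.trans e'.symm))))

end Frame

end CfsgLib.U43Type
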